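import Cfsg.Agent.Lib.Perm.Trans.ThreeDim.Nine.Frame

/-!
# The blocks of the centraliser of a left `D`
-/

set_option autoImplicit false
set_option linter.all false

namespace CfsgLib.Perm.Trans.ThreeDim.Nine

open scoped Matrix
open Matrix CfsgLib.Perm.Trans.ThreeDim.Heis

variable {F : Type*} [Field F] [Fintype F] (ω : Root F)

local notation "M3" => Matrix (Fin 3) (Fin 3) F
local notation "G3" => GL (Fin 3) F
local notation "M9" => Matrix I9 I9 F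
local notation "G9" => GL I9 F
local notation "Z3" => Subgroup.center (GL (Fin 3) F)
local notation "N3" => Subgroup.normalizer (gR ω : Set (GL (Fin 3) F))

/-- the small group and the ambient group -/
structure Base (U : Subgroup G3) (G : Subgroup G9) : Prop where
  two : (2 : F) ≠ 0
  det_U : ∀ g ∈ U, (g : M3).det = 1
  R_le : gR ω ≤ U
  Phi_mem : ∀ k, gPhi ω k ∈ U
  W_mem : ∀ g : G3, (g : M3) = Matrix.diagonal ![1, -1, -1] → g ∈ U
  simple : ∀ L : Subgroup G3, L ≤ U → (∀ u ∈ U, ∀ x ∈ L, u * x * u⁻¹ ∈ L) → ¬ L ≤ Z3 → L = U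
  det_G : ∀ g ∈ G, (g : M9).det = 1
  bd_mem : ∀ g : Fin 3 → G3, bd g ∈ G → (∀ x, (g x : M3).det = 1) → ∀ x, g x ∈ U
  pr_mem : ∀ a b : G3, pr two (a, b) ∈ G → (a : M3).det = 1 → (b : M3).det = 1 → a ∈ U ∧ b ∈ U

/-- the small group with the dichotomy -/
structure Ctx (U : Subgroup G3) (G : Subgroup G9) : Prop extends Base ω U G where
  dich : ∀ M : Subgroup G3, gR ω ≤ M → (∀ k, gPhi ω k ∈ M) → M ≤ U → M ≤ N3 ∨ M = U

/-- an overgroup of the frame normalizer -/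
structure Over (G H : Subgroup G9) : Prop where
  le : H ≤ G
  R_mem : ∀ a ∈ gR ω, r1 a ∈ H
  Phi_mem : ∀ k, r1 (gPhi ω k) ∈ H
  sw_mem : sw ∈ H
  gauss_mem : bd (fun x : Fin 3 => gD ω ^ (x : ℕ)) ∈ H

theorem det_of_mem_gR {g : G3} (hg : g ∈ gR ω) : (g : M3).det = 1 := by
  have : gR ω ≤ Cfsg.Geo.specialLinear (Fin 3) F := by
    rw [gR, Subgroup.closure_le]
    rintro _ (rfl | rfl) <;> refine mem_SL_iff.2 ?_
    · rw [val_gD, det_dm, ← mul_assoc, ω.cube]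
    · rw [val_gS, det_sm]
  exact mem_SL_iff.1 (this hg)

theorem det_gPhi (k : ℕ) : (gPhi ω k : M3).det = 1 := det_phim ω (ω.pow_cube k)

variable {ω}

theorem Over.l1_mem {G H : Subgroup G9} (o : Over ω G H) {a : G3} (ha : r1 a ∈ H) : l1 a ∈ H := by
  rw [← sw_r1 a]
  exact mul_mem (mul_mem o.sw_mem ha) o.sw_mem

variable (ω)

/-- an element normalising a group in the normalizer normalises `⟨D, S⟩` -/
theorem mem_normalizer_of_conj {M0 : Subgroup G3} (hM0 : M0 ≤ N3) (hR : gR ω ≤ M0)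
    (hP : gPhi ω 0 ∈ M0) (hdet : ∀ m ∈ M0, (m : M3).det = 1) {g : G3}
    (hg : ∀ m ∈ M0, g * m * g⁻¹ ∈ M0) : g ∈ N3 := by
  have hinv : ∀ m ∈ M0, g⁻¹ * m * g ∈ M0 := by
    intro m hm
    have hmap : M0.map (MulAut.conj g).toMonoidHom = M0 := by
      refine Subgroup.eq_of_le_of_card_ge (by rintro _ ⟨x, hx, rfl⟩; exact hg x hx) ?_
      exact (Subgroup.card_map_of_injective (MulAut.conj g).injective).ge
    obtain ⟨x, hx, e⟩ := hmap.ge hm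
    rw [← e]
    simpa [mul_assoc] using hx
  obtain ⟨R', hR'⟩ : ∃ R', R' = (gR ω).map (MulAut.conj g).toMonoidHom := ⟨_, rfl⟩
  have hR'M : R' ≤ M0 := by
    rw [hR']; rintro _ ⟨x, hx, rfl⟩; exact hg x (hR hx)
  have hnorm : ∀ m ∈ M0, ∀ x ∈ R', m * x * m⁻¹ ∈ R' := by
    intro m hm x hx
    rw [hR'] at hx ⊢
    obtain ⟨y, hy, rfl⟩ := hx
    refine ⟨(g⁻¹ * m * g) * y * (g⁻¹ * m * g)⁻¹,
      ((Subgroup.mem_normalizer_iff.1 (hM0 (hinv m hm))) y).1 hy, ?_⟩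
    show g * _ * g⁻¹ = m * (g * y * g⁻¹) * m⁻¹
    group
  have hcomm : ∀ a ∈ R', ∀ s ∈ gR ω, a * s * a⁻¹ * s⁻¹ ∈ R' ∧ a * s * a⁻¹ * s⁻¹ ∈ gR ω := fun a ha s hs =>
    ⟨by rw [show a * s * a⁻¹ * s⁻¹ = a * (s * a⁻¹ * s⁻¹) by group]
        exact mul_mem ha (hnorm s (hR hs) _ (inv_mem ha)),
      mul_mem (((Subgroup.mem_normalizer_iff.1 (hM0 (hR'M ha))) s).1 hs) (inv_mem hs)⟩
  suffices h : R' ≤ gR ω by
    refine CfsgLib.Perm.Elusive.mem_normalizer_of_generators (a := gD ω) (b := gS) rfl ?_ ?_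
    · exact h (hR' ▸ Subgroup.mem_map_of_mem _ (gD_mem ω))
    · exact h (hR' ▸ Subgroup.mem_map_of_mem _ (gS_mem ω))
  by_cases hc : ∀ a ∈ R', a * gD ω * a⁻¹ * (gD ω)⁻¹ ∈ Z3 ∧ a * gS * a⁻¹ * gS⁻¹ ∈ Z3
  · intro a ha
    obtain ⟨i, j, hm⟩ := exists_monomial ω (hdet a (hR'M ha)) (hc a ha).1 (hc a ha).2
    have hmR : gS ^ i * gD ω ^ j ∈ gR ω := mul_mem (pow_mem (gS_mem ω) _) (pow_mem (gD_mem ω) _)
    obtain ⟨k, hk⟩ := eq_gZ_pow ω hm (hdet _ (mul_mem (inv_mem (hR hmR)) (hR'M ha)))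
    rw [← mul_inv_cancel_left (gS ^ i * gD ω ^ j) a, hk]
    exact mul_mem hmR (pow_mem (gZ_mem ω) _)
  · push Not at hc
    obtain ⟨a, ha, hac⟩ := hc
    obtain ⟨c, hcR, hcR', hcc⟩ : ∃ c, c ∈ gR ω ∧ c ∈ R' ∧ c ∉ Z3 := by
      by_cases h1 : a * gD ω * a⁻¹ * (gD ω)⁻¹ ∈ Z3
      · exact ⟨_, (hcomm a ha _ (gS_mem ω)).2, (hcomm a ha _ (gS_mem ω)).1, hac h1⟩
      · exact ⟨_, (hcomm a ha _ (gD_mem ω)).2, (hcomm a ha _ (gD_mem ω)).1, h1⟩
    have hle : gR ω ≤ R' := gR_le_of_noncentral ω (fun x hx => hnorm _ (hR (gD_mem ω)) x hx)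
      (fun x hx => hnorm _ (hR (gS_mem ω)) x hx) (fun x hx => hnorm _ hP x hx) hcR hcR' hcc
    refine le_of_eq (Subgroup.eq_of_le_of_card_ge hle ?_).symm
    rw [hR', Subgroup.card_map_of_injective (MulAut.conj g).injective]

/-- the diagonal blocks of determinant one in `H` -/
def Ks (H : Subgroup G9) : Subgroup (Fin 3 → G3) :=
  H.comap bd ⊓ Subgroup.pi Set.univ fun _ => Cfsg.Geo.specialLinear (Fin 3) F

theorem mem_Ks {H : Subgroup G9} {g : Fin 3 → G3} :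
    g ∈ Ks H ↔ bd g ∈ H ∧ ∀ x, (g x : M3).det = 1 := by
  simp only [Ks, Subgroup.mem_inf, Subgroup.mem_comap, Subgroup.mem_pi, Set.mem_univ, forall_true_left]
  exact and_congr_right fun _ => forall_congr' fun x => mem_SL_iff

theorem l1_gS_bd (g : Fin 3 → G3) : l1 gS * bd g = bd (fun x => g (x - 1)) * (l1 gS : G9) := by
  refine Units.ext (Matrix.ext fun ⟨x, i⟩ ⟨y, j⟩ => ?_)
  simp only [Units.val_mul, Matrix.mul_apply, Fintype.sum_prod_type, l1_apply, bd_apply, val_gS, mul_ite, mul_one,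
    mul_zero, ite_mul, zero_mul, Finset.sum_ite_eq', Finset.sum_ite_eq, Finset.mem_univ, if_true]
  simp only [Fin.sum_univ_three]
  fin_cases x <;> fin_cases y <;> simp [sm, show (-1 : Fin 3) = 2 from rfl] <;> fin_cases i <;> simp

variable {ω}
variable {U : Subgroup (GL (Fin 3) F)} {G H : Subgroup (GL I9 F)}

/-- the projection of the block group -/
def blockImage (H : Subgroup G9) (x : Fin 3) : Subgroup G3 :=
  (Ks H).map (Pi.evalMonoidHom (fun _ : Fin 3 => G3) x)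

theorem mem_blockImage {x : Fin 3} {a : G3} : a ∈ blockImage H x ↔ ∃ g ∈ Ks H, g x = a := Iff.rfl

theorem blockImage_facts (c : Base ω U G) (o : Over ω G H) (x : Fin 3) :
    gR ω ≤ blockImage H x ∧ (∀ k, gPhi ω k ∈ blockImage H x) ∧ blockImage H x ≤ U :=
  ⟨fun a ha => ⟨fun _ => a, mem_Ks.2 ⟨o.R_mem a ha, fun _ => det_of_mem_gR ω ha⟩, rfl⟩,
    fun k => ⟨fun _ => gPhi ω k, mem_Ks.2 ⟨o.Phi_mem k, fun _ => det_gPhi ω k⟩, rfl⟩,
    fun a ha => by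
      obtain ⟨g, hg, rfl⟩ := ha
      obtain ⟨h1, h2⟩ := mem_Ks.1 hg
      exact c.bd_mem g (o.le h1) h2 x⟩

theorem shift_mem_Ks (o : Over ω G H) {g : Fin 3 → G3} (hg : g ∈ Ks H) : (fun x => g (x - 1)) ∈ Ks H := by
  obtain ⟨h1, h2⟩ := mem_Ks.1 hg
  refine mem_Ks.2 ⟨?_, fun x => h2 _⟩
  rw [eq_mul_inv_of_mul_eq (l1_gS_bd g).symm]
  exact mul_mem (mul_mem (o.l1_mem (o.R_mem _ (gS_mem ω))) h1) (inv_mem (o.l1_mem (o.R_mem _ (gS_mem ω))))

/-- the commutator of the Gauss element with `Φ 0` -/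
theorem exists_gauss_comm (o : Over ω G H) :
    ∃ e ∈ Ks H, e 0 = 1 ∧ ∀ x : Fin 3, x ≠ 0 → e x ∈ gR ω ∧ e x ∉ Z3 := by
  obtain ⟨e, he⟩ : ∃ e : Fin 3 → G3,
      e = fun x : Fin 3 => gD ω ^ (x : ℕ) * gPhi ω 0 * (gD ω ^ (x : ℕ))⁻¹ * (gPhi ω 0)⁻¹ := ⟨_, rfl⟩
  have heK : e ∈ Ks H := by
    refine mem_Ks.2 ⟨?_, fun x => ?_⟩
    · have : bd e = bd (fun x : Fin 3 => gD ω ^ (x : ℕ)) * r1 (gPhi ω 0) *
          (bd (fun x : Fin 3 => gD ω ^ (x : ℕ)))⁻¹ * (r1 (gPhi ω 0))⁻¹ := by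
        rw [r1_eq, ← map_inv, ← map_inv, ← map_mul, ← map_mul, ← map_mul, he]; rfl
      rw [this]
      exact mul_mem (mul_mem (mul_mem o.gauss_mem (o.Phi_mem 0)) (inv_mem o.gauss_mem)) (inv_mem (o.Phi_mem 0))
    · rw [he]
      simp only [Units.val_mul, Matrix.det_mul, det_gPhi, mul_one]
      have h1 : ((gD ω ^ (x : ℕ) : G3) : M3).det = 1 := det_of_mem_gR ω (pow_mem (gD_mem ω) _)
      have h2 : (((gD ω ^ (x : ℕ))⁻¹ : G3) : M3).det = 1 := det_of_mem_gR ω (inv_mem (pow_mem (gD_mem ω) _))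
      have h3 : (((gPhi ω 0)⁻¹ : G3) : M3).det = 1 := by
        have := congrArg Matrix.det (Units.mul_inv (gPhi ω 0))
        rwa [Matrix.det_mul, det_gPhi, one_mul, Matrix.det_one] at this
      rw [h1, h2, h3, one_mul, one_mul]
  have he0 : e 0 = 1 := by rw [he]; simp
  have hex : ∀ x : Fin 3, x ≠ 0 → e x ∈ gR ω ∧ e x ∉ Z3 := by
    intro x hx
    have hDR : gD ω ^ (x : ℕ) ∈ gR ω := pow_mem (gD_mem ω) _
    have heq : e x = gD ω ^ (x : ℕ) * (gPhi ω 0 * gD ω ^ (x : ℕ) * (gPhi ω 0)⁻¹)⁻¹ := by rw [he]; group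
    refine ⟨?_, fun h => ?_⟩
    · rw [heq]
      exact mul_mem hDR (inv_mem (((Subgroup.mem_normalizer_iff.1 (gPhi_mem_normalizer ω 0)) _).1 hDR))
    · rw [heq] at h
      have h1 := inv_mem h
      rw [_root_.mul_inv_rev, inv_inv] at h1
      have h2 := (inferInstance : (Z3).Normal).conj_mem _ h1 (gD ω ^ (x : ℕ))⁻¹
      rw [inv_inv, show (gD ω ^ (x : ℕ))⁻¹ * (gPhi ω 0 * gD ω ^ (x : ℕ) * (gPhi ω 0)⁻¹ * (gD ω ^ (x : ℕ))⁻¹) *
          gD ω ^ (x : ℕ) = (gD ω ^ (x : ℕ))⁻¹ * (gPhi ω 0 * gD ω ^ (x : ℕ) * (gPhi ω 0)⁻¹) by group] at h2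
      have h3 := central_of_gPhi_fixed ω hDR h2
      rw [show gD ω ^ (x : ℕ) = nf ω 0 0 (x : ℕ) by simp [nf], nf_central] at h3
      have := x.isLt
      have hx' : (x : ℕ) ≠ 0 := fun e => hx (Fin.ext e)
      omega
  exact ⟨e, heK, he0, hex⟩

theorem singles_of_full (c : Base ω U G) (o : Over ω G H) {x0 : Fin 3} (hx0 : blockImage H x0 = U) :
    ∀ x, ∀ a ∈ U, bd (Pi.mulSingle x a) ∈ H := by
  obtain ⟨M, hM⟩ : ∃ M : Fin 3 → Subgroup G3, M = fun x => (Ks H).map (Pi.evalMonoidHom (fun _ : Fin 3 => G3) x) :=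
    ⟨_, rfl⟩
  have hMmem : ∀ x a, a ∈ M x ↔ ∃ g ∈ Ks H, g x = a := fun x a => by rw [hM]; rfl
  have hMU : ∀ x, M x ≤ U := fun x => hM ▸ (blockImage_facts c o x).2.2
  have hconst : ∀ a, r1 a ∈ H → (a : M3).det = 1 → (fun _ : Fin 3 => a) ∈ Ks H := fun a ha hd =>
    mem_Ks.2 ⟨ha, fun _ => hd⟩
  have hshift : ∀ g ∈ Ks H, (fun x => g (x - 1)) ∈ Ks H := fun g hg => shift_mem_Ks o hg
  have hx0U : M x0 = U := hM ▸ hx0
  have hnext : ∀ x, M x = U → M (x + 1) = U := fun x hx => le_antisymm (hMU _) fun a ha => by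
    rw [← hx] at ha
    obtain ⟨g, hg, rfl⟩ := (hMmem x a).1 ha
    exact (hMmem _ _).2 ⟨_, hshift g hg, by simp⟩
  have hfull : ∀ x, M x = U := fun x => by
    have h1 := hnext _ hx0U
    have h2 := hnext _ h1
    have : x = x0 ∨ x = x0 + 1 ∨ x = x0 + 1 + 1 :=
      (by decide : ∀ a b : Fin 3, a = b ∨ a = b + 1 ∨ a = b + 1 + 1) x x0
    rcases this with rfl | rfl | rfl <;> assumption
  -- the commutator of the Gauss element
  obtain ⟨e, heK, he0, hex⟩ := exists_gauss_comm o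
  -- elements with trivial block zero
  have hsub : ∀ y : Fin 3, y ≠ 0 → ∀ a ∈ U, ∃ g ∈ Ks H, g 0 = 1 ∧ g y = a := by
    intro y hy
    obtain ⟨L, hL⟩ : ∃ L, L = (Ks H ⊓ (Pi.evalMonoidHom (fun _ : Fin 3 => G3) 0).ker).map
        (Pi.evalMonoidHom (fun _ : Fin 3 => G3) y) := ⟨_, rfl⟩
    have hLU : L = U := by
      refine c.simple L ?_ ?_ ?_
      · rw [hL, ← hfull y, hM]; exact Subgroup.map_mono inf_le_left
      · intro u hu z hz
        rw [← hfull y] at hu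
        obtain ⟨g, hg, rfl⟩ := (hMmem y u).1 hu
        rw [hL] at hz ⊢
        obtain ⟨k, ⟨hk, hk0⟩, rfl⟩ := hz
        have hk0' : k 0 = 1 := hk0
        refine ⟨g * k * g⁻¹, ⟨(Ks H).mul_mem ((Ks H).mul_mem hg hk) ((Ks H).inv_mem hg), ?_⟩, rfl⟩
        show g 0 * k 0 * (g 0)⁻¹ = 1
        rw [hk0', mul_one, mul_inv_cancel]
      · intro hle
        exact (hex y hy).2 (hle (hL ▸ ⟨e, ⟨heK, he0⟩, rfl⟩))
    intro a ha
    rw [← hLU, hL] at ha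
    obtain ⟨g, ⟨hg, hg0⟩, hgy⟩ := ha
    exact ⟨g, hg, hg0, hgy⟩
  -- elements supported on block two
  have hsh2 : ∀ a ∈ U, ∃ g ∈ Ks H, g 1 = 1 ∧ g 2 = a := fun a ha => by
    obtain ⟨g, hg, hg0, hg1⟩ := hsub 1 (by decide) a ha
    exact ⟨_, hshift g hg, by simpa using hg0, by simpa using hg1⟩
  obtain ⟨L, hL⟩ : ∃ L : Subgroup G3, L = ((Ks H).comap (MonoidHom.mulSingle (fun _ : Fin 3 => G3) 2)) := ⟨_, rfl⟩
  have hLmem : ∀ a, a ∈ L ↔ Pi.mulSingle (2 : Fin 3) a ∈ Ks H := fun a => by rw [hL]; rfl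
  have hLU : L = U := by
    refine c.simple L (fun a ha => ?_) ?_ ?_
    · obtain ⟨h1, h2⟩ := mem_Ks.1 ((hLmem a).1 ha)
      have := c.bd_mem _ (o.le h1) h2 2
      rwa [Pi.mulSingle_eq_same] at this
    · intro u hu z hz
      rw [← hfull 2] at hu
      obtain ⟨g, hg, rfl⟩ := (hMmem 2 u).1 hu
      rw [hLmem] at hz ⊢
      rw [show Pi.mulSingle (2 : Fin 3) (g 2 * z * (g 2)⁻¹) = g * Pi.mulSingle (2 : Fin 3) z * g⁻¹ by
        funext x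
        by_cases hx : x = 2
        · subst hx; simp
        · simp [hx]]
      exact mul_mem (mul_mem hg hz) (inv_mem hg)
    · intro hle
      obtain ⟨hr, hrc⟩ := hex 2 (by decide)
      refine hrc (central_of_gPhi_fixed ω hr ?_)
      obtain ⟨g, hg, hg1, hg2⟩ := hsh2 _ (c.Phi_mem 0)
      have hmem : e⁻¹ * (g * e * g⁻¹) ∈ Ks H := mul_mem (inv_mem heK) (mul_mem (mul_mem hg heK) (inv_mem hg))
      have hs : e⁻¹ * (g * e * g⁻¹) = Pi.mulSingle (2 : Fin 3) ((e 2)⁻¹ * (gPhi ω 0 * e 2 * (gPhi ω 0)⁻¹)) := by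
        funext x
        fin_cases x
        · simp [he0]
        · simp [hg1]
        · simp [hg2]
      exact hle ((hLmem _).2 (hs ▸ hmem))
  intro x a ha
  have hshift2 : ∀ y, Pi.mulSingle y a ∈ Ks H → Pi.mulSingle (y + 1) a ∈ Ks H := fun y hy => by
    have := hshift _ hy
    rwa [show (fun x => (Pi.mulSingle y a : Fin 3 → G3) (x - 1)) = Pi.mulSingle (y + 1) a by
      funext x
      by_cases hx : x = y + 1
      · subst hx; simp
      · rw [Pi.mulSingle_eq_of_ne hx, Pi.mulSingle_eq_of_ne fun e => hx (by rw [← e, sub_add_cancel])]] at this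
  have h2 : Pi.mulSingle (2 : Fin 3) a ∈ Ks H := (hLmem a).1 (hLU.ge ha)
  have h0 : Pi.mulSingle (0 : Fin 3) a ∈ Ks H := hshift2 2 h2
  have h1 : Pi.mulSingle (1 : Fin 3) a ∈ Ks H := hshift2 0 h0
  refine (mem_Ks.1 (?_ : Pi.mulSingle x a ∈ Ks H)).1
  fin_cases x <;> assumption

theorem blocks_dichotomy (c : Ctx ω U G) (o : Over ω G H) :
    (∀ g ∈ Ks H, ∀ x, g x ∈ N3) ∨ ∀ x, ∀ a ∈ U, bd (Pi.mulSingle x a) ∈ H := by
  by_cases hN : ∀ x, blockImage H x ≤ N3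
  · exact Or.inl fun g hg x => hN x ⟨g, hg, rfl⟩
  push Not at hN
  obtain ⟨x0, hx0⟩ := hN
  obtain ⟨hR, hP, hU⟩ := blockImage_facts c.toBase o x0
  exact Or.inr (singles_of_full c.toBase o ((c.dich _ hR hP hU).resolve_left hx0))

/-- the blocks in the exceptional case -/
theorem blocks_normalize (c : Base ω U G) (o : Over ω G H) (h : ∀ g ∈ Ks H, ∀ x, g x ∈ N3) {g : Fin 3 → G3}
    (hg : bd g ∈ H) (x : Fin 3) : g x ∈ N3 := by
  obtain ⟨M, hM⟩ : ∃ M, M = (Ks H).map (Pi.evalMonoidHom (fun _ : Fin 3 => G3) x) := ⟨_, rfl⟩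
  have hconst : ∀ a, r1 a ∈ H → (a : M3).det = 1 → a ∈ M := fun a ha hd =>
    hM ▸ ⟨fun _ => a, mem_Ks.2 ⟨ha, fun _ => hd⟩, rfl⟩
  refine mem_normalizer_of_conj ω (M0 := M) ?_ (fun a ha => hconst a (o.R_mem a ha) (det_of_mem_gR ω ha))
    (hconst _ (o.Phi_mem 0) (det_gPhi ω 0)) ?_ ?_
  · rw [hM]; rintro _ ⟨k, hk, rfl⟩; exact h k hk x
  · rw [hM]; rintro _ ⟨k, hk, rfl⟩; exact (mem_Ks.1 hk).2 x
  · rw [hM]
    rintro _ ⟨k, hk, rfl⟩
    obtain ⟨h1, h2⟩ := mem_Ks.1 hk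
    refine ⟨g * k * g⁻¹, mem_Ks.2 ⟨?_, fun y => ?_⟩, rfl⟩
    · rw [map_mul, map_mul, map_inv]
      exact mul_mem (mul_mem hg h1) (inv_mem hg)
    · simp only [Pi.mul_apply, Pi.inv_apply, Units.val_mul, Matrix.det_mul, h2, mul_one]
      rw [← Matrix.det_mul, Units.mul_inv, Matrix.det_one]

end CfsgLib.Perm.Trans.ThreeDim.Nine
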