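import Cfsg.Agent.Lib.Perm.Trans.ThreeDim.Nine.Data
import Cfsg.Agent.Lib.Perm.Trans.ThreeDim.HeisData

/-!
# The clause of class six for `SL₉`
-/

set_option autoImplicit false
set_option linter.all false

namespace CfsgLib.Perm.Trans.ThreeDim.Nine

open scoped Matrix
open Matrix Cfsg.Geo CfsgLib.Perm.Trans.ThreeDim.Heis

theorem isMaximalIn_map_equiv {G G' : Type*} [Group G] [Group G'] (e : G ≃* G') {K H : Subgroup G}
    (h : IsMaximalIn K H) : IsMaximalIn (K.map e.toMonoidHom) (H.map e.toMonoidHom) := by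
  refine ⟨(Subgroup.map_lt_map_iff_of_injective (f := e.toMonoidHom) e.injective).2 h.1, fun M hHM hMK => ?_⟩
  rcases h.2 (M.comap e.toMonoidHom) (Subgroup.map_le_iff_le_comap.1 hHM) (fun x hx => by
      obtain ⟨y, hy, hyx⟩ := hMK hx
      obtain rfl : y = x := e.injective hyx
      exact hy) with h' | h'
  · left
    rw [← h', Subgroup.map_comap_eq_self_of_surjective e.surjective]
  · right
    rw [← h', Subgroup.map_comap_eq_self_of_surjective e.surjective]

variable {F : Type*} [Field F] [Fintype F]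

/-- commutators are scalars and some pair does not commute -/
theorem scalar_commutators {n : ℕ} {R : Subgroup (GL (Fin n) F)} (hsymp : IsSymplecticTypeGroup 3 R)
    (habs : ActsAbsolutelyIrreducibly (matrixSet R)) (hZ : Nat.card (Subgroup.center R) = 3)
    (hbig : 3 < Nat.card R) :
    (∀ g ∈ R, g ^ 3 = 1) ∧ (∀ x ∈ R, ∀ y ∈ R, ∃ c : F,
      ((x * y * x⁻¹ * y⁻¹ : GL (Fin n) F) : Matrix (Fin n) (Fin n) F) = c • 1) ∧ ∃ x ∈ R, ∃ y ∈ R, x * y ≠ y * x := by
  haveI : Finite R := Nat.finite_of_card_ne_zero (by omega)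
  have h3 : ∀ g : R, g ^ 3 = 1 := fun g => by
    have := Monoid.pow_exponent_eq_one g
    rwa [hsymp.exponent_eq, show 3 * Nat.gcd 2 3 = 3 by rfl] at this
  have hcen := commutator_central_of_exp_three hsymp.pGroup hsymp.cyclic_of_characteristic h3
  refine ⟨fun g hg => congrArg Subtype.val (h3 ⟨g, hg⟩), fun x hx y hy => ?_, ?_⟩
  · obtain ⟨z, hz⟩ : ∃ z : R, z = ⟨x, hx⟩ * ⟨y, hy⟩ * (⟨x, hx⟩ : R)⁻¹ * (⟨y, hy⟩ : R)⁻¹ := ⟨_, rfl⟩
    have hzc : z ∈ Subgroup.center R := hcen (by
      rw [hz, commutator_def, ← commutatorElement_def]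
      exact Subgroup.commutator_mem_commutator (Subgroup.mem_top _) (Subgroup.mem_top _))
    refine habs.2 _ ?_
    rintro _ ⟨w, hw, rfl⟩
    have := congrArg (fun u : R => ((u : GL (Fin n) F) : Matrix (Fin n) (Fin n) F)) (Subgroup.mem_center_iff.1 hzc ⟨w, hw⟩)
    rw [hz] at this
    simpa using this.symm
  · by_contra hcon
    push Not at hcon
    have htop : Subgroup.center R = ⊤ :=
      eq_top_iff.2 fun a _ => Subgroup.mem_center_iff.2 fun b => Subtype.ext (hcon b b.2 a a.2)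
    rw [htop, Nat.card_congr Subgroup.topEquiv.toEquiv] at hZ
    omega

/-- The clause of class six for `SL₉`. -/
theorem sl9_symplectic_maximal :
    (∃ p : ℕ, p.Prime ∧ Fintype.card F = p ∧ (p % 3 = 1)) → ∀ R : Subgroup (Matrix.GeneralLinearGroup (Fin 9) F),
      IsLinearSymplecticTypeData 3 R →
        IsMaximalIn (specialLinear (Fin 9) F) (subgroupNormalizer R ⊓ specialLinear (Fin 9) F) := by
  rintro ⟨p, hp, hcard, hp3⟩ R ⟨hsymp, habs, q, e, -, -, hcases⟩
  haveI : Fact p.Prime := ⟨hp⟩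
  haveI : CharP F p := charP_of_card_eq_prime hcard
  have hp7 : 7 ≤ p := by
    have h2 := hp.two_le
    by_contra h
    interval_cases p <;> first | omega | norm_num at hp
  obtain ⟨hZ, hbig⟩ : Nat.card (Subgroup.center R) = 3 ∧ 3 < Nat.card R := by
    rcases hcases with ⟨-, -, hZ, m, hm1, hm⟩ | ⟨h, -⟩ | ⟨h, -⟩
    · refine ⟨hZ, ?_⟩
      rw [hm]
      calc 3 < 3 ^ 3 := by norm_num
        _ ≤ 3 ^ (1 + 2 * m) := Nat.pow_le_pow_right (by norm_num) (by omega)
    · omega
    · omega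
  obtain ⟨μ, hμ⟩ : ∃ om : F, om * om + om + 1 = 0 := by
    have h : 3 ∣ Nat.card Fˣ := by
      rw [Nat.card_units, Nat.card_eq_fintype_card, hcard]; omega
    haveI : Fact (Nat.Prime 3) := ⟨Nat.prime_three⟩
    obtain ⟨u, hu⟩ := exists_prime_orderOf_dvd_card' 3 h
    have h1 : (u : F) ≠ 1 := fun e' => by
      rw [show u = 1 from Units.ext e', orderOf_one] at hu; omega
    have h3 : (u : F) * u * u = 1 := by
      have := congrArg Units.val (hu ▸ pow_orderOf_eq_one u)
      simpa [pow_succ] using this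
    exact ⟨u, (mul_eq_zero.1 (show ((u : F) - 1) * ((u : F) * u + u + 1) = 0 by linear_combination h3)).resolve_left
      (sub_ne_zero.2 h1)⟩
  have h3F : (3 : F) ≠ 0 := fun h => by
    have := (CharP.cast_eq_zero_iff F p 3).1 (by exact_mod_cast h)
    have := Nat.le_of_dvd (by norm_num) this
    omega
  let ω : Root F := ⟨μ, hμ, h3F⟩
  obtain ⟨hcube, hcom, hna⟩ := scalar_commutators hsymp habs hZ hbig
  obtain ⟨P, hR, -, -⟩ := exists_frame9 ω hcube habs hcom hna
  have hSL : ∀ (P x : GL (Fin 9) F), x ∈ specialLinear (Fin 9) F → P * x * P⁻¹ ∈ specialLinear (Fin 9) F :=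
    fun P x hx => (inferInstance : (MonoidHom.ker (Matrix.GeneralLinearGroup.det : GL (Fin 9) F →* Fˣ)).Normal).conj_mem x hx P
  have h := isMaximalIn_map (MulAut.conj P) (isMaximalIn_map_equiv re9 (sl9_frame_maximal ω hp hcard hp7))
  rw [Subgroup.map_inf_eq (Subgroup.normalizer (R9 ω : Set (GL I9 F))) (specialLinear I9 F) re9.toMonoidHom re9.injective,
    Subgroup.map_inf_eq _ _ _ (MulAut.conj P).injective, map_re9_SL,
    Subgroup.map_equiv_normalizer_eq, Subgroup.map_equiv_normalizer_eq,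
    map_conj_eq_self (hSL P) (fun x hx => by simpa using hSL P⁻¹ x hx), ← hR] at h
  exact h

end CfsgLib.Perm.Trans.ThreeDim.Nine
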