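import Cfsg.Agent.Lib.Perm.Trans.ThreeDim.Nine.SL
import Cfsg.Agent.Lib.Perm.Asch.SymType

/-!
# Frames of absolutely irreducible groups of exponent three and class two in dimension nine
-/

set_option autoImplicit false
set_option linter.all false

namespace CfsgLib.Perm.Trans.ThreeDim.Nine

open scoped Matrix
open Matrix Cfsg.Geo CfsgLib.Perm.Trans.ThreeDim.Heis

variable {F : Type*} [Field F] [Fintype F]

/-- commutation up to a central element propagates to powers -/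
theorem pow_swap_left {G : Type*} [Group G] {z : G} (hz : ∀ w, Commute z w) {x y : G} (h : x * y = z * (y * x))
    (q : ℕ) : x ^ q * y = z ^ q * (y * x ^ q) := by
  induction q with
  | zero => simp
  | succ q ih =>
    calc x ^ (q + 1) * y = x ^ q * z * (y * x) := by rw [pow_succ, mul_assoc, h, mul_assoc]
      _ = z * (x ^ q * y) * x := by rw [← (hz (x ^ q)).eq]; group
      _ = z ^ (q + 1) * (y * x ^ (q + 1)) := by rw [ih, pow_succ', pow_succ]; group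

theorem pow_swap_right {G : Type*} [Group G] {z : G} (hz : ∀ w, Commute z w) {x y : G} (h : x * y = z * (y * x))
    (q : ℕ) : x * y ^ q = z ^ q * (y ^ q * x) := by
  induction q with
  | zero => simp
  | succ q ih =>
    calc x * y ^ (q + 1) = z ^ q * y ^ q * (x * y) := by rw [pow_succ, ← mul_assoc, ih]; group
      _ = z ^ q * (y ^ q * z) * (y * x) := by rw [h]; group
      _ = z ^ (q + 1) * (y ^ (q + 1) * x) := by rw [← (hz (y ^ q)).eq, pow_succ, pow_succ]; group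

/-- a vector fixed by `a` -/
theorem exists_fixed_vec {ι : Type} [Fintype ι] [DecidableEq ι] (ω : Root F) {z a b : GL ι F}
    (hz : (z : Matrix ι ι F) = ω.μ • 1) (hzc : ∀ w, Commute z w) (ha : a ^ 3 = 1) (hab : a * b = z * (b * a))
    (W : Submodule F (ι → F)) (haW : ∀ v ∈ W, (a : Matrix ι ι F) *ᵥ v ∈ W)
    (hbW : ∀ v ∈ W, (b : Matrix ι ι F) *ᵥ v ∈ W) {w : ι → F} (hw : w ∈ W) (hw0 : w ≠ 0) :
    ∃ v ∈ W, v ≠ 0 ∧ (a : Matrix ι ι F) *ᵥ v = v := by
  have ha3 : (a : Matrix ι ι F) *ᵥ ((a : Matrix ι ι F) *ᵥ ((a : Matrix ι ι F) *ᵥ w)) = w := by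
    rw [Matrix.mulVec_mulVec, Matrix.mulVec_mulVec, ← Units.val_mul, ← Units.val_mul,
      show a * a * a = 1 by rw [← sq, ← pow_succ]; exact ha, Units.val_one, Matrix.one_mulVec]
  obtain ⟨u, hu⟩ : ∃ u : F → ι → F, u = fun c =>
      w + c • ((a : Matrix ι ι F) *ᵥ w) + (c * c) • ((a : Matrix ι ι F) *ᵥ ((a : Matrix ι ι F) *ᵥ w)) := ⟨_, rfl⟩
  have heig : ∀ c, c * c * c = 1 → (a : Matrix ι ι F) *ᵥ u c = (c * c) • u c := by
    intro c hc
    simp only [hu, Matrix.mulVec_add, Matrix.mulVec_smul, ha3, smul_add, smul_smul, ← mul_assoc, hc, one_mul, one_smul]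
    abel
  have hsum : u 1 + u ω.μ + u (ω.μ * ω.μ) = (3 : F) • w := by
    simp only [hu]
    match_scalars
    · ring
    · linear_combination ω.eq
    · linear_combination (1 : F) * ω.eq + ω.μ * ω.cube
  have huW : ∀ c, u c ∈ W := fun c => by
    rw [hu]; exact add_mem (add_mem hw (W.smul_mem _ (haW _ hw))) (W.smul_mem _ (haW _ (haW _ hw)))
  have hne : u 1 ≠ 0 ∨ u ω.μ ≠ 0 ∨ u (ω.μ * ω.μ) ≠ 0 := by
    by_contra h
    push Not at h
    rw [h.1, h.2.1, h.2.2, add_zero, add_zero] at hsum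
    exact hw0 ((smul_eq_zero.1 hsum.symm).resolve_left ω.three)
  obtain ⟨k, hk⟩ : ∃ k : ℕ, u (ω.μ ^ k) ≠ 0 := by
    rcases hne with h | h | h
    · exact ⟨0, by rwa [pow_zero]⟩
    · exact ⟨1, by rwa [pow_one]⟩
    · exact ⟨2, by rwa [sq]⟩
  refine ⟨((b ^ k : GL ι F) : Matrix ι ι F) *ᵥ u (ω.μ ^ k), ?_, fun h => hk ?_, ?_⟩
  · have : ∀ n : ℕ, ∀ v ∈ W, ((b ^ n : GL ι F) : Matrix ι ι F) *ᵥ v ∈ W := by
      intro n
      induction n with
      | zero => intro v hv; rwa [pow_zero, Units.val_one, Matrix.one_mulVec]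
      | succ n ih => intro v hv; rw [pow_succ', Units.val_mul, ← Matrix.mulVec_mulVec]; exact hbW _ (ih v hv)
    exact this k _ (huW _)
  · have := congrArg (fun v => (((b ^ k)⁻¹ : GL ι F) : Matrix ι ι F) *ᵥ v) h
    simpa [Matrix.mulVec_mulVec] using this
  · rw [Matrix.mulVec_mulVec, ← Units.val_mul, pow_swap_right hzc hab, Units.val_mul, Units.val_mul,
      Units.val_pow_eq_pow_val, hz, smul_pow, one_pow, Matrix.smul_mul, one_mul, Matrix.smul_mulVec,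
      ← Matrix.mulVec_mulVec, heig _ (ω.pow_cube k), Matrix.mulVec_smul, smul_smul, ← mul_assoc, ω.pow_cube, one_smul]

theorem re9_single (X : GL I9 F) {k k' : I9} {c : F} (h : ∀ l, (X : Matrix I9 I9 F) l k = if l = k' then c else 0) :
    (re9 X : Matrix (Fin 9) (Fin 9) F) *ᵥ Pi.single (e9 k) 1 = c • Pi.single (e9 k') 1 := by
  funext l
  obtain ⟨l, rfl⟩ := e9.surjective l
  simp [Matrix.mulVec_single_one, val_re9, h, Pi.single_apply]

/-- the frame of an absolutely irreducible group of exponent three and class two -/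
theorem exists_frame9 (ω : Root F) {R : Subgroup (GL (Fin 9) F)} (h3 : ∀ g ∈ R, g ^ 3 = 1)
    (habs : ActsAbsolutelyIrreducibly (matrixSet R))
    (hcen : ∀ x ∈ R, ∀ y ∈ R, ∃ c : F, ((x * y * x⁻¹ * y⁻¹ : GL (Fin 9) F) : Matrix (Fin 9) (Fin 9) F) = c • 1)
    (hna : ∃ x ∈ R, ∃ y ∈ R, x * y ≠ y * x) :
    ∃ P : GL (Fin 9) F, R = ((R9 ω).map re9.toMonoidHom).map (MulAut.conj P).toMonoidHom ∧
      (∀ k l : I9, k ≠ l → ∃ g ∈ R, ∃ m n : ℕ, ω.μ ^ m ≠ ω.μ ^ n ∧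
        (g : Matrix (Fin 9) (Fin 9) F) *ᵥ ((P : Matrix (Fin 9) (Fin 9) F) *ᵥ Pi.single (e9 k) 1) =
          ω.μ ^ m • ((P : Matrix (Fin 9) (Fin 9) F) *ᵥ Pi.single (e9 k) 1) ∧
        (g : Matrix (Fin 9) (Fin 9) F) *ᵥ ((P : Matrix (Fin 9) (Fin 9) F) *ᵥ Pi.single (e9 l) 1) =
          ω.μ ^ n • ((P : Matrix (Fin 9) (Fin 9) F) *ᵥ Pi.single (e9 l) 1)) ∧
      ∀ k : I9, ∃ g ∈ R, (g : Matrix (Fin 9) (Fin 9) F) *ᵥ ((P : Matrix (Fin 9) (Fin 9) F) *ᵥ Pi.single (e9 (0, 0)) 1) =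
        (P : Matrix (Fin 9) (Fin 9) F) *ᵥ Pi.single (e9 k) 1 := by
  classical
  obtain ⟨z, hzdef⟩ : ∃ z : GL (Fin 9) F, z = re9 (r1 (gZ ω)) := ⟨_, rfl⟩
  have hzv : (z : Matrix (Fin 9) (Fin 9) F) = ω.μ • 1 := by
    ext r s
    obtain ⟨⟨x, i⟩, rfl⟩ := e9.surjective r
    obtain ⟨⟨y, j⟩, rfl⟩ := e9.surjective s
    have hg := val_gZ_pow ω 1
    rw [pow_one, pow_one] at hg
    simp [hzdef, val_re9, r1_apply, hg, Matrix.one_apply, Prod.ext_iff, ite_and]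
  have hzc : ∀ w, Commute z w := fun w => Units.ext (by
    rw [Units.val_mul, Units.val_mul, hzv, Matrix.smul_mul, Matrix.mul_smul, one_mul, mul_one])
  have hzcn : ∀ (n : ℕ) w, Commute (z ^ n) w := fun n w => (hzc w).pow_left n
  have hz3 : z ^ 3 = 1 := Units.ext (by
    rw [Units.val_pow_eq_pow_val, hzv, smul_pow, one_pow, pow_succ, sq, ω.cube, one_smul, Units.val_one])
  have hscal : ∀ g ∈ R, ∀ c : F, (g : Matrix (Fin 9) (Fin 9) F) = c • 1 → ∃ k : ℕ, g = z ^ k := by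
    intro g hg c hc
    have h := congrArg (fun w : GL (Fin 9) F => (w : Matrix (Fin 9) (Fin 9) F) 0 0) (h3 g hg)
    simp only [Units.val_pow_eq_pow_val, hc, smul_pow, one_pow] at h
    simp [pow_succ] at h
    obtain ⟨k, hk⟩ := cube_root_eq_pow ω h
    exact ⟨k, Units.ext (by rw [hc, hk, Units.val_pow_eq_pow_val, hzv, smul_pow, one_pow])⟩
  have hcomm : ∀ x ∈ R, ∀ y ∈ R, ∃ k : ℕ, x * y = z ^ k * (y * x) := by
    intro x hx y hy
    obtain ⟨c, hc⟩ := hcen x hx y hy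
    obtain ⟨k, hk⟩ := hscal _ (mul_mem (mul_mem (mul_mem hx hy) (inv_mem hx)) (inv_mem hy)) c hc
    exact ⟨k, by rw [← hk]; group⟩
  have hpair : ∀ C : Set (GL (Fin 9) F), C ⊆ (R : Set (GL (Fin 9) F)) → (∃ x ∈ C, ∃ y ∈ C, x * y ≠ y * x) →
      ∃ a ∈ C, ∃ b ∈ C, a * b = z * (b * a) := by
    rintro C hC ⟨x, hx, y, hy, hxy⟩
    obtain ⟨k, hk⟩ := hcomm x (hC hx) y (hC hy)
    rw [pow_eq_pow_mod k hz3] at hk
    have := Nat.mod_lt k (show 3 > 0 by norm_num)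
    interval_cases k % 3
    · exact absurd (by simpa using hk) hxy
    · exact ⟨x, hx, y, hy, by simpa using hk⟩
    · refine ⟨y, hy, x, hx, ?_⟩
      rw [hk, ← mul_assoc, ← pow_succ', hz3, one_mul]
  obtain ⟨a1, ha1, b1, hb1, hab1⟩ := hpair R subset_rfl hna
  have hdec : ∀ x ∈ R, ∃ i j : ℕ, Commute ((a1 ^ i * b1 ^ j)⁻¹ * x) a1 ∧ Commute ((a1 ^ i * b1 ^ j)⁻¹ * x) b1 := by
    intro x hx
    obtain ⟨p, hp⟩ := hcomm x hx a1 ha1
    obtain ⟨q, hq⟩ := hcomm x hx b1 hb1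
    have hba : b1 * a1 = z ^ 2 * (a1 * b1) := by
      rw [hab1, ← mul_assoc, ← pow_succ, hz3, one_mul]
    have key : ∀ (y a : GL (Fin 9) F) (n : ℕ), x * a = z ^ n * (a * x) → y * a = z ^ n * (a * y) →
        Commute (y⁻¹ * x) a := fun y a n h1 h2 => mul_left_cancel (a := y) (by
      rw [← mul_assoc, mul_inv_cancel_left, h1, ← mul_assoc y a, h2]; group)
    refine ⟨q, 2 * p, key _ a1 p hp ?_, key _ b1 q hq ?_⟩
    · rw [mul_assoc, pow_swap_left (fun w => hzcn 2 w) hba, ← pow_mul, ← mul_assoc, ← (hzcn _ (a1 ^ q)).eq,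
        show 2 * (2 * p) = 3 * p + p by ring, pow_add, pow_mul, hz3, one_pow, one_mul, mul_assoc,
        ← mul_assoc (a1 ^ q), ← pow_succ, pow_succ', mul_assoc]
    · rw [mul_assoc, (Commute.pow_self b1 (2 * p)).eq, ← mul_assoc, pow_swap_left hzc hab1]; group
  obtain ⟨C, hC⟩ : ∃ C : Set (GL (Fin 9) F), C = {c | c ∈ R ∧ Commute c a1 ∧ Commute c b1} := ⟨_, rfl⟩
  have hdec' : ∀ x ∈ R, ∃ i j : ℕ, ∃ c ∈ C, x = a1 ^ i * b1 ^ j * c := fun x hx => by
    obtain ⟨i, j, h1, h2⟩ := hdec x hx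
    exact ⟨i, j, _, hC ▸ ⟨mul_mem (inv_mem (mul_mem (pow_mem ha1 i) (pow_mem hb1 j))) hx, h1, h2⟩,
      (mul_inv_cancel_left _ _).symm⟩
  have hmem : ∀ c ∈ C, c ∈ R ∧ Commute c a1 ∧ Commute c b1 := fun c hc => by rw [hC] at hc; exact hc
  have hact : ∀ (g : GL (Fin 9) F) (h : GL (Fin 9) F) v,
      (g : Matrix (Fin 9) (Fin 9) F) *ᵥ ((h : Matrix (Fin 9) (Fin 9) F) *ᵥ v) =
        ((g * h : GL (Fin 9) F) : Matrix (Fin 9) (Fin 9) F) *ᵥ v := fun g h v => by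
    rw [Matrix.mulVec_mulVec, Units.val_mul]
  have hscale : ∀ (k : ℕ) v, ((z ^ k : GL (Fin 9) F) : Matrix (Fin 9) (Fin 9) F) *ᵥ v = ω.μ ^ k • v := fun k v => by
    rw [Units.val_pow_eq_pow_val, hzv, smul_pow, one_pow, Matrix.smul_mulVec, Matrix.one_mulVec]
  -- the centraliser of the first pair is not commutative
  obtain ⟨a2, ha2, b2, hb2, hab2⟩ := hpair C (fun c hc => (hmem c hc).1) (by
    by_contra hcon
    push Not at hcon
    have hCz : ∀ c ∈ C, ∃ k : ℕ, c = z ^ k := by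
      intro c hc
      obtain ⟨s, hs⟩ := habs.2 (c : Matrix (Fin 9) (Fin 9) F) (by
        rintro _ ⟨x, hx, rfl⟩
        obtain ⟨i, j, d, hd, rfl⟩ := hdec' x hx
        obtain ⟨-, hca, hcb⟩ := hmem c hc
        exact congrArg Units.val (((hca.pow_right i).mul_right (hcb.pow_right j)).mul_right (hcon c hc d hd)).eq)
      exact hscal c (hmem c hc).1 s hs
    obtain ⟨v, -, hv0, hv⟩ := exists_fixed_vec ω hzv hzc (h3 _ ha1) hab1 ⊤ (fun _ _ => trivial) (fun _ _ => trivial)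
      (w := Pi.single 0 1) trivial (by simp)
    obtain ⟨W, hW⟩ : ∃ W : Submodule F (Fin 9 → F), W = Submodule.span F
        (Set.range fun j : Fin 3 => ((b1 ^ (j : ℕ) : GL (Fin 9) F) : Matrix (Fin 9) (Fin 9) F) *ᵥ v) := ⟨_, rfl⟩
    have hgen : ∀ n : ℕ, ((b1 ^ n : GL (Fin 9) F) : Matrix (Fin 9) (Fin 9) F) *ᵥ v ∈ W := fun n => by
      rw [pow_eq_pow_mod n (h3 _ hb1), hW]
      exact Submodule.subset_span ⟨⟨n % 3, Nat.mod_lt n (by norm_num)⟩, rfl⟩
    rcases habs.1 W (by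
        rintro _ ⟨x, hx, rfl⟩
        rw [Submodule.map_le_iff_le_comap, hW, Submodule.span_le, ← hW]
        rintro _ ⟨n, rfl⟩
        show Matrix.toLin' (x : Matrix (Fin 9) (Fin 9) F) _ ∈ W
        rw [Matrix.toLin'_apply]
        obtain ⟨i, j, c, hc, rfl⟩ := hdec' x hx
        obtain ⟨k, rfl⟩ := hCz c hc
        rw [hact, ← (hzcn k _).eq, mul_assoc, mul_assoc, ← pow_add, ← hact, hscale]
        refine W.smul_mem _ ?_
        generalize j + (n : ℕ) = m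
        clear hx
        induction i with
        | zero => rw [pow_zero, one_mul]; exact hgen m
        | succ i ih =>
          rw [pow_succ, mul_assoc, pow_swap_right hzc hab1, ← mul_assoc, ← (hzcn m (a1 ^ i)).eq, mul_assoc,
            ← mul_assoc (a1 ^ i), ← hact, hscale, ← hact, hv]
          exact W.smul_mem _ ih) with h | h
    · refine hv0 ?_
      have := hgen 0
      rwa [h, Submodule.mem_bot, pow_zero, Units.val_one, Matrix.one_mulVec] at this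
    · have h1 := finrank_range_le_card (R := F)
        (fun j : Fin 3 => ((b1 ^ (j : ℕ) : GL (Fin 9) F) : Matrix (Fin 9) (Fin 9) F) *ᵥ v)
      rw [Set.finrank, ← hW, h, finrank_top, Module.finrank_fin_fun, Fintype.card_fin] at h1
      omega)
  obtain ⟨ha2R, ha2a, ha2b⟩ := hmem a2 ha2
  obtain ⟨hb2R, hb2a, hb2b⟩ := hmem b2 hb2
  -- the common eigenvector
  obtain ⟨w, -, hw0, hw⟩ := exists_fixed_vec ω hzv hzc (h3 _ ha1) hab1 ⊤ (fun _ _ => trivial) (fun _ _ => trivial)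
    (w := Pi.single 0 1) trivial (by simp)
  obtain ⟨v, hv1, hv0, hv2⟩ := exists_fixed_vec ω hzv hzc (h3 _ ha2R) hab2
    (LinearMap.eqLocus (Matrix.toLin' (a1 : Matrix (Fin 9) (Fin 9) F)) LinearMap.id)
    (fun u hu => by
      simp only [LinearMap.mem_eqLocus, Matrix.toLin'_apply, LinearMap.id_coe, id_eq] at hu ⊢
      rw [hact, ← ha2a.eq, ← hact, hu])
    (fun u hu => by
      simp only [LinearMap.mem_eqLocus, Matrix.toLin'_apply, LinearMap.id_coe, id_eq] at hu ⊢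
      rw [hact, ← hb2a.eq, ← hact, hu])
    (w := w) (by simpa [LinearMap.mem_eqLocus, Matrix.toLin'_apply] using hw) hw0
  simp only [LinearMap.mem_eqLocus, Matrix.toLin'_apply, LinearMap.id_coe, id_eq] at hv1
  obtain ⟨e, he⟩ : ∃ e : I9 → Fin 9 → F, e = fun k =>
      ((b1 ^ (k.1 : ℕ) * b2 ^ (k.2 : ℕ) : GL (Fin 9) F) : Matrix (Fin 9) (Fin 9) F) *ᵥ v := ⟨_, rfl⟩
  have hA1 : ∀ k, (a1 : Matrix (Fin 9) (Fin 9) F) *ᵥ e k = ω.μ ^ (k.1 : ℕ) • e k := fun k => by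
    rw [he, hact, ← mul_assoc, pow_swap_right hzc hab1, mul_assoc, mul_assoc, ((hb2a.symm).pow_right _).eq,
      ← mul_assoc (b1 ^ (k.1 : ℕ)), ← hact, hscale, ← hact, hv1]
  have hA2 : ∀ k, (a2 : Matrix (Fin 9) (Fin 9) F) *ᵥ e k = ω.μ ^ (k.2 : ℕ) • e k := fun k => by
    rw [he, hact, ← mul_assoc, (ha2b.pow_right _).eq, mul_assoc, pow_swap_right hzc hab2, ← mul_assoc,
      ← (hzcn _ (b1 ^ (k.1 : ℕ))).eq, mul_assoc, ← mul_assoc (b1 ^ (k.1 : ℕ)), ← hact, hscale, ← hact, hv2]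
  have hstep : ∀ {b : GL (Fin 9) F}, b ∈ R → ∀ x : Fin 3, b * b ^ (x : ℕ) = b ^ ((x + 1 : Fin 3) : ℕ) := fun hb x => by
    rw [← pow_succ', Fin.val_add, pow_eq_pow_mod _ (h3 _ hb)]
    rfl
  have hB1 : ∀ k, (b1 : Matrix (Fin 9) (Fin 9) F) *ᵥ e k = e (k.1 + 1, k.2) := fun k => by
    simp only [he]
    rw [hact, ← mul_assoc, hstep hb1]
  have hB2 : ∀ k, (b2 : Matrix (Fin 9) (Fin 9) F) *ᵥ e k = e (k.1, k.2 + 1) := fun k => by
    simp only [he]
    rw [hact, ← mul_assoc, (hb2b.pow_right _).eq, mul_assoc, hstep hb2R]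
  have he0 : ∀ k, e k ≠ 0 := fun k h => hv0 (by
    have := congrArg (fun u => (((b1 ^ (k.1 : ℕ) * b2 ^ (k.2 : ℕ))⁻¹ : GL (Fin 9) F) : Matrix (Fin 9) (Fin 9) F) *ᵥ u) h
    simp only [he] at this
    rwa [hact, inv_mul_cancel, Units.val_one, Matrix.one_mulVec, Matrix.mulVec_zero] at this)
  have hpow : ∀ i j : Fin 3, ω.μ ^ (i : ℕ) = ω.μ ^ (j : ℕ) → i = j := by
    intro i j h
    fin_cases i <;> fin_cases j <;> simp [pow_succ] at h ⊢
    all_goals first | exact ω.ne_one h | exact ω.ne_one h.symm | exact ω.sq_ne_one h | exact ω.sq_ne_one h.symm | exact ω.ne_sq h | exact ω.ne_sq h.symm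
  obtain ⟨Q, hQ⟩ : ∃ Q : Matrix (Fin 9) (Fin 9) F, Q = Matrix.of fun r k => e (e9.symm k) r := ⟨_, rfl⟩
  have hind : LinearIndependent F e := CfsgLib.Perm.Asch.indep_of_eigen e he0
    (fun s : Bool => Matrix.toLin' (((if s then a1 else a2 : GL (Fin 9) F)) : Matrix (Fin 9) (Fin 9) F))
    (fun s k => ω.μ ^ (if s then (k.1 : ℕ) else (k.2 : ℕ)))
    (fun s k => by cases s <;> simp [Matrix.toLin'_apply, hA1, hA2]) (fun j k hjk => by
      by_contra hcon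
      push Not at hcon
      exact hjk (Prod.ext (hpow _ _ (by simpa using hcon true)) (hpow _ _ (by simpa using hcon false))))
  have hQu : IsUnit Q := by
    rw [← Matrix.linearIndependent_cols_iff_isUnit]
    rw [show Q.col = e ∘ e9.symm by rw [hQ]; rfl]
    exact hind.comp _ e9.symm.injective
  obtain ⟨P, hP⟩ : ∃ P : GL (Fin 9) F, (P : Matrix (Fin 9) (Fin 9) F) = Q := ⟨hQu.unit, rfl⟩
  have hcol : ∀ k, (P : Matrix (Fin 9) (Fin 9) F) *ᵥ Pi.single (e9 k) 1 = e k := fun k => by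
    rw [Matrix.mulVec_single_one, hP, hQ]; funext r; simp [Matrix.col]
  have himg : ∀ (g : GL (Fin 9) F) (X : GL I9 F), (∀ k, ∃ k' c, (∀ l, (X : Matrix I9 I9 F) l k = if l = k' then c else 0) ∧
      (g : Matrix (Fin 9) (Fin 9) F) *ᵥ e k = c • e k') → P * re9 X * P⁻¹ = g := by
    intro g X h
    rw [mul_inv_eq_iff_eq_mul]
    refine Units.ext (Matrix.ext fun r k => ?_)
    obtain ⟨k, rfl⟩ := e9.surjective k
    obtain ⟨k', c, hX, hg⟩ := h k
    have e' : ((P * re9 X : GL (Fin 9) F) : Matrix (Fin 9) (Fin 9) F) *ᵥ Pi.single (e9 k) 1 =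
        ((g * P : GL (Fin 9) F) : Matrix (Fin 9) (Fin 9) F) *ᵥ Pi.single (e9 k) 1 := by
      rw [← hact, ← hact, re9_single X hX, Matrix.mulVec_smul, hcol, hcol, hg]
    rw [Matrix.mulVec_single_one, Matrix.mulVec_single_one] at e'
    exact congrFun e' r
  have i1 : P * re9 (l1 (gD ω)) * P⁻¹ = a1 := himg _ _ fun k => ⟨k, _, fun l => by
      obtain ⟨y, j⟩ := l
      obtain ⟨x, i⟩ := k
      rw [l1_apply, val_gD]
      fin_cases y <;> fin_cases x <;> simp [dm, sq], hA1 k⟩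
  have i2 : P * re9 (r1 (gD ω)) * P⁻¹ = a2 := himg _ _ fun k => ⟨k, _, fun l => by
      obtain ⟨y, j⟩ := l
      obtain ⟨x, i⟩ := k
      rw [r1_apply, val_gD]
      fin_cases j <;> fin_cases i <;> simp [dm, sq], hA2 k⟩
  have i3 : P * re9 (l1 gS) * P⁻¹ = b1 := himg _ _ fun k => ⟨(k.1 + 1, k.2), 1, fun l => by
      obtain ⟨y, j⟩ := l
      obtain ⟨x, i⟩ := k
      rw [l1_apply, val_gS]
      fin_cases y <;> fin_cases x <;> simp [sm], by rw [one_smul]; exact hB1 k⟩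
  have i4 : P * re9 (r1 gS) * P⁻¹ = b2 := himg _ _ fun k => ⟨(k.1, k.2 + 1), 1, fun l => by
      obtain ⟨y, j⟩ := l
      obtain ⟨x, i⟩ := k
      rw [r1_apply, val_gS]
      fin_cases j <;> fin_cases i <;> simp [sm], by rw [one_smul]; exact hB2 k⟩
  obtain ⟨f, hf⟩ : ∃ f : GL I9 F →* GL (Fin 9) F, f = (MulAut.conj P).toMonoidHom.comp re9.toMonoidHom := ⟨_, rfl⟩
  have hfa : ∀ X, f X = P * re9 X * P⁻¹ := fun X => by rw [hf]; rfl
  refine ⟨P, ?_, ?_, ?_⟩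
  · rw [Subgroup.map_map, ← hf]
    refine le_antisymm (fun x hx => ?_) ?_
    · have g1 := i1 ▸ hfa (l1 (gD ω)) ▸ Subgroup.mem_map_of_mem f (l1_mem_R9 ω (gD_mem ω))
      have g2 := i2 ▸ hfa (r1 (gD ω)) ▸ Subgroup.mem_map_of_mem f (r1_mem_R9 ω (gD_mem ω))
      have g3 := i3 ▸ hfa (l1 gS) ▸ Subgroup.mem_map_of_mem f (l1_mem_R9 ω (gS_mem ω))
      have g4 := i4 ▸ hfa (r1 gS) ▸ Subgroup.mem_map_of_mem f (r1_mem_R9 ω (gS_mem ω))
      have g5 : z ∈ (R9 ω).map f := ⟨r1 (gZ ω), r1_mem_R9 ω (gZ_mem ω), by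
        rw [hfa, ← hzdef, ← (hzc P).eq, mul_inv_cancel_right]⟩
      obtain ⟨i, j, c, hc, rfl⟩ := hdec' x hx
      obtain ⟨hcR, hca, hcb⟩ := hmem c hc
      refine mul_mem (mul_mem (pow_mem g1 i) (pow_mem g3 j)) ?_
      obtain ⟨p, hp⟩ := hcomm c hcR a2 ha2R
      obtain ⟨q, hq⟩ := hcomm c hcR b2 hb2R
      have hba : b2 * a2 = z ^ 2 * (a2 * b2) := by rw [hab2, ← mul_assoc, ← pow_succ, hz3, one_mul]
      obtain ⟨y, hy⟩ : ∃ y, y = a2 ^ q * b2 ^ (2 * p) := ⟨_, rfl⟩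
      have hyR : y ∈ R := hy ▸ mul_mem (pow_mem ha2R _) (pow_mem hb2R _)
      have key : ∀ (a : GL (Fin 9) F) (n : ℕ), c * a = z ^ n * (a * c) → y * a = z ^ n * (a * y) →
          Commute (y⁻¹ * c) a := fun a n h1 h2 => mul_left_cancel (a := y) (by
        rw [← mul_assoc, mul_inv_cancel_left, h1, ← mul_assoc y a, h2]; group)
      have d1 : Commute (y⁻¹ * c) a2 := key a2 p hp (by
        rw [hy, mul_assoc, pow_swap_left (fun w => hzcn 2 w) hba, ← pow_mul, ← mul_assoc, ← (hzcn _ (a2 ^ q)).eq,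
          show 2 * (2 * p) = 3 * p + p by ring, pow_add, pow_mul, hz3, one_pow, one_mul, mul_assoc,
          ← mul_assoc (a2 ^ q), ← pow_succ, pow_succ', mul_assoc])
      have d2 : Commute (y⁻¹ * c) b2 := key b2 q hq (by
        rw [hy, mul_assoc, (Commute.pow_self b2 (2 * p)).eq, ← mul_assoc, pow_swap_left hzc hab2]; group)
      have d3 : Commute (y⁻¹ * c) a1 := hy ▸
        (((ha2a.pow_left q).mul_left (hb2a.pow_left (2 * p))).inv_left).mul_left hca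
      have d4 : Commute (y⁻¹ * c) b1 := hy ▸
        (((ha2b.pow_left q).mul_left (hb2b.pow_left (2 * p))).inv_left).mul_left hcb
      obtain ⟨X, hX⟩ : ∃ X, f X = y⁻¹ * c := by
        obtain ⟨X, hX⟩ := (MulAut.conj P).surjective (y⁻¹ * c)
        obtain ⟨X', rfl⟩ := re9.surjective X
        exact ⟨X', by rw [hf]; exact hX⟩
      have hinj : Function.Injective f := by rw [hf]; exact (MulAut.conj P).injective.comp re9.injective
      have hcX : ∀ Y, Commute (y⁻¹ * c) (f Y) → (X : Matrix I9 I9 F) * (Y : Matrix I9 I9 F) = (Y : Matrix I9 I9 F) * (X : Matrix I9 I9 F) := by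
        intro Y h
        have : X * Y = Y * X := hinj (by rw [map_mul, map_mul, hX]; exact h.eq)
        exact congrArg Units.val this
      have hXs := scalar9_of_commute ω (g := (X : Matrix I9 I9 F)) (hcX _ (by rw [hfa, i1]; exact d3))
        (hcX _ (by rw [hfa, i3]; exact d4)) (hcX _ (by rw [hfa, i2]; exact d1)) (hcX _ (by rw [hfa, i4]; exact d2))
      obtain ⟨k, hk⟩ := cube_center_mem ω (c := X) (Subgroup.mem_center_iff.2 fun w => Units.ext (by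
          rw [Units.val_mul, Units.val_mul, hXs]; simp))
        (hinj (by rw [map_pow, hX, map_one]; exact h3 _ (mul_mem (inv_mem hyR) hcR)))
      have hm : y⁻¹ * c ∈ (R9 ω).map f := ⟨X, hk ▸ r1_mem_R9 ω (pow_mem (gZ_mem ω) k), hX⟩
      have := mul_mem (show y ∈ (R9 ω).map f from hy ▸ mul_mem (pow_mem g2 q) (pow_mem g4 (2 * p))) hm
      rwa [mul_inv_cancel_left] at this
    · rw [Subgroup.map_le_iff_le_comap, R9, sup_le_iff]
      constructor <;> rw [Subgroup.map_le_iff_le_comap, gR, Subgroup.closure_le] <;> rintro _ (rfl | rfl) <;>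
        simp only [Subgroup.coe_comap, Set.mem_preimage, SetLike.mem_coe, hfa, i1, i2, i3, i4] <;> assumption
  · intro k l hkl
    by_cases h : k.1 = l.1
    · refine ⟨a2, ha2R, _, _, fun e' => hkl (Prod.ext h (hpow _ _ e')), ?_⟩
      rw [hcol, hcol]; exact ⟨hA2 k, hA2 l⟩
    · refine ⟨a1, ha1, _, _, fun e' => h (hpow _ _ e'), ?_⟩
      rw [hcol, hcol]; exact ⟨hA1 k, hA1 l⟩
  · intro k
    refine ⟨b1 ^ (k.1 : ℕ) * b2 ^ (k.2 : ℕ), mul_mem (pow_mem hb1 _) (pow_mem hb2R _), ?_⟩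
    rw [hcol, hcol]
    simp only [he]
    rw [hact, Fin.val_zero, pow_zero, pow_zero, mul_one, mul_one]

end CfsgLib.Perm.Trans.ThreeDim.Nine
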