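import Cfsg.Agent.Lib.Perm.Trans.ThreeDim.Nine.Herm
import Cfsg.Agent.Lib.Perm.Trans.ThreeDim.HeisSU
import Cfsg.Agent.Lib.Classical.WeilSU.Final

/-!
# The frame normalizer in the special unitary group of pairs, large primes
-/

set_option autoImplicit false
set_option linter.all false

namespace CfsgLib.Perm.Trans.ThreeDim.Nine

open scoped Matrix
open Matrix Cfsg Cfsg.Geo CfsgLib.Perm.Trans CfsgLib.Perm.Trans.Unit CfsgLib.Perm.Trans.ThreeDim.Heis CfsgLib.Perm.LinDecomp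
open CfsgLib.Perm.Elusive (mem_GU_of_diagonal det_norm_of_mem)

variable {F : Type*} [Field F] [Fintype F] {p : ℕ} [Fact p.Prime] [CharP F p] (ω : Root F)

theorem mu_pow (hp3 : p % 3 = 2) : ω.μ ^ p = ω.μ * ω.μ := by
  have h3 : ω.μ ^ 3 = 1 := by rw [pow_succ, sq]; exact ω.cube
  rw [show p = 3 * (p / 3) + 2 by omega, pow_add, pow_mul, h3, one_pow, one_mul, sq]

theorem mu_norm (hp3 : p % 3 = 2) : ω.μ * ω.μ ^ p = 1 := by
  rw [mu_pow ω hp3, ← mul_assoc, ω.cube]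

theorem gR_le_GU (hp3 : p % 3 = 2) : gR ω ≤ GU 3 F p := by
  rw [gR, Subgroup.closure_le]
  rintro _ (rfl | rfl)
  · exact gD_mem_GU ω (mu_norm ω hp3)
  · exact gS_mem_GU

omit [CharP F p] in
theorem neg_one_norm (hodd : Odd p) : (-1 : F) * (-1) ^ p = 1 := by rw [hodd.neg_one_pow]; ring

/-- the generators lie in the group -/
theorem su_hgen (hp3 : p % 3 = 2) (hm : (-1 : F) * (-1) ^ p = 1) :
    (∀ a ∈ gR ω, r1 a ∈ isoU (f9 (F := F) p) ⊓ specialLinear I9 F) ∧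
      (∀ k, r1 (gPhi ω k) ∈ isoU (f9 (F := F) p) ⊓ specialLinear I9 F) ∧
      sw ∈ isoU (f9 (F := F) p) ⊓ specialLinear I9 F ∧
      bd (fun x : Fin 3 => gD ω ^ (x : ℕ)) ∈ isoU (f9 (F := F) p) ⊓ specialLinear I9 F := by
  have hp0 : p ≠ 0 := (Fact.out : p.Prime).ne_zero
  refine ⟨fun a ha => ⟨r1_mem_iso9 hp0 (gR_le_GU ω hp3 ha), mem_SL.2 ?_⟩,
    fun k => ⟨r1_mem_iso9 hp0 (gPhi_mem_GU ω (mu_pow ω hp3) k), mem_SL.2 ?_⟩, ⟨sw_mem_iso9 hm, mem_SL.2 det_sw⟩,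
    ⟨(bd_mem_iso9 hp0).2 fun x => (GU 3 F p).pow_mem (gD_mem_GU ω (mu_norm ω hp3)) _, mem_SL.2 ?_⟩⟩
  · rw [det_r1, det_of_mem_gR ω ha, one_pow]
  · rw [det_r1, det_gPhi, one_pow]
  · rw [det_bd]; exact Finset.prod_eq_one fun x _ => det_of_mem_gR ω (pow_mem (gD_mem ω) _)

include ω in
/-- the special unitary group in dimension three has no noncentral proper normal subgroups -/
theorem su3_simple (hcard : Fintype.card F = p ^ 2) (hp3 : p % 3 = 2) (hp2 : p ≠ 2) {L : Subgroup (GL (Fin 3) F)}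
    (hL : L ≤ GU 3 F p ⊓ specialLinear (Fin 3) F)
    (hn : ∀ u ∈ GU 3 F p ⊓ specialLinear (Fin 3) F, ∀ x ∈ L, u * x * u⁻¹ ∈ L)
    (hnc : ¬ L ≤ Subgroup.center (GL (Fin 3) F)) : L = GU 3 F p ⊓ specialLinear (Fin 3) F := by
  obtain ⟨f, hf⟩ : ∃ f : ↥(Cfsg.SU 3 F p) →* GL (Fin 3) F,
      f = Matrix.SpecialLinearGroup.toGL.comp (Cfsg.SU 3 F p).subtype := ⟨_, rfl⟩
  have hfU : ∀ A, f A ∈ GU 3 F p ⊓ specialLinear (Fin 3) F := fun A => by
    rw [hf]; exact ⟨A.2, mem_SL.2 A.1.2⟩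
  have hfs : ∀ g ∈ GU 3 F p ⊓ specialLinear (Fin 3) F, ∃ A, f A = g := fun g hg =>
    ⟨⟨⟨(g : Matrix (Fin 3) (Fin 3) F), mem_SL.1 hg.2⟩, hg.1⟩, by rw [hf]; exact Units.ext rfl⟩
  obtain ⟨L', hL'⟩ : ∃ L', L' = L.comap f := ⟨_, rfl⟩
  haveI hN : L'.Normal := ⟨fun x hx A => by
    rw [hL'] at hx ⊢
    show f (A * x * A⁻¹) ∈ L
    rw [map_mul, map_mul, map_inv]
    exact hn _ (hfU A) _ hx⟩
  haveI := CfsgLib.Classical.psu_isSimple (n := 3) hcard (by norm_num) (by omega)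
  obtain ⟨π, hπ⟩ : ∃ π, π = QuotientGroup.mk' (Subgroup.center ↥(Cfsg.SU 3 F p)) := ⟨_, rfl⟩
  have hNN : (L'.map π).Normal := hN.map π (hπ ▸ QuotientGroup.mk'_surjective _)
  rcases hNN.eq_bot_or_eq_top with h | h
  · refine absurd (fun x hx => ?_) hnc
    obtain ⟨A, rfl⟩ := hfs x (hL hx)
    have hA : A ∈ Subgroup.center ↥(Cfsg.SU 3 F p) := by
      rw [Subgroup.map_eq_bot_iff, hπ, QuotientGroup.ker_mk'] at h
      exact h (hL' ▸ hx)
    have hc : ∀ g ∈ gR ω, Commute (f A) g := fun g hg => by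
      obtain ⟨B, rfl⟩ := hfs g ⟨gR_le_GU ω hp3 hg, mem_SL.2 (det_of_mem_gR ω hg)⟩
      exact (show Commute A B from (Subgroup.mem_center_iff.1 hA B).symm).map f
    exact mem_center_of_commute ω (hc _ (gD_mem ω)) (hc _ (gS_mem ω))
  · refine le_antisymm hL fun g hg => ?_
    obtain ⟨A, rfl⟩ := hfs g hg
    suffices A ∈ L' by rw [hL'] at this; exact this
    have hle : commutator ↥(Cfsg.SU 3 F p) ≤ L' := by
      rw [commutator_def, Subgroup.commutator_le]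
      intro a _ b _
      have hsplit : ∀ a, ∃ l ∈ L', ∃ z ∈ Subgroup.center ↥(Cfsg.SU 3 F p), a = l * z := fun a => by
        obtain ⟨l, hl, e⟩ := h.ge (Subgroup.mem_top (π a))
        refine ⟨l, hl, l⁻¹ * a, ?_, (mul_inv_cancel_left l a).symm⟩
        rw [hπ] at e
        exact QuotientGroup.eq.1 e
      obtain ⟨l, hl, z, hz, rfl⟩ := hsplit a
      obtain ⟨l', hl', z', hz', rfl⟩ := hsplit b
      have hzc : ∀ w, Commute z w := fun w => (Subgroup.mem_center_iff.1 hz w).symm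
      have hzc' : ∀ w, Commute z' w := fun w => (Subgroup.mem_center_iff.1 hz' w).symm
      rw [commutatorElement_def, show l * z * (l' * z') * (l * z)⁻¹ * (l' * z')⁻¹ = l * l' * l⁻¹ * l'⁻¹ from ?_]
      · exact mul_mem (mul_mem (mul_mem hl hl') (inv_mem hl)) (inv_mem hl')
      calc l * z * (l' * z') * (l * z)⁻¹ * (l' * z')⁻¹
          = l * (z * (l' * z') * z⁻¹) * l⁻¹ * (z'⁻¹ * l'⁻¹) := by group
        _ = l * l' * (z' * l⁻¹ * z'⁻¹) * l'⁻¹ := by rw [(hzc (l' * z')).eq]; group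
        _ = l * l' * l⁻¹ * l'⁻¹ := by rw [(hzc' l⁻¹).eq]; group
    rw [CfsgLib.Classical.WeilSU.su_perfect hcard (by norm_num) (by omega)] at hle
    exact hle (Subgroup.mem_top A)

theorem su_ctx (hcard : Fintype.card F = p ^ 2) (hp3 : p % 3 = 2) (hp11 : 11 ≤ p) :
    Ctx ω (GU 3 F p ⊓ specialLinear (Fin 3) F) (isoU (f9 (F := F) p) ⊓ specialLinear I9 F) where
  two := Ring.two_ne_zero (fun e => by
    have := (CharP.eq F (ringChar.charP F) ‹CharP F p›).symm.trans e; omega)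
  det_U g hg := mem_SL.1 hg.2
  R_le g hg := ⟨gR_le_GU ω hp3 hg, mem_SL.2 (det_of_mem_gR ω hg)⟩
  Phi_mem k := ⟨gPhi_mem_GU ω (mu_pow ω hp3) k, mem_SL.2 (det_gPhi ω k)⟩
  W_mem g hg := by
    have hodd : Odd p := ((Fact.out : p.Prime).eq_two_or_odd').resolve_left (by omega)
    refine ⟨mem_GU_of_diagonal hg fun i => ?_, mem_SL.2 (by rw [hg, Matrix.det_diagonal, Fin.prod_univ_three]; simp)⟩
    fin_cases i <;> simp [hodd.neg_one_pow]
  dich M hR hP hM := su_dichotomy ω hcard hp11 hR hP hM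
  simple L hL hn hnc := su3_simple ω hcard hp3 (by omega) hL hn hnc
  det_G g hg := mem_SL.1 hg.2
  bd_mem g hg hd x := ⟨(bd_mem_iso9 (Fact.out : p.Prime).ne_zero).1 hg.1 x, mem_SL.2 (hd x)⟩
  pr_mem a b h ha hb := by
    have hodd : Odd p := ((Fact.out : p.Prime).eq_two_or_odd').resolve_left (by omega)
    obtain ⟨h1, h2⟩ := pr_mem_iso9 _ (Fact.out : p.Prime).ne_zero (neg_one_norm hodd) h.1
    exact ⟨⟨h1, mem_SL.2 ha⟩, ⟨h2, mem_SL.2 hb⟩⟩

/-- compensators and a witness -/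
theorem su_hcomp {g : Fin 3 → GL (Fin 3) F} (hg : bd g ∈ isoU (f9 (F := F) p) ⊓ specialLinear I9 F) (x : Fin 3) :
    dg ![Matrix.GeneralLinearGroup.det (g x), (Matrix.GeneralLinearGroup.det (g x))⁻¹, 1] ∈ GU 3 F p ⊓ specialLinear (Fin 3) F ∧
      dg ![1, Matrix.GeneralLinearGroup.det (g x), (Matrix.GeneralLinearGroup.det (g x))⁻¹] ∈ GU 3 F p ⊓ specialLinear (Fin 3) F := by
  have h := det_norm_of_mem ((bd_mem_iso9 (Fact.out : p.Prime).ne_zero).1 hg.1 x)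
  obtain ⟨d, hd⟩ : ∃ d, d = Matrix.GeneralLinearGroup.det (g x) := ⟨_, rfl⟩
  rw [← hd]
  have hd1 : (d : F) * (d : F) ^ p = 1 := by rw [hd]; exact h
  have hd2 : ((d⁻¹ : Fˣ) : F) * ((d⁻¹ : Fˣ) : F) ^ p = 1 := by
    rw [Units.val_inv_eq_inv_val, inv_pow, ← mul_inv, hd1, inv_one]
  refine ⟨⟨mem_GU_of_diagonal (val_dg _) fun i => ?_, mem_SL.2 (by rw [det_dg]; simp)⟩,
    ⟨mem_GU_of_diagonal (val_dg _) fun i => ?_, mem_SL.2 (by rw [det_dg]; simp)⟩⟩ <;>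
    fin_cases i <;> first | exact hd1 | exact hd2 | simp

theorem su_witness (hcard : Fintype.card F = p ^ 2) (hp5 : 5 ≤ p) :
    ∃ a : GL (Fin 3) F, r1 a ∈ isoU (f9 (F := F) p) ⊓ specialLinear I9 F ∧ (a : Matrix (Fin 3) (Fin 3) F).det = 1 ∧
      a ∉ Subgroup.normalizer (gR ω : Set (GL (Fin 3) F)) := by
  obtain ⟨a, ha⟩ := IsCyclic.exists_ofOrder_eq_natCard (α := Fˣ)
  rw [Nat.card_units, Nat.card_eq_fintype_card, hcard] at ha
  obtain ⟨b, hb⟩ : ∃ b : Fˣ, b = a ^ (p - 1) := ⟨_, rfl⟩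
  have hb1 : b * b ^ p = 1 := by
    rw [← pow_succ', hb, ← pow_mul, mul_comm, ← Nat.sq_sub_sq, one_pow, ← ha, pow_orderOf_eq_one]
  have hbp : (b : F) * (b : F) ^ p = 1 := by
    have := congrArg Units.val hb1
    rwa [Units.val_mul, Units.val_pow_eq_pow_val, Units.val_one] at this
  have hd : ((dg ![b, b⁻¹, 1] : GL (Fin 3) F) : Matrix (Fin 3) (Fin 3) F).det = 1 := by rw [det_dg]; simp
  refine ⟨dg ![b, b⁻¹, 1], ⟨r1_mem_iso9 (by omega) (mem_GU_of_diagonal (val_dg _) fun i => ?_),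
    mem_SL.2 (by rw [det_r1, hd, one_pow])⟩, hd, diag_not_mem_normalizer ω (a := b) ?_ fun h => ?_⟩
  · fin_cases i
    · exact hbp
    · show ((b⁻¹ : Fˣ) : F) * ((b⁻¹ : Fˣ) : F) ^ p = 1
      rw [Units.val_inv_eq_inv_val, inv_pow, ← mul_inv, hbp, inv_one]
    · simp
  · rw [val_dg]; congr 1; funext i; fin_cases i <;> simp
  · rw [hb, ← pow_mul] at h
    have h1 := Nat.le_of_dvd (by omega) (orderOf_dvd_of_pow_eq_one h)
    rw [ha] at h1
    have h2 : 5 * p ≤ p ^ 2 := by rw [sq]; exact Nat.mul_le_mul_right p hp5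
    omega

/-- the frame case of class six for `SU₉`, `p ≥ 11` -/
theorem su9_frame_maximal (hcard : Fintype.card F = p ^ 2) (hp3 : p % 3 = 2) (hp11 : 11 ≤ p) :
    IsMaximalIn (isoU (f9 (F := F) p) ⊓ specialLinear I9 F)
      (Subgroup.normalizer (R9 ω : Set (GL I9 F)) ⊓ (isoU (f9 (F := F) p) ⊓ specialLinear I9 F)) := by
  obtain ⟨a, ha, had, haN⟩ := su_witness ω hcard (by omega)
  obtain ⟨C⟩ := ctx_of_card hcard
  exact frame_maximal ω (su_ctx ω hcard hp3 hp11)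
    (su_hgen ω hp3 (neg_one_norm (((Fact.out : p.Prime).eq_two_or_odd').resolve_left (by omega))))
    (fun g hg x => su_hcomp hg x) (fun H hH hS hsw => full_SU C (by omega) hH hS hsw) ha had haN

end CfsgLib.Perm.Trans.ThreeDim.Nine
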