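import Cfsg.Agent.Lib.Perm.Trans.ThreeDim.Nine.Max
import Cfsg.Agent.Lib.Perm.Trans.ThreeDim.HeisSL
import Cfsg.Agent.Lib.Classical.SLNormalized
import Cfsg.Agent.Lib.FormClass.Basic

/-!
# The frame normalizer in the special linear group of pairs
-/

set_option autoImplicit false
set_option linter.all false

namespace CfsgLib.Perm.Trans.ThreeDim.Nine

open scoped Matrix
open Matrix Cfsg.Geo CfsgLib.Perm.Trans CfsgLib.Perm.Trans.ThreeDim.Heis CfsgLib.Perm.LinDecomp

variable {F : Type*} [Field F] [Fintype F]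

theorem mem_SL {ι : Type} [Fintype ι] [DecidableEq ι] {g : GL ι F} :
    g ∈ specialLinear ι F ↔ (g : Matrix ι ι F).det = 1 := by
  show Matrix.GeneralLinearGroup.det g = 1 ↔ _
  rw [Units.ext_iff, Matrix.GeneralLinearGroup.val_det_apply, Units.val_one]

theorem bstab_iff {ι β : Type} [Fintype ι] [DecidableEq ι] [Fintype β] [DecidableEq β] {blk : ι → β} {g : GL ι F} :
    BStab blk g ↔ ∃ s : Equiv.Perm β, ∀ k l, blk k ≠ s (blk l) → (g : Matrix ι ι F) k l = 0 := by
  refine ⟨fun ⟨s, hs⟩ => ⟨s, fun k l h => ?_⟩, fun ⟨s, hs⟩ => ⟨s, fun b x hx k hk => ?_⟩⟩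
  · have := hs _ _ (single_mem_bsub blk l 1) k h
    simpa [Matrix.mulVec_single_one] using this
  · show ((g : Matrix ι ι F) *ᵥ x) k = 0
    refine Finset.sum_eq_zero fun l _ => ?_
    show (g : Matrix ι ι F) k l * x l = 0
    by_cases hl : blk l = b
    · rw [hs k l (hl.symm ▸ hk), zero_mul]
    · rw [hx l hl, mul_zero]

theorem sw_not_bstab : ¬ BStab (Prod.fst : I9 → Fin 3) (sw : GL I9 F) := by
  rw [bstab_iff]
  rintro ⟨s, hs⟩
  have := hs (s 0 + 1, 0) (0, s 0 + 1) (by simp)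
  rw [show ((sw : GL I9 F) : Matrix I9 I9 F) = swM from rfl, swM_apply] at this
  simp at this

/-- the two index sets -/
def e9 : I9 ≃ Fin 9 := finProdFinEquiv

/-- reindexing -/
def re9 : GL I9 F ≃* GL (Fin 9) F := CfsgLib.FormCl.reindexGL e9

theorem val_re9 (g : GL I9 F) : (re9 g : Matrix (Fin 9) (Fin 9) F) = (g : Matrix I9 I9 F).submatrix e9.symm e9.symm := rfl

theorem map_re9_SL : (specialLinear I9 F).map re9.toMonoidHom = specialLinear (Fin 9) F := by
  ext g
  obtain ⟨h, rfl⟩ := re9.surjective g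
  show re9 h ∈ (specialLinear I9 F).map re9.toMonoidHom ↔ _
  rw [Subgroup.mem_map_equiv, MulEquiv.symm_apply_apply, mem_SL, mem_SL, val_re9, Matrix.det_submatrix_equiv_self]

/-- the decomposition case -/
theorem full_SL (h4 : 4 ≤ Fintype.card F) {H : Subgroup (GL I9 F)} (hH : H ≤ specialLinear I9 F)
    (hS : ∀ h ∈ specialLinear I9 F, BStab (Prod.fst : I9 → Fin 3) h → h ∈ H) (hsw : sw ∈ H) :
    H = specialLinear I9 F := by
  have hle : H.map re9.toMonoidHom ≤ specialLinear (Fin 9) F := map_re9_SL (F := F) ▸ Subgroup.map_mono hH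
  have hbs : ∀ h : GL I9 F, BStab (fun k => (e9.symm k).1) (re9 h) ↔ BStab (Prod.fst : I9 → Fin 3) h := by
    intro h
    rw [bstab_iff, bstab_iff]
    refine exists_congr fun s => ⟨fun H k l hkl => ?_, fun H k l hkl => H _ _ hkl⟩
    simpa [val_re9] using H (e9 k) (e9 l) (by simpa using hkl)
  have hfull : fullSub (H.map re9.toMonoidHom) = ⊤ := by
    refine fullSub_of_blocks (fun k : Fin 9 => (e9.symm k).1) (m := 3) (fun b => ?_) (by norm_num)
      (fun h => absurd h (by norm_num)) (fun h hh hb => ?_) (Subgroup.mem_map_of_mem _ hsw)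
      (fun h => sw_not_bstab ((hbs sw).1 h))
    · rw [show (Finset.univ.filter fun k : Fin 9 => (e9.symm k).1 = b) =
          (Finset.univ : Finset (Fin 3)).map ⟨fun i => e9 (b, i), fun i j h => by simpa using h⟩ by
            ext k
            obtain ⟨⟨x, i⟩, rfl⟩ := e9.surjective k
            simp only [Finset.mem_filter, Finset.mem_univ, true_and, Equiv.symm_apply_apply, Finset.mem_map]
            exact ⟨fun e => ⟨i, show e9 (b, i) = e9 (x, i) by rw [← e]⟩,
              fun ⟨a, ha⟩ => (congrArg Prod.fst (e9.injective ha)).symm⟩, Finset.card_map, Finset.card_fin]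
    · obtain ⟨h', rfl⟩ := re9.surjective h
      rw [← map_re9_SL, Subgroup.mem_map_equiv, MulEquiv.symm_apply_apply] at hh
      exact Subgroup.mem_map_of_mem _ (hS h' hh ((hbs h').1 hb))
  have e := eq_SL_of_fullSub hle hfull
  rw [← map_re9_SL] at e
  exact Subgroup.map_injective re9.injective e

variable (ω : Root F)

theorem sl_ctx {p : ℕ} (hp : p.Prime) (hcard : Fintype.card F = p) (hp7 : 7 ≤ p) :
    Ctx ω (specialLinear (Fin 3) F) (specialLinear I9 F) where
  two := by
    haveI : CharP F p := by haveI : Fact p.Prime := ⟨hp⟩; exact charP_of_card_eq_prime hcard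
    exact Ring.two_ne_zero (fun e => by
      have := (CharP.eq F (ringChar.charP F) ‹CharP F p›).symm.trans e; omega)
  det_U g hg := mem_SL.1 hg
  R_le g hg := mem_SL.2 (det_of_mem_gR ω hg)
  Phi_mem k := mem_SL.2 (det_gPhi ω k)
  W_mem g hg := mem_SL.2 (by rw [hg, Matrix.det_diagonal, Fin.prod_univ_three]; simp)
  dich M hR hP hM := sl_dichotomy ω hp hcard hp7 hR hP hM
  simple L hLU hn hnc := by
    refine le_antisymm hLU fun g hg => ?_
    rcases CfsgLib.Classical.gl_normalized_cases (n := 3) (by norm_num) (by omega) L (fun s x hx =>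
      hn _ (mem_SL.2 s.2) x hx) with h | h
    · exact absurd (fun x hx => by
        obtain ⟨c, hc⟩ := h x hx
        exact Subgroup.mem_center_iff.2 fun w => Units.ext (by rw [Units.val_mul, Units.val_mul, hc]; simp)) hnc
    · exact h ⟨⟨_, mem_SL.1 hg⟩, Units.ext rfl⟩
  det_G g hg := mem_SL.1 hg
  bd_mem g _ hd x := mem_SL.2 (hd x)
  pr_mem a b _ ha hb := ⟨mem_SL.2 ha, mem_SL.2 hb⟩

/-- the frame case of class six for `SL₉` -/
theorem sl9_frame_maximal {p : ℕ} (hp : p.Prime) (hcard : Fintype.card F = p) (hp7 : 7 ≤ p) :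
    IsMaximalIn (specialLinear I9 F)
      (Subgroup.normalizer (R9 ω : Set (GL I9 F)) ⊓ specialLinear I9 F) := by
  obtain ⟨a, ha⟩ := IsCyclic.exists_ofOrder_eq_natCard (α := Fˣ)
  rw [Nat.card_units, Nat.card_eq_fintype_card, hcard] at ha
  have ha3 : a ^ 3 ≠ 1 := fun h => by
    have := Nat.le_of_dvd (by norm_num) (orderOf_dvd_of_pow_eq_one h)
    omega
  have hd : ∀ d : Fˣ, (dg ![d, d⁻¹, 1] : GL (Fin 3) F) ∈ specialLinear (Fin 3) F ∧
      (dg ![1, d, d⁻¹] : GL (Fin 3) F) ∈ specialLinear (Fin 3) F := fun d =>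
    ⟨mem_SL.2 (by rw [det_dg]; simp), mem_SL.2 (by rw [det_dg]; simp)⟩
  refine frame_maximal ω (sl_ctx ω hp hcard hp7) ⟨fun b hb => ?_, fun k => ?_, mem_SL.2 det_sw, ?_⟩
    (fun g _ x => hd _) (fun H hH hS hsw => full_SL (by omega) hH hS hsw) (a := dg ![a, a⁻¹, 1]) ?_
    (mem_SL.1 (hd a).1) (diag_not_mem_normalizer ω (a := a) ?_ ha3)
  · exact mem_SL.2 (by rw [det_r1, det_of_mem_gR ω hb, one_pow])
  · exact mem_SL.2 (by rw [det_r1, det_gPhi, one_pow])
  · exact mem_SL.2 (by rw [det_bd]; exact Finset.prod_eq_one fun x _ => det_of_mem_gR ω (pow_mem (gD_mem ω) _))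
  · exact mem_SL.2 (by rw [det_r1, mem_SL.1 (hd a).1, one_pow])
  · rw [val_dg]; congr 1; funext i; fin_cases i <;> simp

end CfsgLib.Perm.Trans.ThreeDim.Nine
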