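import Cfsg.Agent.Lib.Perm.Trans.ThreeDim.Nine.SU
import Cfsg.Agent.Lib.Perm.Trans.ThreeDim.Nine.Clause

/-!
# From the frame to the clause of class six for `SU₉`
-/

set_option autoImplicit false
set_option linter.all false

namespace CfsgLib.Perm.Trans.ThreeDim.Nine

open scoped Matrix
open Matrix Cfsg Cfsg.Geo CfsgLib.Perm.Trans CfsgLib.Perm.Trans.Unit CfsgLib.Perm.Trans.ThreeDim.Heis

variable {F : Type*} [Field F] [Fintype F] {p : ℕ}

theorem map_re9_iso : (isoU (f9 (F := F) p)).map re9.toMonoidHom = GU 9 F p := by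
  ext g
  obtain ⟨h, rfl⟩ := re9.surjective g
  show re9 h ∈ (isoU (f9 (F := F) p)).map re9.toMonoidHom ↔ _
  rw [Subgroup.mem_map_equiv, MulEquiv.symm_apply_apply, mem_isoU]
  have key : ∀ w : Fin 9 → F, (re9 h : Matrix (Fin 9) (Fin 9) F) *ᵥ w = ((h : Matrix I9 I9 F) *ᵥ (w ∘ e9)) ∘ e9.symm := by
    intro w
    funext r
    simp only [Function.comp_apply, Matrix.mulVec, dotProduct, val_re9, Matrix.submatrix_apply]
    rw [← e9.sum_comp]
    simp
  refine ⟨fun H u v => ?_, fun H x y => ?_⟩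
  · show hermForm 9 F p ((re9 h : Matrix (Fin 9) (Fin 9) F) *ᵥ u) ((re9 h : Matrix (Fin 9) (Fin 9) F) *ᵥ v) = _
    rw [key, key, ← f9_reindex, H, f9_reindex]
    simp [Function.comp_assoc]
  · have h1 : hermForm 9 F p ((re9 h : Matrix (Fin 9) (Fin 9) F) *ᵥ (x ∘ e9.symm))
        ((re9 h : Matrix (Fin 9) (Fin 9) F) *ᵥ (y ∘ e9.symm)) = hermForm 9 F p (x ∘ e9.symm) (y ∘ e9.symm) := H _ _
    rw [key, key, ← f9_reindex, ← f9_reindex] at h1
    simpa [Function.comp_assoc] using h1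

/-- cube roots in the similarity group are isometries -/
theorem le_GU9_of_similarity {R : Subgroup (GL (Fin 9) F)} (hp : p.Prime) (hcard : Fintype.card F = p ^ 2)
    (hp3 : p % 3 = 2) (hR : R ≤ similarityGroup (hermForm 9 F p)) (h3 : ∀ g ∈ R, g ^ 3 = 1) : R ≤ GU 9 F p := by
  obtain ⟨C⟩ := ctx_of_card hcard
  have hf : IsUnitaryForm C.bar (hermForm 9 F p) := isUnitary_hermForm C
  intro g hg
  obtain ⟨c, hc⟩ := hR hg
  obtain ⟨v, hv⟩ : ∃ v : Fin 9 → F, hermForm 9 F p v v ≠ 0 :=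
    ⟨Pi.single 0 1, by simp [hermForm, Pi.single_apply, zero_pow hp.ne_zero]⟩
  have hcp : (c : F) ^ p = c := by
    have h1 : C.bar (hermForm 9 F p v v) = hermForm 9 F p v v := (hf.herm v v).symm
    have h2 := hf.herm ((g : Matrix (Fin 9) (Fin 9) F) *ᵥ v) ((g : Matrix (Fin 9) (Fin 9) F) *ᵥ v)
    rw [hc, map_mul, h1] at h2
    rw [← C.bar_eq]
    exact (mul_right_cancel₀ hv h2).symm
  have hc3 : (c : F) ^ 3 = 1 := by
    have hiter : ∀ n : ℕ, hermForm 9 F p (((g ^ n : GL (Fin 9) F) : Matrix (Fin 9) (Fin 9) F) *ᵥ v)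
        (((g ^ n : GL (Fin 9) F) : Matrix (Fin 9) (Fin 9) F) *ᵥ v) = (c : F) ^ n * hermForm 9 F p v v := fun n => by
      induction n with
      | zero => simp
      | succ n ih =>
        rw [pow_succ', Units.val_mul, ← Matrix.mulVec_mulVec, hc, ih, pow_succ', mul_assoc]
    have h := hiter 3
    rw [h3 g hg, Units.val_one, Matrix.one_mulVec] at h
    exact mul_right_cancel₀ hv (h.symm.trans (one_mul _).symm)
  have hc1 : (c : F) = 1 := by
    have h : (c : F) ^ p = (c : F) * c := by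
      rw [show p = 3 * (p / 3) + 2 by omega, pow_add, pow_mul, hc3, one_pow, one_mul, sq]
    rw [hcp] at h
    exact mul_left_cancel₀ c.ne_zero (h.symm.trans (mul_one _).symm)
  intro u w
  show hermForm 9 F p ((g : Matrix (Fin 9) (Fin 9) F) *ᵥ u) ((g : Matrix (Fin 9) (Fin 9) F) *ᵥ w) = _
  rw [hc, hc1, one_mul]

/-- the clause from the frame case -/
theorem su9_clause_of_frame [Fact p.Prime] [CharP F p] {R : Subgroup (GL (Fin 9) F)}
    (hcard : Fintype.card F = p ^ 2) (hp3 : p % 3 = 2) (hsymp : IsSymplecticTypeGroup 3 R)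
    (habs : ActsAbsolutelyIrreducibly (matrixSet R)) (hsim : R ≤ similarityGroup (hermForm 9 F p))
    (h243 : Nat.card R = 243) (hZ : Nat.card (Subgroup.center R) = 3)
    (hframe : ∀ ω : Root F, IsMaximalIn (isoU (f9 (F := F) p) ⊓ specialLinear I9 F)
      (Subgroup.normalizer (R9 ω : Set (GL I9 F)) ⊓ (isoU (f9 (F := F) p) ⊓ specialLinear I9 F))) :
    IsMaximalIn (GU 9 F p ⊓ specialLinear (Fin 9) F) (subgroupNormalizer R ⊓ (GU 9 F p ⊓ specialLinear (Fin 9) F)) := by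
  have hp := (Fact.out : p.Prime)
  obtain ⟨μ, hμ⟩ : ∃ om : F, om * om + om + 1 = 0 := by
    have h : 3 ∣ Nat.card Fˣ := by
      rw [Nat.card_units, Nat.card_eq_fintype_card, hcard, show p ^ 2 - 1 = (p + 1) * (p - 1) from Nat.sq_sub_sq p 1]
      exact dvd_mul_of_dvd_left (by omega) _
    haveI : Fact (Nat.Prime 3) := ⟨Nat.prime_three⟩
    obtain ⟨u, hu⟩ := exists_prime_orderOf_dvd_card' 3 h
    have h1 : (u : F) ≠ 1 := fun e' => by
      rw [show u = 1 from Units.ext e', orderOf_one] at hu; omega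
    have h3 : (u : F) * u * u = 1 := by
      have := congrArg Units.val (hu ▸ pow_orderOf_eq_one u)
      simpa [pow_succ] using this
    exact ⟨u, (mul_eq_zero.1 (show ((u : F) - 1) * ((u : F) * u + u + 1) = 0 by linear_combination h3)).resolve_left
      (sub_ne_zero.2 h1)⟩
  have h3F : (3 : F) ≠ 0 := fun h => by
    have := (CharP.cast_eq_zero_iff F p 3).1 (by exact_mod_cast h)
    have := (Nat.prime_dvd_prime_iff_eq hp Nat.prime_three).1 this
    omega
  let ω : Root F := ⟨μ, hμ, h3F⟩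
  obtain ⟨hcube, hcom, hna⟩ := scalar_commutators hsymp habs hZ (by omega)
  obtain ⟨P, hR, hsep, htr⟩ := exists_frame9 ω hcube habs hcom hna
  have hRU := le_GU9_of_similarity hp hcard hp3 hsim hcube
  obtain ⟨C⟩ := ctx_of_card hcard
  have hf : IsUnitaryForm C.bar (hermForm 9 F p) := isUnitary_hermForm C
  obtain ⟨col, hcol⟩ : ∃ col : I9 → Fin 9 → F,
      col = fun k => (P : Matrix (Fin 9) (Fin 9) F) *ᵥ Pi.single (e9 k) 1 := ⟨_, rfl⟩
  have horth : ∀ k l, k ≠ l → hermForm 9 F p (col k) (col l) = 0 := by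
    intro k l hkl
    obtain ⟨g, hg, m, n, hmn, hk, hl⟩ := hsep k l hkl
    have h := hRU hg (col k) (col l)
    simp only [hcol] at h ⊢
    rw [show (Units.coeHom (Matrix (Fin 9) (Fin 9) F)) g = (g : Matrix (Fin 9) (Fin 9) F) from rfl, hk, hl, hf.smul_left,
      herm_smul_right hf, C.bar_eq] at h
    by_contra h0
    have e : ω.μ ^ m * (ω.μ ^ n) ^ p = 1 := mul_right_cancel₀ h0 (by rw [one_mul, mul_assoc]; exact h)
    have e2 : (ω.μ ^ n) ^ p = ω.μ ^ n * ω.μ ^ n := by rw [← pow_mul, mul_comm, pow_mul, mu_pow ω hp3, mul_pow]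
    rw [e2] at e
    exact hmn (by linear_combination (ω.μ ^ n) * e - (ω.μ ^ m) * ω.pow_cube n)
  have hdiag : ∀ k, hermForm 9 F p (col k) (col k) = hermForm 9 F p (col (0, 0)) (col (0, 0)) := by
    intro k
    obtain ⟨g, hg, e⟩ := htr k
    have h := hRU hg (col (0, 0)) (col (0, 0))
    simp only [hcol] at h ⊢
    rw [show (Units.coeHom (Matrix (Fin 9) (Fin 9) F)) g = (g : Matrix (Fin 9) (Fin 9) F) from rfl, e] at h
    exact h
  obtain ⟨N, hN⟩ : ∃ N, N = hermForm 9 F p (col (0, 0)) (col (0, 0)) := ⟨_, rfl⟩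
  have hentry : ∀ a b : Fin 9, ∑ r, (P : Matrix (Fin 9) (Fin 9) F) r a * (P : Matrix (Fin 9) (Fin 9) F) r b ^ p =
      if a = b then N else 0 := by
    intro a b
    obtain ⟨k, rfl⟩ := e9.surjective a
    obtain ⟨l, rfl⟩ := e9.surjective b
    have : ∑ r, (P : Matrix (Fin 9) (Fin 9) F) r (e9 k) * (P : Matrix (Fin 9) (Fin 9) F) r (e9 l) ^ p =
        hermForm 9 F p (col k) (col l) := by
      refine Finset.sum_congr rfl fun r _ => ?_
      simp [hcol, Matrix.mulVec_single_one, Matrix.col]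
    rw [this]
    by_cases hkl : k = l
    · subst hkl; rw [if_pos rfl, hN, hdiag]
    · rw [if_neg fun e => hkl (e9.injective e), horth k l hkl]
  have hsim' : ∀ u v, hermForm 9 F p ((P : Matrix (Fin 9) (Fin 9) F) *ᵥ u) ((P : Matrix (Fin 9) (Fin 9) F) *ᵥ v) =
      N * hermForm 9 F p u v := by
    intro u v
    calc hermForm 9 F p ((P : Matrix (Fin 9) (Fin 9) F) *ᵥ u) ((P : Matrix (Fin 9) (Fin 9) F) *ᵥ v)
        = ∑ r, (∑ a, (P : Matrix (Fin 9) (Fin 9) F) r a * u a) * ∑ b, (P : Matrix (Fin 9) (Fin 9) F) r b ^ p * v b ^ p :=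
          Finset.sum_congr rfl fun r _ => by
            simp only [Matrix.mulVec, dotProduct, sum_pow_char, mul_pow]
      _ = ∑ a, ∑ b, (u a * v b ^ p) *
            ∑ r, (P : Matrix (Fin 9) (Fin 9) F) r a * (P : Matrix (Fin 9) (Fin 9) F) r b ^ p := by
          simp only [Finset.sum_mul, Finset.mul_sum]
          rw [Finset.sum_comm]
          refine (Finset.sum_congr rfl fun a _ => Finset.sum_comm).trans ?_
          rw [Finset.sum_comm]
          exact Finset.sum_congr rfl fun a _ => Finset.sum_congr rfl fun b _ => Finset.sum_congr rfl fun r _ => by ring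
      _ = N * hermForm 9 F p u v := by
          simp only [hentry, mul_ite, mul_zero, Finset.sum_ite_eq, Finset.mem_univ, if_true, hermForm, Finset.mul_sum]
          exact Finset.sum_congr rfl fun a _ => mul_comm _ _
  have hN0 : N ≠ 0 := fun h0 => by
    obtain ⟨⟨w, hw⟩, -⟩ := hf.nondegenerate _ (show (Pi.single 0 1 : Fin 9 → F) ≠ 0 by simp)
    have h1 := hsim' ((P⁻¹ : GL (Fin 9) F).val *ᵥ w) ((P⁻¹ : GL (Fin 9) F).val *ᵥ Pi.single 0 1)
    rw [Matrix.mulVec_mulVec, Matrix.mulVec_mulVec, Units.mul_inv, Matrix.one_mulVec, Matrix.one_mulVec, h0,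
      zero_mul] at h1
    exact hw h1
  obtain ⟨c, hc0, hc⟩ := CfsgLib.Perm.Elusive.exists_norm_root hcard hN0 (by
    rw [hN, ← C.bar_eq]; exact (hf.herm _ _).symm)
  obtain ⟨s, hs⟩ : ∃ s : GL (Fin 9) F, (s : Matrix (Fin 9) (Fin 9) F) = c⁻¹ • 1 :=
    ⟨Matrix.GeneralLinearGroup.mkOfDetNeZero (c⁻¹ • 1) (by
      rw [Matrix.det_smul, Matrix.det_one, mul_one]; exact pow_ne_zero _ (inv_ne_zero hc0)), rfl⟩
  have hsc : ∀ w, s * w = w * s := fun w => Units.ext (by
    rw [Units.val_mul, Units.val_mul, hs, Matrix.smul_mul, Matrix.mul_smul, one_mul, mul_one])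
  obtain ⟨P', hP'⟩ : ∃ P' : GL (Fin 9) F, P' = P * s := ⟨_, rfl⟩
  have hP'U : P' ∈ GU 9 F p := fun u v => by
    show hermForm 9 F p ((P' : Matrix (Fin 9) (Fin 9) F) *ᵥ u) ((P' : Matrix (Fin 9) (Fin 9) F) *ᵥ v) = _
    rw [hP', Units.val_mul, ← Matrix.mulVec_mulVec, ← Matrix.mulVec_mulVec, hsim', hs, Matrix.smul_mulVec,
      Matrix.smul_mulVec, Matrix.one_mulVec, Matrix.one_mulVec, hf.smul_left, herm_smul_right hf, C.bar_eq, inv_pow,
      ← hc]
    field_simp
  have hconj : MulAut.conj P' = MulAut.conj P := MulEquiv.ext fun w => by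
    rw [hP', MulAut.conj_apply, MulAut.conj_apply]
    calc P * s * w * (P * s)⁻¹ = P * (s * w) * s⁻¹ * P⁻¹ := by group
      _ = P * (w * s) * s⁻¹ * P⁻¹ := by rw [hsc]
      _ = P * w * P⁻¹ := by group
  have hSL : ∀ (P x : GL (Fin 9) F), x ∈ specialLinear (Fin 9) F → P * x * P⁻¹ ∈ specialLinear (Fin 9) F :=
    fun P x hx => (inferInstance : (MonoidHom.ker (Matrix.GeneralLinearGroup.det : GL (Fin 9) F →* Fˣ)).Normal).conj_mem x hx P
  have h := isMaximalIn_map (MulAut.conj P') (isMaximalIn_map_equiv re9 (hframe ω))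
  rw [Subgroup.map_inf_eq (Subgroup.normalizer (R9 ω : Set (GL I9 F))) (isoU (f9 (F := F) p) ⊓ specialLinear I9 F)
      re9.toMonoidHom re9.injective,
    Subgroup.map_inf_eq (isoU (f9 (F := F) p)) (specialLinear I9 F) re9.toMonoidHom re9.injective, map_re9_SL,
    map_re9_iso, Subgroup.map_inf_eq _ (GU 9 F p ⊓ specialLinear (Fin 9) F) _ (MulAut.conj P').injective,
    Subgroup.map_equiv_normalizer_eq, Subgroup.map_equiv_normalizer_eq,
    map_conj_eq_self (K := GU 9 F p ⊓ specialLinear (Fin 9) F)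
      (fun x hx => ⟨(GU 9 F p).mul_mem ((GU 9 F p).mul_mem hP'U hx.1) ((GU 9 F p).inv_mem hP'U), hSL P' x hx.2⟩)
      (fun x hx => ⟨(GU 9 F p).mul_mem ((GU 9 F p).mul_mem ((GU 9 F p).inv_mem hP'U) hx.1) hP'U, by simpa using hSL P'⁻¹ x hx.2⟩),
    hconj, ← hR] at h
  exact h

/-- the clause for `p ≥ 11` -/
theorem su9_symplectic_maximal_large [Fact p.Prime] [CharP F p] {R : Subgroup (GL (Fin 9) F)}
    (hcard : Fintype.card F = p ^ 2) (hp3 : p % 3 = 2) (hp11 : 11 ≤ p) (hsymp : IsSymplecticTypeGroup 3 R)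
    (habs : ActsAbsolutelyIrreducibly (matrixSet R)) (hsim : R ≤ similarityGroup (hermForm 9 F p))
    (h243 : Nat.card R = 243) (hZ : Nat.card (Subgroup.center R) = 3) :
    IsMaximalIn (GU 9 F p ⊓ specialLinear (Fin 9) F) (subgroupNormalizer R ⊓ (GU 9 F p ⊓ specialLinear (Fin 9) F)) :=
  su9_clause_of_frame hcard hp3 hsymp habs hsim h243 hZ fun ω => su9_frame_maximal ω hcard hp3 hp11

end CfsgLib.Perm.Trans.ThreeDim.Nine
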