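import Cfsg.Agent.Lib.Perm.Trans.ThreeDim.Nine.Quat

/-!
# The frame on pairs

`bd g` is block diagonal in the first coordinate, `l1 A` and `r1 A` are the two tensor factors, `pr (a, b)` acts by
`a` on the even and by `b` on the odd part of the first factor.
-/

set_option autoImplicit false
set_option linter.all false

namespace CfsgLib.Perm.Trans.ThreeDim.Nine

open scoped Matrix Kronecker
open Matrix CfsgLib.Perm.Trans.ThreeDim.Heis

variable {F : Type*} [Field F] (ω : Root F)

/-- the index set -/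
abbrev I9 : Type := Fin 3 × Fin 3

local notation "M3" => Matrix (Fin 3) (Fin 3) F
local notation "G3" => GL (Fin 3) F
local notation "M9" => Matrix I9 I9 F
local notation "G9" => GL I9 F

/-- block diagonal matrices -/
def bdM (g : Fin 3 → M3) : M9 := Matrix.of fun a b => if a.1 = b.1 then g a.1 a.2 b.2 else 0

theorem bdM_apply (g : Fin 3 → M3) (x y i j : Fin 3) :
    bdM g (x, i) (y, j) = if x = y then g x i j else 0 := rfl

theorem bdM_mul (g h : Fin 3 → M3) : bdM g * bdM h = bdM (g * h) := by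
  ext ⟨x, i⟩ ⟨y, j⟩
  rw [Matrix.mul_apply, Fintype.sum_prod_type, Finset.sum_eq_single x]
  · by_cases e : x = y
    · subst e; simp [bdM_apply, Matrix.mul_apply]
    · simp [bdM_apply, e]
  · intro z _ hz
    simp [bdM_apply, Ne.symm hz]
  · simp

theorem bdM_one : bdM (1 : Fin 3 → M3) = 1 := by
  ext ⟨x, i⟩ ⟨y, j⟩
  by_cases e : x = y
  · subst e; simp [bdM_apply, Matrix.one_apply, Prod.ext_iff]
  · simp [bdM_apply, e, Matrix.one_apply, Prod.ext_iff]

/-- block diagonal elements -/
def bd : (Fin 3 → G3) →* G9 :=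
  MonoidHom.toHomUnits
    { toFun := fun g => bdM fun x => (g x : M3)
      map_one' := bdM_one
      map_mul' := fun g h => (bdM_mul (fun x => (g x : M3)) (fun x => (h x : M3))).symm }

theorem val_bd (g : Fin 3 → G3) : (bd g : M9) = bdM fun x => (g x : M3) := rfl

theorem bd_apply (g : Fin 3 → G3) (x y i j : Fin 3) :
    (bd g : M9) (x, i) (y, j) = if x = y then (g x : M3) i j else 0 := rfl

theorem bd_injective : Function.Injective (bd : (Fin 3 → G3) →* G9) := fun g h e => funext fun x =>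
  Units.ext (Matrix.ext fun i j => by
    have := congrArg (fun w : G9 => (w : M9) (x, i) (x, j)) e
    simpa [bd_apply] using this)

theorem det_bd (g : Fin 3 → G3) : (bd g : M9).det = ∏ x, (g x : M3).det := by
  have e : (bd g : M9) =
      (Matrix.blockDiagonal fun x => (g x : M3)).submatrix (Equiv.prodComm (Fin 3) (Fin 3)) (Equiv.prodComm (Fin 3) (Fin 3)) := by
    ext ⟨x, i⟩ ⟨y, j⟩
    by_cases h : x = y
    · subst h; simp [bd_apply, Matrix.blockDiagonal_apply]
    · simp [bd_apply, Matrix.blockDiagonal_apply, h]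
  rw [e, Matrix.det_submatrix_equiv_self, Matrix.det_blockDiagonal]

/-- the right factor -/
def r1 : G3 →* G9 :=
  bd.comp { toFun := fun A _ => A, map_one' := rfl, map_mul' := fun _ _ => rfl }

theorem r1_eq (A : G3) : r1 A = bd fun _ => A := rfl

theorem r1_apply (A : G3) (x y i j : Fin 3) : (r1 A : M9) (x, i) (y, j) = if x = y then (A : M3) i j else 0 := rfl

theorem r1_injective : Function.Injective (r1 : G3 →* G9) := fun A B e => congrFun (bd_injective e) 0

theorem val_r1 (A : G3) : (r1 A : M9) = (1 : M3) ⊗ₖ (A : M3) := by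
  ext ⟨x, i⟩ ⟨y, j⟩
  by_cases h : x = y
  · subst h; simp [r1_apply, Matrix.kroneckerMap_apply]
  · simp [r1_apply, Matrix.kroneckerMap_apply, h, Matrix.one_apply_ne h]

/-- the left factor -/
def l1 : G3 →* G9 :=
  MonoidHom.toHomUnits
    { toFun := fun A => (A : M3) ⊗ₖ (1 : M3)
      map_one' := by rw [Units.val_one, Matrix.one_kronecker_one]
      map_mul' := fun A B => by rw [Units.val_mul, ← Matrix.mul_kronecker_mul, mul_one] }

theorem val_l1 (A : G3) : (l1 A : M9) = (A : M3) ⊗ₖ (1 : M3) := rfl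

theorem l1_apply (A : G3) (x y i j : Fin 3) :
    (l1 A : M9) (x, i) (y, j) = (A : M3) x y * (if i = j then 1 else 0) := by
  rw [val_l1, Matrix.kroneckerMap_apply, Matrix.one_apply]

theorem det_l1 (A : G3) : (l1 A : M9).det = (A : M3).det ^ 3 := by
  rw [val_l1, Matrix.det_kronecker, Matrix.det_one, one_pow, mul_one, Fintype.card_fin]

theorem det_r1 (A : G3) : (r1 A : M9).det = (A : M3).det ^ 3 := by
  rw [r1_eq, det_bd, Finset.prod_const, Finset.card_univ, Fintype.card_fin]

theorem l1_commute_r1 (A B : G3) : Commute (l1 A : G9) (r1 B) := Units.ext (by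
  rw [Units.val_mul, Units.val_mul, val_l1, val_r1, ← Matrix.mul_kronecker_mul, ← Matrix.mul_kronecker_mul,
    mul_one, one_mul, mul_one, one_mul])

/-- the signed exchange of the factors -/
def swM : M9 := -(Matrix.of fun a b : I9 => if a.swap = b then (1 : F) else 0)

theorem swM_apply (x y i j : Fin 3) : (swM : M9) (x, i) (y, j) = -(if i = y ∧ x = j then 1 else 0) := by
  simp [swM, Prod.ext_iff]

theorem swM_mul_apply (M : M9) (x i : Fin 3) (b : I9) : ((swM : M9) * M) (x, i) b = -M (i, x) b := by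
  rw [Matrix.mul_apply, Finset.sum_eq_single (i, x)]
  · simp [swM_apply]
  · rintro ⟨z, l⟩ _ h
    have : ¬ (i = z ∧ x = l) := fun e => h (by rw [e.1, e.2])
    simp [swM_apply, this]
  · simp

theorem mul_swM_apply (M : M9) (a : I9) (y j : Fin 3) : (M * (swM : M9)) a (y, j) = -M a (j, y) := by
  rw [Matrix.mul_apply, Finset.sum_eq_single (j, y)]
  · simp [swM_apply]
  · rintro ⟨z, l⟩ _ h
    have : ¬ (l = y ∧ z = j) := fun e => h (by rw [e.1, e.2])
    simp [swM_apply, this]
  · simp

/-- the exchange -/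
def sw : G9 where
  val := swM
  inv := swM
  val_inv := by
    ext ⟨x, i⟩ ⟨y, j⟩
    rw [swM_mul_apply, swM_apply, neg_neg, Matrix.one_apply]
    simp [Prod.ext_iff, and_comm]
  inv_val := by
    ext ⟨x, i⟩ ⟨y, j⟩
    rw [swM_mul_apply, swM_apply, neg_neg, Matrix.one_apply]
    simp [Prod.ext_iff, and_comm]

theorem sw_inv : (sw : G9)⁻¹ = sw := rfl

theorem sw_sq : (sw : G9) * sw = 1 := mul_inv_cancel sw

theorem sw_conj_apply (h : G9) (x y i j : Fin 3) :
    ((sw * h * sw : G9) : M9) (x, i) (y, j) = (h : M9) (i, x) (j, y) := by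
  show (((swM : M9) * (h : M9) * (swM : M9)) : M9) (x, i) (y, j) = _
  rw [mul_swM_apply, swM_mul_apply, neg_neg]

theorem sw_l1 (A : G3) : sw * l1 A * sw = (r1 A : G9) := Units.ext (Matrix.ext fun ⟨x, i⟩ ⟨y, j⟩ => by
  rw [sw_conj_apply, l1_apply, r1_apply]
  by_cases h : x = y <;> simp [h])

theorem sw_r1 (A : G3) : sw * r1 A * sw = (l1 A : G9) := by
  rw [← sw_l1, show sw * (sw * l1 A * sw) * sw = (sw * sw) * l1 A * (sw * sw) by group, sw_sq, one_mul, mul_one]

theorem det_sw : ((sw : G9) : M9).det = 1 := by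
  have e : ((sw : G9) : M9) = -(Equiv.Perm.permMatrix F (Equiv.prodComm (Fin 3) (Fin 3))) := by
    ext ⟨x, i⟩ ⟨y, j⟩
    show (swM : M9) (x, i) (y, j) = _
    simp [swM_apply, Equiv.Perm.permMatrix, PEquiv.toMatrix_apply, Prod.ext_iff]
  rw [e, Matrix.det_neg, Matrix.det_permutation,
    show Equiv.Perm.sign (Equiv.prodComm (Fin 3) (Fin 3) : Equiv.Perm I9) = -1 by decide]
  norm_num

/-! ### The parity parts -/

/-- the matrix of `pr` -/
def prM (a b : M3) : M9 := (em : M3) ⊗ₖ a + (om : M3) ⊗ₖ b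

theorem prM_mul (h2 : (2 : F) ≠ 0) (a b a' b' : M3) : prM a b * prM a' b' = prM (a * a') (b * b') := by
  have oo : (om : M3) * om = om := om_mul_om h2
  have eo : (em : M3) * om = 0 := by rw [em_eq h2, sub_mul, one_mul, oo, sub_self]
  have oe : (om : M3) * em = 0 := by rw [em_eq h2, mul_sub, mul_one, oo, sub_self]
  have ee : (em : M3) * em = em := by
    conv_lhs => arg 2; rw [em_eq h2]
    rw [mul_sub, mul_one, eo, sub_zero]
  simp only [prM, add_mul, mul_add, ← Matrix.mul_kronecker_mul, ee, eo, oe, oo, Matrix.zero_kronecker, add_zero,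
    zero_add]

theorem prM_self (h2 : (2 : F) ≠ 0) (a : M3) : prM a a = (1 : M3) ⊗ₖ a := by
  rw [prM, ← Matrix.add_kronecker, em_eq h2, sub_add_cancel]

theorem prM_apply (a b : M3) (x y i j : Fin 3) :
    prM a b (x, i) (y, j) = (em : M3) x y * a i j + (om : M3) x y * b i j := rfl

/-- the parity parts -/
def pr (h2 : (2 : F) ≠ 0) : G3 × G3 →* G9 :=
  MonoidHom.toHomUnits
    { toFun := fun w => prM (w.1 : M3) (w.2 : M3)
      map_one' := by
        show prM (1 : M3) 1 = 1
        rw [prM_self h2, Matrix.one_kronecker_one]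
      map_mul' := fun v w => (prM_mul h2 _ _ _ _).symm }

theorem val_pr (h2 : (2 : F) ≠ 0) (a b : G3) : (pr h2 (a, b) : M9) = prM (a : M3) (b : M3) := rfl

theorem pr_self (h2 : (2 : F) ≠ 0) (a : G3) : pr h2 (a, a) = r1 a := Units.ext (by
  rw [val_pr, prM_self h2, val_r1])

theorem pr_injective (h2 : (2 : F) ≠ 0) : Function.Injective (pr h2 : G3 × G3 →* G9) := by
  rintro ⟨a, b⟩ ⟨a', b'⟩ e
  have h := fun x y i j => congrArg (fun w : G9 => (w : M9) (x, i) (y, j)) e
  refine Prod.ext (Units.ext (Matrix.ext fun i j => ?_)) (Units.ext (Matrix.ext fun i j => ?_))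
  · have := h 0 0 i j
    simpa [val_pr, prM_apply, em, om] using this
  · have h1 := h 1 1 i j
    have h2' := h 1 2 i j
    simp [val_pr, prM_apply, em, om] at h1 h2'
    field_simp at h1 h2'
    exact mul_left_cancel₀ h2 (by linear_combination h1 - h2')

theorem pr_commute_l1 (h2 : (2 : F) ≠ 0) {A : G3} (he : (A : M3) * (em : M3) = (em : M3) * (A : M3)) (ho : (A : M3) * (om : M3) = (om : M3) * (A : M3))
    (w : G3 × G3) : Commute (l1 A : G9) (pr h2 w) := Units.ext (by
  show (l1 A : M9) * prM (w.1 : M3) (w.2 : M3) = prM (w.1 : M3) (w.2 : M3) * (l1 A : M9)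
  rw [val_l1, prM, mul_add, add_mul, ← Matrix.mul_kronecker_mul, ← Matrix.mul_kronecker_mul,
    ← Matrix.mul_kronecker_mul, ← Matrix.mul_kronecker_mul, he, ho, one_mul, one_mul, mul_one, mul_one])

theorem det_prM_one (h2 : (2 : F) ≠ 0) (d : M3) : (prM 1 d).det = d.det := by
  obtain ⟨U, hU⟩ : ∃ U : Matrix I9 (Fin 3) F, U = Matrix.of fun a j => ![0, 1, -1] a.1 * (if a.2 = j then 1 else 0) :=
    ⟨_, rfl⟩
  obtain ⟨V, hV⟩ : ∃ V : Matrix (Fin 3) I9 F,
      V = Matrix.of fun i a => ![0, (2 : F)⁻¹, -2⁻¹] a.1 * (d - 1) i a.2 := ⟨_, rfl⟩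
  have e : prM 1 d = 1 + U * V := by
    rw [show prM (1 : M3) d = prM 1 1 + (om : M3) ⊗ₖ (d - 1) by
        rw [prM, prM, add_assoc, ← Matrix.kronecker_add, add_sub_cancel], prM_self h2, Matrix.one_kronecker_one]
    congr 1
    ext ⟨x, i⟩ ⟨y, j⟩
    rw [Matrix.mul_apply, hU, hV, Finset.sum_eq_single i]
    · fin_cases x <;> fin_cases y <;> simp [om, Matrix.kroneckerMap_apply] <;> ring
    · intro l _ hl
      simp [Ne.symm hl]
    · simp
  have e2 : V * U = d - 1 := by
    ext i j
    rw [Matrix.mul_apply, hU, hV, Fintype.sum_prod_type, Fin.sum_univ_three, Finset.sum_eq_single j,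
      Finset.sum_eq_single j, Finset.sum_eq_single j]
    · simp
      field_simp
      ring
    all_goals first | (intro l _ hl; simp [hl]) | simp
  rw [e, Matrix.det_one_add_mul_comm, e2, add_sub_cancel]

theorem det_pr (h2 : (2 : F) ≠ 0) (a b : G3) :
    (pr h2 (a, b) : M9).det = (a : M3).det ^ 2 * (b : M3).det := by
  have e : pr h2 (a, b) = pr h2 (a, a) * pr h2 (1, a⁻¹ * b) := by
    rw [← map_mul, Prod.mk_mul_mk, mul_one, mul_inv_cancel_left]
  rw [e, Units.val_mul, Matrix.det_mul, pr_self, det_r1, val_pr, Units.val_one, det_prM_one h2, Units.val_mul,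
    Matrix.det_mul]
  have h : (a : M3).det * ((a⁻¹ : G3) : M3).det = 1 := by rw [← Matrix.det_mul, Units.mul_inv, Matrix.det_one]
  linear_combination ((a : M3).det ^ 2 * (b : M3).det) * h

/-- the elements commuting with `l1 Φ` are parts -/
theorem exists_pr (h2 : (2 : F) ≠ 0) {h : G9} (h0 : Commute h (l1 (gPhi ω 0))) (h1 : Commute h (l1 (gPhi ω 1))) :
    ∃ a b : G3, h = pr h2 (a, b) := by
  have shape : ∀ k : G9, Commute k (l1 (gPhi ω 0)) → Commute k (l1 (gPhi ω 1)) →
      ∃ a b : M3, (k : M9) = prM a b := by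
    intro k k0 k1
    obtain ⟨Mk, hMk⟩ : ∃ Mk : Fin 3 → Fin 3 → M3, Mk = fun i j => Matrix.of fun x y => (k : M9) (x, i) (y, j) :=
      ⟨_, rfl⟩
    have key : ∀ (A : G3), Commute k (l1 A) → ∀ i j, Mk i j * (A : M3) = (A : M3) * Mk i j := by
      intro A hA i j
      ext x y
      have e := congrArg (fun w : G9 => (w : M9) (x, i) (y, j)) hA.eq
      simp only [Units.val_mul, Matrix.mul_apply, Fintype.sum_prod_type, l1_apply, mul_ite, mul_one, mul_zero, ite_mul,
        zero_mul, Finset.sum_ite_eq', Finset.sum_ite_eq, Finset.mem_univ, if_true] at e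
      simp only [hMk, Matrix.mul_apply, Matrix.of_apply]
      exact e
    refine ⟨Matrix.of fun i j => Mk i j 0 0, Matrix.of fun i j => Mk i j 1 1 - Mk i j 1 2,
      Matrix.ext fun ⟨x, i⟩ ⟨y, j⟩ => ?_⟩
    have e := congrFun (congrFun (eo_of_commute ω h2 (M := Mk i j) (by simpa [val_gPhi] using key _ k0 i j)
      (by simpa [val_gPhi] using key _ k1 i j)) x) y
    rw [prM_apply, show (k : M9) (x, i) (y, j) = Mk i j x y by rw [hMk]; rfl, e]
    simp [mul_comm]
  obtain ⟨a, b, hab⟩ := shape h h0 h1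
  obtain ⟨a', b', hab'⟩ := shape h⁻¹ h0.inv_left h1.inv_left
  have hi : ∀ u v u' v' : M3, prM u v * prM u' v' = 1 → u * u' = 1 ∧ v * v' = 1 := by
    intro u v u' v' e
    rw [prM_mul h2, ← Matrix.one_kronecker_one, ← prM_self h2 (1 : M3)] at e
    have he := fun x y i j => congrFun (congrFun e (x, i)) (y, j)
    refine ⟨Matrix.ext fun i j => ?_, Matrix.ext fun i j => ?_⟩
    · simpa [prM_apply, em, om] using he 0 0 i j
    · have e1 := he 1 1 i j
      have e2 := he 1 2 i j
      simp [prM_apply, em, om] at e1 e2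
      field_simp at e1 e2
      exact mul_left_cancel₀ h2 (by linear_combination e1 - e2)
  obtain ⟨ha, hb⟩ := hi a b a' b' (by rw [← hab, ← hab', ← Units.val_mul, mul_inv_cancel, Units.val_one])
  obtain ⟨ha', hb'⟩ := hi a' b' a b (by rw [← hab, ← hab', ← Units.val_mul, inv_mul_cancel, Units.val_one])
  exact ⟨⟨a, a', ha, ha'⟩, ⟨b, b', hb, hb'⟩, Units.ext hab⟩

/-- the elements commuting with `l1 D` are block diagonal -/
theorem exists_bd {h : G9} (hD : Commute h (l1 (gD ω))) : ∃ g : Fin 3 → G3, h = bd g := by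
  have shape : ∀ k : G9, Commute k (l1 (gD ω)) → (k : M9) = bdM fun x => Matrix.of fun i j => (k : M9) (x, i) (x, j) := by
    intro k hk
    ext ⟨x, i⟩ ⟨y, j⟩
    rw [bdM_apply]
    by_cases hxy : x = y
    · subst hxy; rw [if_pos rfl]; rfl
    rw [if_neg hxy]
    have e := congrArg (fun w : G9 => (w : M9) (x, i) (y, j)) hk.eq
    simp only [Units.val_mul, Matrix.mul_apply, Fintype.sum_prod_type, l1_apply, mul_ite, mul_one, mul_zero, ite_mul,
      zero_mul, Finset.sum_ite_eq', Finset.sum_ite_eq, Finset.mem_univ, if_true, val_gD, dm, Matrix.diagonal_apply] at e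
    have hd : ![1, ω.μ, ω.μ * ω.μ] x ≠ ![1, ω.μ, ω.μ * ω.μ] y := by
      fin_cases x <;> fin_cases y <;> simp at hxy ⊢
      exacts [Ne.symm ω.ne_one, Ne.symm ω.sq_ne_one, ω.ne_one, ω.ne_sq, ω.sq_ne_one, Ne.symm ω.ne_sq]
    exact (mul_eq_zero.1 (show (![1, ω.μ, ω.μ * ω.μ] y - ![1, ω.μ, ω.μ * ω.μ] x) * (k : M9) (x, i) (y, j) = 0 by
      linear_combination e)).resolve_left (sub_ne_zero.2 (Ne.symm hd))
  have a := shape h hD
  have b := shape h⁻¹ hD.inv_left
  have hu : ∀ u v : G9, ∀ g g' : Fin 3 → M3, (u : M9) = bdM g → (v : M9) = bdM g' → u * v = 1 → ∀ x, g x * g' x = 1 := by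
    intro u v g g' hg hg' e x
    have e' := congrArg (fun w : G9 => (w : M9)) e
    simp only [Units.val_mul, hg, hg', bdM_mul, Units.val_one] at e'
    ext i j
    simpa [bdM_apply, Matrix.one_apply, Prod.ext_iff] using congrFun (congrFun e' (x, i)) (x, j)
  exact ⟨fun x => ⟨_, _, hu _ _ _ _ a b (mul_inv_cancel h) x, hu _ _ _ _ b a (inv_mul_cancel h) x⟩, Units.ext a⟩

/-! ### The odd block -/

/-- the block on the odd part -/
def ob (h : M9) : M3 := Matrix.of fun i j => h (1, i) (1, j) - h (1, i) (2, j)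

theorem ob_apply (h : M9) (i j : Fin 3) : ob h i j = h (1, i) (1, j) - h (1, i) (2, j) := rfl

theorem ob_pr (h2 : (2 : F) ≠ 0) (a b : G3) : ob (pr h2 (a, b) : M9) = (b : M3) := by
  ext i j
  simp [ob_apply, val_pr, prM_apply, em, om]
  field_simp
  ring

theorem ob_r1 (A : G3) : ob (r1 A : M9) = (A : M3) := by
  ext i j
  simp [ob_apply, r1_apply]

theorem ob_l1 (A : G3) : ob (l1 A : M9) = ((A : M3) 1 1 - (A : M3) 1 2) • 1 := by
  ext i j
  by_cases h : i = j <;> simp [ob_apply, l1_apply, Matrix.one_apply, h]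

theorem ob_mul (h : M9) {k : G9} (hk : Commute k (l1 gT)) : ob (h * (k : M9)) = ob h * ob (k : M9) := by
  have hσ : ∀ z l : Fin 3, ∀ j, ((k : M9) (z, l) (1, j) - (k : M9) (z, l) (2, j)) =
      ![0, 1, -1] z * ob (k : M9) l j := by
    intro z l j
    have e := fun x y => congrArg (fun w : G9 => (w : M9) (x, l) (y, j)) hk.eq
    have e1 := e 0 1
    have e2 := e 1 1
    have e3 := e 1 2
    simp [Units.val_mul, Matrix.mul_apply, Fintype.sum_prod_type, l1_apply, val_gT, tm, Fin.sum_univ_three] at e1 e2 e3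
    fin_cases z <;> simp [ob_apply]
    · linear_combination -e1
    · linear_combination -e2 + e3
  ext i j
  simp only [ob_apply, Matrix.mul_apply, ← Finset.sum_sub_distrib, ← mul_sub]
  rw [Fintype.sum_prod_type]
  simp only [hσ, Fin.sum_univ_three]
  simp [ob_apply]
  ring

/-- the odd block of a parity centraliser -/
def obG : (Subgroup.centralizer ({l1 gT} : Set G9)) →* G3 :=
  MonoidHom.toHomUnits
    { toFun := fun h => ob ((h : G9) : M9)
      map_one' := by
        show ob ((1 : G9) : M9) = 1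
        rw [← map_one (r1 : G3 →* G9), ob_r1, Units.val_one]
      map_mul' := fun h k => by
        show ob (((h : G9) * (k : G9) : G9) : M9) = _
        rw [Units.val_mul, ob_mul _ (Subgroup.mem_centralizer_singleton_iff.1 k.2)] }

theorem val_obG (h : Subgroup.centralizer ({l1 gT} : Set G9)) : (obG h : M3) = ob ((h : G9) : M9) := rfl

end CfsgLib.Perm.Trans.ThreeDim.Nine
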