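import Cfsg.Agent.Lib.Perm.Trans.ThreeDim.Nine.Block
import Cfsg.Agent.Lib.Perm.LinDecomp.Blocks

/-!
# With all single blocks the overgroup contains the stabiliser of the decomposition
-/

set_option autoImplicit false
set_option linter.all false

namespace CfsgLib.Perm.Trans.ThreeDim.Nine

open scoped Matrix
open Matrix CfsgLib.Perm.Trans.ThreeDim.Heis CfsgLib.Perm.LinDecomp

variable {F : Type*} [Field F] [Fintype F] {ω : Root F}
variable {U : Subgroup (GL (Fin 3) F)} {G H : Subgroup (GL I9 F)}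

/-- diagonal elements -/
def dg : (Fin 3 → Fˣ) →* GL (Fin 3) F :=
  MonoidHom.toHomUnits
    { toFun := fun d => Matrix.diagonal fun i => (d i : F)
      map_one' := Matrix.diagonal_one
      map_mul' := fun a b => by rw [Matrix.diagonal_mul_diagonal]; rfl }

theorem val_dg (d : Fin 3 → Fˣ) : (dg d : Matrix (Fin 3) (Fin 3) F) = Matrix.diagonal fun i => (d i : F) := rfl

theorem det_dg (d : Fin 3 → Fˣ) : (dg d : Matrix (Fin 3) (Fin 3) F).det = ((d 0 * d 1 * d 2 : Fˣ) : F) := by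
  rw [val_dg, Matrix.det_diagonal, Fin.prod_univ_three]; rfl

/-- a single diagonal block moved across -/
theorem sw_single_dg (d : Fin 3 → Fˣ) :
    sw * bd (Pi.mulSingle 0 (dg d)) * sw = (bd fun x => dg ![d x, 1, 1] : GL I9 F) :=
  Units.ext (Matrix.ext fun ⟨x, i⟩ ⟨y, j⟩ => by
    rw [sw_conj_apply, bd_apply, bd_apply]
    fin_cases i <;> fin_cases j <;> by_cases h : x = y <;> simp [h, val_dg, Matrix.one_apply])

theorem gT_apply_eq_zero {y x : Fin 3} (h : y ≠ -x) : ((gT : GL (Fin 3) F) : Matrix (Fin 3) (Fin 3) F) y x = 0 := by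
  rw [val_gT]
  fin_cases y <;> fin_cases x <;> first | exact absurd (by decide) h | simp [tm]

theorem gS_apply_eq_zero {y x : Fin 3} (h : y ≠ x + 1) : ((gS : GL (Fin 3) F) : Matrix (Fin 3) (Fin 3) F) y x = 0 := by
  rw [val_gS]
  fin_cases y <;> fin_cases x <;> first | exact absurd (by decide) h | simp [sm]

/-- monomial elements for all permutations -/
theorem exists_perm (o : Over ω G H) (s : Equiv.Perm (Fin 3)) :
    ∃ A : GL (Fin 3) F, l1 A ∈ H ∧ ∀ y x, y ≠ s x → (A : Matrix (Fin 3) (Fin 3) F) y x = 0 := by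
  obtain ⟨P, hP⟩ : ∃ P : (Fin 3 → Fin 3) → Prop, ∀ f, P f ↔
      ∃ A : GL (Fin 3) F, l1 A ∈ H ∧ ∀ y x, y ≠ f x → (A : Matrix (Fin 3) (Fin 3) F) y x = 0 :=
    ⟨_, fun f => Iff.rfl⟩
  have hS : l1 gS ∈ H := o.l1_mem (o.R_mem _ (gS_mem ω))
  have hT : l1 gT ∈ H := by
    rw [← gPhi_sq ω 0, map_mul]
    exact mul_mem (o.l1_mem (o.Phi_mem 0)) (o.l1_mem (o.Phi_mem 0))
  have h1 : P id := (hP _).2 ⟨1, by rw [map_one]; exact one_mem H, fun y x h => by rw [Units.val_one]; exact Matrix.one_apply_ne h⟩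
  have hmul : ∀ f, P f → P ((· + 1) ∘ f) ∧ P (Neg.neg ∘ f) := by
    intro f hf
    obtain ⟨A, hA, hA0⟩ := (hP f).1 hf
    refine ⟨(hP _).2 ⟨gS * A, by rw [map_mul]; exact mul_mem hS hA, fun y x h => ?_⟩,
      (hP _).2 ⟨gT * A, by rw [map_mul]; exact mul_mem hT hA, fun y x h => ?_⟩⟩
    all_goals
      rw [Units.val_mul, Matrix.mul_apply]
      refine Finset.sum_eq_zero fun z _ => ?_
      by_cases hz : z = f x
      · subst hz
        first | exact mul_eq_zero_of_left (gS_apply_eq_zero h) _ | exact mul_eq_zero_of_left (gT_apply_eq_zero h) _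
      · rw [hA0 z x hz, mul_zero]
  refine (hP _).1 ?_
  have key : ∀ s : Equiv.Perm (Fin 3), (∀ x, s x = x) ∨ (∀ x, s x = x + 1) ∨ (∀ x, s x = x + 1 + 1) ∨
      (∀ x, s x = -x) ∨ (∀ x, s x = -x + 1) ∨ (∀ x, s x = -x + 1 + 1) := by decide
  rcases key s with e | e | e | e | e | e <;> rw [show (⇑s) = _ from funext e]
  · exact h1
  · exact (hmul _ h1).1
  · exact (hmul _ (hmul _ h1).1).1
  · exact (hmul _ h1).2
  · exact (hmul _ (hmul _ h1).2).1
  · exact (hmul _ (hmul _ (hmul _ h1).2).1).1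

/-- block diagonal elements of `G` are in `H` -/
theorem bd_mem_of_singles (c : Base ω U G) (o : Over ω G H)
    (hcomp : ∀ g, bd g ∈ G → ∀ x, dg ![Matrix.GeneralLinearGroup.det (g x), (Matrix.GeneralLinearGroup.det (g x))⁻¹, 1] ∈ U ∧
      dg ![1, Matrix.GeneralLinearGroup.det (g x), (Matrix.GeneralLinearGroup.det (g x))⁻¹] ∈ U)
    (hs : ∀ x, ∀ a ∈ U, bd (Pi.mulSingle x a) ∈ H) {g : Fin 3 → GL (Fin 3) F} (hg : bd g ∈ G) : bd g ∈ H := by
  obtain ⟨d, hd⟩ : ∃ d : Fin 3 → Fˣ, d = fun x => Matrix.GeneralLinearGroup.det (g x) := ⟨_, rfl⟩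
  have hprod : d 0 * d 1 * d 2 = 1 := by
    refine Units.ext ?_
    have := c.det_G _ hg
    rw [det_bd, Fin.prod_univ_three] at this
    simpa [hd] using this
  have hA : dg ![(d 0)⁻¹, d 0, 1] ∈ U ∧ dg ![1, (d 0 * d 1)⁻¹, d 0 * d 1] ∈ U := by
    obtain ⟨a0, b0⟩ := hcomp g hg 0
    obtain ⟨-, b1⟩ := hcomp g hg 1
    rw [show Matrix.GeneralLinearGroup.det (g 0) = d 0 by rw [hd]] at a0 b0
    rw [show Matrix.GeneralLinearGroup.det (g 1) = d 1 by rw [hd]] at b1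
    refine ⟨?_, ?_⟩
    · have := inv_mem a0
      rwa [← map_inv, show (![d 0, (d 0)⁻¹, 1] : Fin 3 → Fˣ)⁻¹ = ![(d 0)⁻¹, d 0, 1] by
        funext i; fin_cases i <;> simp] at this
    · have := inv_mem (mul_mem b0 b1)
      rwa [← map_mul, ← map_inv, show ((![1, d 0, (d 0)⁻¹] : Fin 3 → Fˣ) * ![1, d 1, (d 1)⁻¹])⁻¹ =
        ![1, (d 0 * d 1)⁻¹, d 0 * d 1] by funext i; fin_cases i <;> simp [mul_comm]] at this
  obtain ⟨c1, hc1⟩ : ∃ c1 : Fin 3 → GL (Fin 3) F,
      c1 = fun x => dg ![![(d 0)⁻¹, d 0, 1] x, 1, 1] * dg ![![1, (d 0 * d 1)⁻¹, d 0 * d 1] x, 1, 1] := ⟨_, rfl⟩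
  have hc1H : bd c1 ∈ H := by
    have : c1 = (fun x => dg ![![(d 0)⁻¹, d 0, 1] x, 1, 1]) * fun x => dg ![![1, (d 0 * d 1)⁻¹, d 0 * d 1] x, 1, 1] := by
      rw [hc1]; rfl
    rw [this, map_mul, ← sw_single_dg, ← sw_single_dg]
    exact mul_mem (mul_mem (mul_mem o.sw_mem (hs 0 _ hA.1)) o.sw_mem) (mul_mem (mul_mem o.sw_mem (hs 0 _ hA.2)) o.sw_mem)
  have hk : bd (c1 * g) ∈ G := by rw [map_mul]; exact mul_mem (o.le hc1H) hg
  have hdet : ∀ x, ((c1 * g) x : Matrix (Fin 3) (Fin 3) F).det = 1 := by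
    intro x
    have h3 : (g x : Matrix (Fin 3) (Fin 3) F).det = (d x : F) := by rw [hd]; rfl
    rw [Pi.mul_apply, Units.val_mul, Matrix.det_mul, h3, hc1, Units.val_mul, Matrix.det_mul, det_dg, det_dg,
      ← Units.val_mul, ← Units.val_mul, ← Units.val_one]
    congr 1
    fin_cases x <;> simp
    simpa using congrArg Units.val hprod
  have hU := c.bd_mem _ hk hdet
  have hH : bd (c1 * g) ∈ H := by
    have : Finset.univ.noncommProd (fun x => Pi.mulSingle x ((c1 * g) x)) (fun i _ j _ h => Pi.mulSingle_apply_commute (c1 * g) i j)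
        ∈ H.comap (bd : (Fin 3 → GL (Fin 3) F) →* GL I9 F) :=
      Subgroup.noncommProd_mem _ _ fun x _ => hs x _ (hU x)
    rw [Finset.noncommProd_mulSingle] at this
    exact this
  rw [map_mul] at hH
  have := mul_mem (inv_mem hc1H) hH
  rwa [inv_mul_cancel_left] at this

/-- the stabiliser of the decomposition in `G` lies in `H` -/
theorem mem_of_bstab (c : Base ω U G) (o : Over ω G H)
    (hcomp : ∀ g, bd g ∈ G → ∀ x, dg ![Matrix.GeneralLinearGroup.det (g x), (Matrix.GeneralLinearGroup.det (g x))⁻¹, 1] ∈ U ∧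
      dg ![1, Matrix.GeneralLinearGroup.det (g x), (Matrix.GeneralLinearGroup.det (g x))⁻¹] ∈ U)
    (hs : ∀ x, ∀ a ∈ U, bd (Pi.mulSingle x a) ∈ H) {h : GL I9 F} (hG : h ∈ G)
    (hb : BStab (Prod.fst : I9 → Fin 3) h) : h ∈ H := by
  obtain ⟨s, hs'⟩ := hb
  have h0 : ∀ z x i j, z ≠ s x → (h : Matrix I9 I9 F) (z, i) (x, j) = 0 := by
    intro z x i j hz
    have := (hs' x _ (single_mem_bsub Prod.fst ((x, j) : I9) 1)) (z, i) hz
    simpa [Matrix.mulVec_single_one] using this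
  obtain ⟨A, hA, hA0⟩ := exists_perm o s.symm
  obtain ⟨k, hk⟩ : ∃ k, k = l1 A * h := ⟨_, rfl⟩
  have hk0 : ∀ y x i j, y ≠ x → (k : Matrix I9 I9 F) (y, i) (x, j) = 0 := by
    intro y x i j hyx
    rw [hk, Units.val_mul, Matrix.mul_apply, Fintype.sum_prod_type]
    refine Finset.sum_eq_zero fun z _ => Finset.sum_eq_zero fun l _ => ?_
    by_cases hz : z = s x
    · subst hz
      rw [l1_apply, hA0 y _ (by simpa using hyx), zero_mul, zero_mul]
    · rw [h0 z x l j hz, mul_zero]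
  obtain ⟨g, hg⟩ := exists_bd ω (h := k) (Units.ext (Matrix.ext fun ⟨y, i⟩ ⟨x, j⟩ => by
    simp only [Units.val_mul, Matrix.mul_apply, Fintype.sum_prod_type, l1_apply, val_gD, dm, Matrix.diagonal_apply,
      mul_ite, mul_one, mul_zero, ite_mul, zero_mul, Finset.sum_ite_eq', Finset.sum_ite_eq, Finset.mem_univ, if_true]
    by_cases hyx : y = x
    · subst hyx; exact mul_comm _ _
    · rw [hk0 y x i j hyx]; simp))
  have hkH : k ∈ H := hg ▸ bd_mem_of_singles c o hcomp hs (hg ▸ hk ▸ mul_mem (o.le hA) hG)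
  rw [hk] at hkH
  have := mul_mem (inv_mem hA) hkH
  rwa [inv_mul_cancel_left] at this

end CfsgLib.Perm.Trans.ThreeDim.Nine
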