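import Cfsg.Agent.Lib.Perm.Trans.ThreeDim.Nine.Max
import Cfsg.Agent.Lib.Perm.Trans.ThreeDim.Nine.SL
import Cfsg.Agent.Lib.Perm.Trans.UnitDecomp.Max
import Cfsg.Agent.Lib.Perm.Trans.UnitSU

/-!
# The hermitian form on pairs
-/

set_option autoImplicit false
set_option linter.all false

namespace CfsgLib.Perm.Trans.ThreeDim.Nine

open scoped Matrix Kronecker
open Matrix Cfsg Cfsg.Geo CfsgLib.Perm.Trans CfsgLib.Perm.Trans.Unit CfsgLib.Perm.Trans.ThreeDim.Heis CfsgLib.Perm.LinDecomp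

variable {F : Type*} [Field F] {q : ℕ}

/-- the standard form on pairs -/
def f9 (q : ℕ) (u v : I9 → F) : F := ∑ k, u k * v k ^ q

theorem f9_rows (u v : I9 → F) : f9 q u v = ∑ x, hermForm 3 F q (fun i => u (x, i)) (fun i => v (x, i)) :=
  Fintype.sum_prod_type _

theorem f9_reindex (u v : I9 → F) : f9 q u v = hermForm 9 F q (u ∘ e9.symm) (v ∘ e9.symm) :=
  (Equiv.sum_comp e9.symm fun k => u k * v k ^ q).symm

theorem isUnitary_f9 [Fintype F] (C : CfsgLib.SU.UCtx F q) : IsUnitaryForm C.bar (f9 (F := F) q) where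
  ne_refl := (isUnitary_hermForm C (n := 9)).ne_refl
  involutive := C.bar_bar
  add_left x y v := by simp only [f9_reindex]; exact (isUnitary_hermForm C).add_left _ _ _
  smul_left c x v := by simp only [f9_reindex]; exact (isUnitary_hermForm C).smul_left c _ _
  herm v w := by simp only [f9_reindex]; exact (isUnitary_hermForm C).herm _ _
  nondegenerate v hv := by
    have hv' : v ∘ e9.symm ≠ 0 := fun h => hv (funext fun k => by simpa using congrFun h (e9 k))
    obtain ⟨⟨x, hx⟩, ⟨y, hy⟩⟩ := (isUnitary_hermForm C).nondegenerate _ hv'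
    refine ⟨⟨x ∘ e9, ?_⟩, ⟨y ∘ e9, ?_⟩⟩ <;> rw [f9_reindex] <;>
      simpa [Function.comp_assoc] using ‹_›

/-- a product vector -/
def tens (x u : Fin 3 → F) : I9 → F := fun k => x k.1 * u k.2

theorem f9_tens (x y u v : Fin 3 → F) :
    f9 q (tens x u) (tens y v) = hermForm 3 F q x y * hermForm 3 F q u v := by
  simp only [f9, hermForm, tens, Fintype.sum_prod_type, Finset.sum_mul, Finset.mul_sum, mul_pow]
  rw [Finset.sum_comm]
  exact Finset.sum_congr rfl fun i _ => Finset.sum_congr rfl fun j _ => by ring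

theorem kron_mulVec (A B : Matrix (Fin 3) (Fin 3) F) (x u : Fin 3 → F) :
    (A ⊗ₖ B) *ᵥ tens x u = tens (A *ᵥ x) (B *ᵥ u) := by
  funext ⟨a, b⟩
  simp only [Matrix.mulVec, dotProduct, tens, Fintype.sum_prod_type, Matrix.kroneckerMap_apply, Finset.sum_mul,
    Finset.mul_sum]
  rw [Finset.sum_comm]
  exact Finset.sum_congr rfl fun i _ => Finset.sum_congr rfl fun j _ => by ring

theorem bd_mulVec (g : Fin 3 → GL (Fin 3) F) (u : I9 → F) (x : Fin 3) :
    (fun i => ((bd g : GL I9 F) : Matrix I9 I9 F).mulVec u (x, i)) = (g x : Matrix (Fin 3) (Fin 3) F) *ᵥ fun i => u (x, i) := by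
  funext i
  simp [Matrix.mulVec, dotProduct, Fintype.sum_prod_type, bd_apply]

variable [Fintype F]

theorem bd_mem_iso9 {g : Fin 3 → GL (Fin 3) F} (hq : q ≠ 0) :
    bd g ∈ isoU (f9 (F := F) q) ↔ ∀ x, g x ∈ GU 3 F q := by
  refine ⟨fun h x u v => ?_, fun h => mem_isoU.2 fun u v => ?_⟩
  · obtain ⟨emb, he⟩ : ∃ emb : (Fin 3 → F) → I9 → F, emb = fun w k => if k.1 = x then w k.2 else 0 := ⟨_, rfl⟩
    have h1 := mem_isoU.1 h (emb u) (emb v)
    simp only [f9_rows, bd_mulVec] at h1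
    rw [Finset.sum_eq_single x ?_ (by simp), Finset.sum_eq_single x ?_ (by simp)] at h1
    · simpa [he] using h1
    all_goals
      intro y _ hy
      simp [he, hy, hermForm, Matrix.mulVec, dotProduct, zero_pow hq]
  · simp only [f9_rows, bd_mulVec]
    exact Finset.sum_congr rfl fun x _ => h x _ _

theorem r1_mem_iso9 {a : GL (Fin 3) F} (hq : q ≠ 0) (ha : a ∈ GU 3 F q) : r1 a ∈ isoU (f9 (F := F) q) :=
  (bd_mem_iso9 (g := fun _ => a) hq).2 fun _ => ha

theorem sw_mem_iso9 (hq : (-1 : F) * (-1) ^ q = 1) : sw ∈ isoU (f9 (F := F) q) := mem_isoU.2 fun u v => by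
  have h : ∀ (w : I9 → F) (k : I9), ((sw : GL I9 F) : Matrix I9 I9 F).mulVec w k = -w k.swap := by
    rintro w ⟨x, i⟩
    show ((swM : Matrix I9 I9 F) *ᵥ w) (x, i) = _
    rw [Matrix.mulVec, dotProduct, Finset.sum_eq_single (i, x)]
    · simp [swM_apply]
    · rintro ⟨y, j⟩ _ hne
      have : ¬(i = y ∧ x = j) := fun e => hne (by rw [e.1, e.2])
      simp [swM_apply, this]
    · simp
  simp only [f9, h]
  rw [← Equiv.sum_comp (Equiv.prodComm (Fin 3) (Fin 3))]
  refine Finset.sum_congr rfl fun k _ => ?_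
  simp only [Equiv.prodComm_apply, Prod.swap_swap]
  rw [neg_eq_neg_one_mul (u k), neg_eq_neg_one_mul (v k), mul_pow]
  linear_combination (u k * v k ^ q) * hq

theorem pr_mem_iso9 (h2 : (2 : F) ≠ 0) (hq : q ≠ 0) (hm : (-1 : F) * (-1) ^ q = 1) {a b : GL (Fin 3) F}
    (h : pr h2 (a, b) ∈ isoU (f9 (F := F) q)) : a ∈ GU 3 F q ∧ b ∈ GU 3 F q := by
  have h22 : (2 : F)⁻¹ + 2⁻¹ = 1 := by field_simp; norm_num
  have he : ∀ x : Fin 3 → F, x 1 = x 2 → (em : Matrix (Fin 3) (Fin 3) F) *ᵥ x = x ∧ (om : Matrix (Fin 3) (Fin 3) F) *ᵥ x = 0 := by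
    intro x hx
    constructor <;> funext i <;> fin_cases i <;>
      simp [em, om, Matrix.mulVec, dotProduct, Fin.sum_univ_three, ← hx] <;> linear_combination (x 1) * h22
  have ho : ∀ x : Fin 3 → F, x 0 = 0 → x 2 = -x 1 → (em : Matrix (Fin 3) (Fin 3) F) *ᵥ x = 0 ∧ (om : Matrix (Fin 3) (Fin 3) F) *ᵥ x = x := by
    intro x hx hx'
    constructor <;> funext i <;> fin_cases i <;>
      simp [em, om, Matrix.mulVec, dotProduct, Fin.sum_univ_three, hx, hx'] <;>
      first | ring1 | linear_combination (x 1) * h22 | linear_combination (-x 1) * h22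
  constructor <;> intro u v
  · have h1 := mem_isoU.1 h (tens ![1, 0, 0] u) (tens ![1, 0, 0] v)
    obtain ⟨e1, e2⟩ := he ![1, 0, 0] (by simp)
    have key : ∀ w, (pr h2 (a, b) : GL I9 F).val *ᵥ tens ![1, 0, 0] w = tens ![1, 0, 0] ((a : Matrix (Fin 3) (Fin 3) F) *ᵥ w) := by
      intro w
      rw [val_pr, prM, Matrix.add_mulVec, kron_mulVec, kron_mulVec, e1, e2]
      funext k; simp [tens]
    rw [key, key, f9_tens, f9_tens] at h1
    refine mul_left_cancel₀ ?_ h1
    simp [hermForm, Fin.sum_univ_three, zero_pow hq]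
  · have h1 := mem_isoU.1 h (tens ![0, 1, -1] u) (tens ![0, 1, -1] v)
    obtain ⟨e1, e2⟩ := ho ![0, 1, -1] (by simp) (by simp)
    have key : ∀ w, (pr h2 (a, b) : GL I9 F).val *ᵥ tens ![0, 1, -1] w = tens ![0, 1, -1] ((b : Matrix (Fin 3) (Fin 3) F) *ᵥ w) := by
      intro w
      rw [val_pr, prM, Matrix.add_mulVec, kron_mulVec, kron_mulVec, e1, e2]
      funext k; simp [tens]
    rw [key, key, f9_tens, f9_tens] at h1
    refine mul_left_cancel₀ ?_ h1
    simp [hermForm, Fin.sum_univ_three, zero_pow hq]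
    have hm' : -((-1 : F) ^ q) = 1 := by linear_combination hm
    intro e
    exact h2 (by linear_combination e - hm')

/-- the decomposition into rows -/
def D9 (x : Fin 3) : Submodule F (I9 → F) := bsub (Prod.fst : I9 → Fin 3) x

theorem D9_decomposition (C : CfsgLib.SU.UCtx F q) (hq : q ≠ 0) :
    IsNondegenerateMDecomposition (f9 (F := F) q) 3 (D9 (F := F)) := by
  classical
  have hmem : ∀ x (w : I9 → F), w ∈ D9 x ↔ ∀ k : I9, k.1 ≠ x → w k = 0 := fun x w => Iff.rfl
  refine ⟨⟨by norm_num, by norm_num, fun x => ?_, ?_, ?_⟩, fun x w hw hw0 => ?_, fun x y hxy u hu v hv => ?_⟩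
  · let e : (D9 x : Submodule F (I9 → F)) ≃ₗ[F] (Fin 3 → F) :=
      { toFun := fun w i => (w : I9 → F) (x, i)
        map_add' := fun _ _ => rfl
        map_smul' := fun _ _ => rfl
        invFun := fun u => ⟨fun k => if k.1 = x then u k.2 else 0, fun k hk => if_neg hk⟩
        left_inv := fun w => Subtype.ext (funext fun ⟨y, i⟩ => by
          by_cases h : y = x
          · subst h; simp
          · simpa [h] using (w.2 (y, i) h).symm)
        right_inv := fun u => funext fun i => by simp }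
    rw [LinearEquiv.finrank_eq e, Module.finrank_fin_fun]
  · intro x
    rw [Submodule.disjoint_def]
    intro w hw hw'
    have hzero : ∀ k : I9, k.1 = x → w k = 0 := by
      intro k hk
      revert hw'
      have : (⨆ (j) (_ : j ≠ x), D9 j) ≤ LinearMap.ker (LinearMap.proj k : (I9 → F) →ₗ[F] F) :=
        iSup₂_le fun j hj u hu => LinearMap.mem_ker.2 (hu k (hk ▸ hj.symm))
      exact fun hw' => LinearMap.mem_ker.1 (this hw')
    funext k
    by_cases h : k.1 = x
    · exact hzero k h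
    · exact hw k h
  · refine eq_top_iff.2 fun w _ => ?_
    rw [show w = ∑ x, fun k : I9 => if k.1 = x then w k else 0 by funext k; simp [Finset.sum_apply]]
    exact sum_mem fun x _ => Submodule.mem_iSup_of_mem x fun k hk => if_neg hk
  · have hnd := (isUnitary_f9 (F := F) C).nondegenerate w hw0
    constructor
    · obtain ⟨z, hz⟩ := hnd.1
      refine ⟨fun k => if k.1 = x then z k else 0, fun k hk => if_neg hk, fun h => hz ?_⟩
      rw [← h]
      refine Finset.sum_congr rfl fun k _ => ?_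
      by_cases hk : k.1 = x
      · simp [hk]
      · simp [hw k hk, zero_pow hq]
    · obtain ⟨z, hz⟩ := hnd.2
      refine ⟨fun k => if k.1 = x then z k else 0, fun k hk => if_neg hk, fun h => hz ?_⟩
      rw [← h]
      refine Finset.sum_congr rfl fun k _ => ?_
      by_cases hk : k.1 = x
      · simp [hk]
      · simp [hw k hk]
  · refine Finset.sum_eq_zero fun k _ => ?_
    by_cases hk : k.1 = x
    · rw [hv k (hk ▸ hxy), zero_pow hq, mul_zero]
    · rw [hu k hk, zero_mul]

theorem bstab_of_stab {g : GL I9 F} (h : g ∈ decompositionStabilizer (D9 (F := F))) :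
    BStab (Prod.fst : I9 → Fin 3) g := by
  obtain ⟨s, hs⟩ := h
  refine ⟨s, fun b w hw => ?_⟩
  show (g : Matrix I9 I9 F) *ᵥ w ∈ D9 (s b)
  rw [← hs b]
  exact ⟨w, hw, Matrix.toLin'_apply _ _⟩

/-- the decomposition case -/
theorem full_SU (C : CfsgLib.SU.UCtx F q) (hq : q ≠ 0) {H : Subgroup (GL I9 F)}
    (hH : H ≤ isoU (f9 (F := F) q) ⊓ specialLinear I9 F)
    (hS : ∀ h ∈ isoU (f9 (F := F) q) ⊓ specialLinear I9 F, BStab (Prod.fst : I9 → Fin 3) h → h ∈ H) (hsw : sw ∈ H) :
    H = isoU (f9 (F := F) q) ⊓ specialLinear I9 F := by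
  have hmax := Unit.Dec.decomposition_maximal' (isUnitary_f9 (F := F) C) (D9_decomposition C hq)
    (by simp) (fun h => absurd h (by norm_num)) (Or.inl (by norm_num))
  refine (hmax.2 H (fun h hh => hS h hh.2 (bstab_of_stab hh.1)) hH).resolve_left fun e => ?_
  exact sw_not_bstab (bstab_of_stab (e.le hsw).1)

end CfsgLib.Perm.Trans.ThreeDim.Nine
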