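import Cfsg.Agent.Lib.Perm.Trans.ThreeDim.Nine.SylowMax

/-!
# The odd core contains the extraspecial group
-/

set_option autoImplicit false
set_option linter.all false

namespace CfsgLib.Perm.Trans.ThreeDim.Nine

open scoped Matrix
open Matrix CfsgLib.Perm.Trans.ThreeDim.Heis

variable {F : Type*} [Field F] [Fintype F] {ω : Root F}
variable {U : Subgroup (GL (Fin 3) F)} {G H : Subgroup (GL I9 F)}

/-- a normal solvable subgroup containing both factors -/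
theorem exists_solvable (c : Base ω U G) (o : Over ω G H)
    (hfk : ∀ a, (a, (1 : GL (Fin 3) F)) ∈ Kp c.two H → a = 1) (hshape : OddShape ω H) :
    ∃ K : Subgroup (GL I9 F), K ≤ H ∧ H ≤ Subgroup.normalizer (K : Set (GL I9 F)) ∧ Group.IsSolvable K ∧
      ∀ a ∈ gR ω, r1 a ∈ K ∧ l1 a ∈ K := by
  classical
  haveI : Fact (Nat.Prime 2) := ⟨Nat.prime_two⟩
  have h2 := c.two
  have hSH := S9_le ω o
  have hS2 : IsPGroup 2 ((S9 ω).subgroupOf H) :=
    (S9_two ω).of_equiv (Subgroup.subgroupOfEquivOfLe hSH).symm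
  obtain ⟨P, hP⟩ := hS2.exists_le_sylow
  obtain ⟨P9, hP9⟩ : ∃ P9, P9 = (P : Subgroup H).map H.subtype := ⟨_, rfl⟩
  have hP9two : IsPGroup 2 P9 := hP9 ▸ P.2.map _
  have hSP : S9 ω ≤ P9 := fun x hx => hP9 ▸ ⟨⟨x, hSH hx⟩, hP hx, rfl⟩
  have hPH : P9 ≤ H := hP9 ▸ Subgroup.map_subtype_le _
  have httord : orderOf (tt : GL I9 F) = 2 := orderOf_eq_prime (by rw [sq, tt_sq]) (fun e => by
    have := trace_tt (F := F)
    rw [e, Units.val_one, Matrix.trace_one, Fintype.card_prod, Fintype.card_fin] at this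
    obtain ⟨-, hB, -⟩ := trace_ne (F := F) h2
    exact hB (by push_cast at this; linear_combination this))
  -- `S` is a Sylow subgroup
  have hPS : P9 ≤ S9 ω := by
    by_contra hle
    have hlt : (S9 ω).subgroupOf P9 < ⊤ := lt_top_iff_ne_top.2 fun e => hle (Subgroup.subgroupOf_eq_top.1 e)
    haveI := hP9two.isNilpotent
    obtain ⟨g, hg, hgS⟩ := SetLike.exists_of_lt (Group.normalizerCondition_of_isNilpotent _ hlt)
    obtain ⟨h, hdef⟩ : ∃ h, h = (g : GL I9 F) := ⟨_, rfl⟩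
    have hhP : h ∈ P9 := hdef ▸ g.2
    have hhS : ∀ x ∈ S9 ω, h * x * h⁻¹ ∈ S9 ω := fun x hx => by
      have := ((Subgroup.mem_normalizer_iff.1 hg) ⟨x, hSP hx⟩).1 hx
      rw [hdef]; exact this
    have hhn : h ∉ S9 ω := fun e => hgS (show (g : GL I9 F) ∈ S9 ω from hdef ▸ e)
    have hfixT : ∀ k : GL I9 F, (∀ x ∈ S9 ω, k * x * k⁻¹ ∈ S9 ω) → k * tt * k⁻¹ = tt := fun k hk =>
      eq_tt ω h2 (hk _ (tt_mem ω))
        (by rw [show k * tt * k⁻¹ * (k * tt * k⁻¹) = k * (tt * tt) * k⁻¹ by group, tt_sq, mul_one, mul_inv_cancel])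
        (by rw [trace_conj, trace_tt])
    have hcase : h * l1 gT * h⁻¹ = l1 gT ∨ h * l1 gT * h⁻¹ = r1 gT := by
      obtain ⟨y, hy⟩ : ∃ y, y = h * l1 (gPhi ω 0) * h⁻¹ := ⟨_, rfl⟩
      have hsq : y * y = h * l1 gT * h⁻¹ := by
        rw [hy, ← gPhi_sq ω 0, map_mul]; group
      obtain ⟨a, ha, b, hb, -, ⟨-, -, e⟩ | ⟨-, -, e⟩⟩ := square_cases ω h2
        (hy ▸ hhS _ (l1_mem_S9 ω (gPhi_mem_Q ω 0 (by norm_num))) : y ∈ S9 ω) (by
          rw [hsq, trace_conj, show (l1 gT : GL I9 F) = kQ gT 1 by rw [kQ, map_one, mul_one], trace_kQ, trace_gT,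
            trace_three]
          norm_num)
      · exact Or.inl (hsq.symm.trans e)
      · exact Or.inr (hsq.symm.trans e)
    have final : ∀ k ∈ P9, (∀ x ∈ S9 ω, k * x * k⁻¹ ∈ S9 ω) → k * l1 gT * k⁻¹ = l1 gT → k ∈ S9 ω := by
      intro k hk hkS hkf
      refine mem_S9_of_fix c o hfk hshape hP9two hSP hPH hk hkS hkf ?_
      have htt := hfixT k hkS
      rw [tt, kQ, show k * (l1 gT * r1 gT) * k⁻¹ = (k * l1 gT * k⁻¹) * (k * r1 gT * k⁻¹) by group, hkf] at htt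
      exact mul_left_cancel htt
    rcases hcase with e | e
    · exact hhn (final h hhP hhS e)
    · refine hhn ?_
      have hsw := sw_mem_S9 ω
      have hk := final (sw * h) (mul_mem (hSP hsw) hhP) (fun x hx => by
          rw [show sw * h * x * (sw * h)⁻¹ = sw * (h * x * h⁻¹) * sw⁻¹ by group]
          exact mul_mem (mul_mem hsw (hhS x hx)) (inv_mem hsw)) (by
          rw [show sw * h * l1 gT * (sw * h)⁻¹ = sw * (h * l1 gT * h⁻¹) * sw⁻¹ by group, e, sw_inv, sw_r1])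
      have := mul_mem (inv_mem hsw) hk
      rwa [inv_mul_cancel_left] at this
  -- the odd core
  obtain ⟨z, hz⟩ : ∃ z : H, z = ⟨tt, hSH (tt_mem ω)⟩ := ⟨_, rfl⟩
  have hzc := CfsgLib.Invol.zstar_of_weakly_closed P (z := z)
    (by rw [← Subgroup.orderOf_coe, hz]; exact httord) (fun g hg => Subtype.ext (by
      have hgS : ((g * z * g⁻¹ : H) : GL I9 F) ∈ S9 ω := hPS (hP9 ▸ ⟨_, hg, rfl⟩)
      rw [Subgroup.coe_mul, Subgroup.coe_mul, Subgroup.coe_inv, hz] at hgS ⊢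
      refine eq_tt ω h2 hgS ?_ (by rw [trace_conj, trace_tt])
      rw [show (g : GL I9 F) * tt * (g : GL I9 F)⁻¹ * ((g : GL I9 F) * tt * (g : GL I9 F)⁻¹) =
        (g : GL I9 F) * (tt * tt) * (g : GL I9 F)⁻¹ by group, tt_sq, mul_one, mul_inv_cancel]))
  obtain ⟨O, hO⟩ : ∃ O, O = Cfsg.pPrimeCore 2 H := ⟨_, rfl⟩
  haveI hOn : O.Normal := hO ▸ inferInstance
  haveI : Group.IsSolvable O := CfsgLib.FT.isSolvable_of_odd O (Nat.odd_iff.2 (by
    have := CfsgLib.Coprime.pPrimeCore_not_dvd (G := H) Nat.prime_two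
    rw [← hO] at this; omega))
  refine ⟨O.map H.subtype, Subgroup.map_subtype_le _, fun g hg => ?_,
    solvable_of_surjective (f := (O.equivMapOfInjective _ H.subtype_injective).toMonoidHom) (MulEquiv.surjective _),
    fun a ha => ?_⟩
  · refine Subgroup.mem_normalizer_iff.2 fun x => ⟨?_, ?_⟩
    · rintro ⟨y, hy, rfl⟩
      exact ⟨_, hOn.conj_mem y hy ⟨g, hg⟩, rfl⟩
    · rintro ⟨y, hy, e⟩
      refine ⟨_, hOn.conj_mem y hy (⟨g, hg⟩ : H)⁻¹, ?_⟩
      rw [map_mul, map_mul, map_inv, inv_inv, e]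
      show g⁻¹ * (g * x * g⁻¹) * g = x
      group
  have hlr : ∀ b ∈ gR ω, (r1 b : GL I9 F) ∈ H ∧ l1 b ∈ H := fun b hb => ⟨o.R_mem b hb, o.l1_mem (o.R_mem b hb)⟩
  have hgen : ∀ (f : GL (Fin 3) F →* GL I9 F), (∀ b ∈ gR ω, f b ∈ H) → (∀ b, tt * f b * tt⁻¹ = f (gT * b * gT⁻¹)) →
      ∀ b ∈ gR ω, f b ∈ O.map H.subtype := by
    intro f hf hft b hb
    have hstep : ∀ s, s ∈ gR ω → gT * s * gT⁻¹ = s * s → f s ∈ O.map H.subtype := fun s hs es => by
      refine ⟨_, hO ▸ hzc ⟨f s, hf s hs⟩, ?_⟩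
      rw [hz]
      show tt * f s * tt⁻¹ * (f s)⁻¹ = f s
      rw [hft, es, map_mul, mul_inv_cancel_right]
    induction hb using Subgroup.closure_induction with
    | mem x hx =>
      rcases hx with rfl | rfl
      · exact hstep _ (gD_mem ω) (by rw [gT_mul_gD, mul_inv_cancel_right])
      · exact hstep _ (gS_mem ω) (by rw [gT_mul_gS, mul_inv_cancel_right])
    | one => rw [map_one]; exact one_mem _
    | mul x y _ _ hx hy => rw [map_mul]; exact mul_mem hx hy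
    | inv x _ hx => rw [map_inv]; exact inv_mem hx
  refine ⟨hgen r1 (fun b hb => (hlr b hb).1) (fun b => ?_) a ha, hgen l1 (fun b hb => (hlr b hb).2) (fun b => ?_) a ha⟩
  · rw [show (r1 b : GL I9 F) = kQ 1 b by rw [kQ, map_one, one_mul], tt, kQ_inv, kQ_mul, kQ_mul, mul_one,
      mul_inv_cancel, kQ, map_one, one_mul]
  · rw [show (l1 b : GL I9 F) = kQ b 1 by rw [kQ, map_one, mul_one], tt, kQ_inv, kQ_mul, kQ_mul, mul_one,
      mul_inv_cancel, kQ, map_one, mul_one]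

end CfsgLib.Perm.Trans.ThreeDim.Nine
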