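import Cfsg.Agent.Lib.Perm.Trans.ThreeDim.Nine.Solv
import Cfsg.Agent.Lib.Perm.Trans.ThreeDim.Nine.Odd
import Cfsg.Agent.Lib.Perm.Trans.ThreeDim.Nine.Full

/-!
# The normalizer of the extraspecial group is maximal
-/

set_option autoImplicit false
set_option linter.all false

namespace CfsgLib.Perm.Trans.ThreeDim.Nine

open scoped Matrix
open Matrix Cfsg.Geo CfsgLib.Perm.Trans.ThreeDim.Heis CfsgLib.Perm.LinDecomp

variable {F : Type*} [Field F] [Fintype F] (ω : Root F)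
variable {U : Subgroup (GL (Fin 3) F)} {G : Subgroup (GL I9 F)}

theorem mem_normalizer_R9 {g : GL I9 F}
    (hlD : g * l1 (gD ω) * g⁻¹ ∈ R9 ω) (hlS : g * l1 gS * g⁻¹ ∈ R9 ω)
    (hrD : g * r1 (gD ω) * g⁻¹ ∈ R9 ω) (hrS : g * r1 gS * g⁻¹ ∈ R9 ω) :
    g ∈ Subgroup.normalizer (R9 ω : Set (GL I9 F)) := by
  have key : ∀ f : GL (Fin 3) F →* GL I9 F, g * f (gD ω) * g⁻¹ ∈ R9 ω → g * f gS * g⁻¹ ∈ R9 ω →
      ∀ a ∈ gR ω, g * f a * g⁻¹ ∈ R9 ω := by
    intro f hD hS a ha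
    induction ha using Subgroup.closure_induction with
    | mem x hx => rcases hx with rfl | rfl <;> assumption
    | one => simp
    | mul x y _ _ hx hy => rw [map_mul, ← conj_mul]; exact mul_mem hx hy
    | inv x _ hx => rw [map_inv, ← conj_inv]; exact inv_mem hx
  have hmap : (R9 ω).map (MulAut.conj g).toMonoidHom ≤ R9 ω := by
    rw [R9, Subgroup.map_sup, sup_le_iff]
    refine ⟨?_, ?_⟩ <;> rintro _ ⟨_, ⟨c, hc, rfl⟩, rfl⟩
    · exact key l1 hlD hlS c hc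
    · exact key r1 hrD hrS c hc
  rw [Subgroup.mem_normalizer_iff_map_conj_eq]
  exact Subgroup.eq_of_le_of_card_ge hmap (Subgroup.card_map_of_injective (MulAut.conj g).injective).ge

theorem r1_mem_normalizer {a : GL (Fin 3) F} (ha : a ∈ Subgroup.normalizer (gR ω : Set (GL (Fin 3) F))) :
    r1 a ∈ Subgroup.normalizer (R9 ω : Set (GL I9 F)) := by
  have hl : ∀ c, r1 a * l1 c * (r1 a)⁻¹ = (l1 c : GL I9 F) := fun c => by
    rw [← (l1_commute_r1 c a).eq, mul_inv_cancel_right]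
  refine mem_normalizer_R9 ω ?_ ?_ ?_ ?_
  · rw [hl]; exact l1_mem_R9 ω (gD_mem ω)
  · rw [hl]; exact l1_mem_R9 ω (gS_mem ω)
  all_goals rw [← map_inv, ← map_mul, ← map_mul]; refine r1_mem_R9 ω ((Subgroup.mem_normalizer_iff.1 ha _).1 ?_)
  · exact gD_mem ω
  · exact gS_mem ω

theorem sw_mem_normalizer : sw ∈ Subgroup.normalizer (R9 ω : Set (GL I9 F)) := by
  refine mem_normalizer_R9 ω ?_ ?_ ?_ ?_ <;> simp only [sw_inv, sw_l1, sw_r1]
  · exact r1_mem_R9 ω (gD_mem ω)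
  · exact r1_mem_R9 ω (gS_mem ω)
  · exact l1_mem_R9 ω (gD_mem ω)
  · exact l1_mem_R9 ω (gS_mem ω)

theorem l1_gD_eq : (l1 (gD ω) : GL I9 F) = bd fun x : Fin 3 => gZ ω ^ (x : ℕ) :=
  Units.ext (Matrix.ext fun ⟨x, i⟩ ⟨y, j⟩ => by
    rw [l1_apply, bd_apply, val_gD, val_gZ_pow]
    fin_cases x <;> fin_cases y <;> simp [dm, Matrix.one_apply, sq])

theorem gauss_mem_normalizer :
    bd (fun x : Fin 3 => gD ω ^ (x : ℕ)) ∈ Subgroup.normalizer (R9 ω : Set (GL I9 F)) := by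
  obtain ⟨e, he⟩ : ∃ e : Fin 3 → GL (Fin 3) F, e = fun x : Fin 3 => gD ω ^ (x : ℕ) := ⟨_, rfl⟩
  rw [← he]
  have h3 : gD ω * (gD ω * gD ω) = 1 := by rw [← sq, ← pow_succ']; exact gD_pow_three ω
  refine mem_normalizer_R9 ω ?_ ?_ ?_ ?_
  · rw [show bd e * l1 (gD ω) * (bd e)⁻¹ = l1 (gD ω) by
      rw [mul_inv_eq_iff_eq_mul, l1_gD_eq, ← map_mul, ← map_mul]
      congr 1; funext x; exact zcomm ω _ _]
    exact l1_mem_R9 ω (gD_mem ω)
  · rw [show bd e * l1 gS * (bd e)⁻¹ = r1 (gD ω) * l1 gS by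
      rw [mul_inv_eq_iff_eq_mul, mul_assoc, l1_gS_bd, ← mul_assoc, r1_eq, ← map_mul]
      congr 2; funext x
      rw [he, Pi.mul_apply]
      fin_cases x
      · exact (show (1 : GL (Fin 3) F) = gD ω * gD ω ^ 2 by rw [← pow_succ']; exact (gD_pow_three ω).symm)
      · exact (show gD ω ^ 1 = gD ω * gD ω ^ 0 by rw [pow_one, pow_zero, mul_one])
      · exact (show gD ω ^ 2 = gD ω * gD ω ^ 1 by rw [pow_one, sq])]
    exact mul_mem (r1_mem_R9 ω (gD_mem ω)) (l1_mem_R9 ω (gS_mem ω))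
  · rw [show bd e * r1 (gD ω) * (bd e)⁻¹ = r1 (gD ω) by
      rw [mul_inv_eq_iff_eq_mul, r1_eq, ← map_mul, ← map_mul]
      congr 1; funext x; rw [he]; exact (Commute.pow_self (gD ω) _).eq]
    exact r1_mem_R9 ω (gD_mem ω)
  · rw [show bd e * r1 gS * (bd e)⁻¹ = l1 (gD ω) * r1 gS by
      rw [mul_inv_eq_iff_eq_mul, l1_gD_eq, r1_eq, ← map_mul, ← map_mul, ← map_mul]
      congr 1; funext x
      rw [he]
      show gD ω ^ (x : ℕ) * gS = gZ ω ^ (x : ℕ) * gS * gD ω ^ (x : ℕ)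
      have := pow_swap ω (x : ℕ) 1
      rw [pow_one, mul_one] at this
      rw [this]
      group]
    exact mul_mem (l1_mem_R9 ω (gD_mem ω)) (r1_mem_R9 ω (gS_mem ω))

/-- the right factor meets the extraspecial group in `⟨D, S⟩` -/
theorem mem_gR_of_r1_mem {c : GL (Fin 3) F} (hc : (c : Matrix (Fin 3) (Fin 3) F).det = 1) (h : r1 c ∈ R9 ω) :
    c ∈ gR ω := by
  have hform : ∃ a ∈ gR ω, ∃ b ∈ gR ω, (r1 c : GL I9 F) = l1 a * r1 b := by
    have hle : R9 ω ≤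
        { carrier := {x | ∃ a ∈ gR ω, ∃ b ∈ gR ω, x = l1 a * r1 b}
          one_mem' := ⟨1, one_mem _, 1, one_mem _, by simp⟩
          mul_mem' := by
            rintro _ _ ⟨a, ha, b, hb, rfl⟩ ⟨a', ha', b', hb', rfl⟩
            refine ⟨a * a', mul_mem ha ha', b * b', mul_mem hb hb', ?_⟩
            rw [map_mul, map_mul, mul_assoc, ← mul_assoc (r1 b), ← (l1_commute_r1 a' b).eq]; group
          inv_mem' := by
            rintro _ ⟨a, ha, b, hb, rfl⟩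
            refine ⟨a⁻¹, inv_mem ha, b⁻¹, inv_mem hb, ?_⟩
            rw [_root_.mul_inv_rev, map_inv, map_inv, ((l1_commute_r1 a b).inv_inv).eq] } := by
      rw [R9, sup_le_iff]
      refine ⟨?_, ?_⟩ <;> rintro _ ⟨y, hy, rfl⟩
      · exact ⟨y, hy, 1, one_mem _, by simp⟩
      · exact ⟨1, one_mem _, y, hy, by simp⟩
    exact hle h
  obtain ⟨a, ha, b, hb, e⟩ := hform
  have e1 : (r1 (c * b⁻¹) : GL I9 F) = l1 a := by rw [map_mul, map_inv, e, mul_inv_cancel_right]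
  have hcomm : ∀ s, Commute (c * b⁻¹) s := fun s => by
    refine r1_injective ?_
    rw [map_mul r1 (c * b⁻¹) s, map_mul r1 s (c * b⁻¹), e1]
    exact (l1_commute_r1 a s).eq
  obtain ⟨k, hk⟩ := eq_gZ_pow ω (mem_center_of_commute ω (hcomm _) (hcomm _)) (by
    rw [Units.val_mul, Matrix.det_mul, hc, one_mul, det_of_mem_gR ω (inv_mem hb)])
  rw [← inv_mul_cancel_right c b, hk]
  exact mul_mem (pow_mem (gZ_mem ω) k) hb

/-- the frame case, from the two alternatives -/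
theorem frame_maximal_of (c : Base ω U G)
    (hcase : ∀ H, Over ω G H → ((∀ a, (a, (1 : GL (Fin 3) F)) ∈ Kp c.two H → a = 1) ∧ OddShape ω H) ∨
      ∀ x, ∀ a ∈ U, bd (Pi.mulSingle x a) ∈ H)
    (hgen : (∀ a ∈ gR ω, r1 a ∈ G) ∧ (∀ k, r1 (gPhi ω k) ∈ G) ∧ sw ∈ G ∧ bd (fun x : Fin 3 => gD ω ^ (x : ℕ)) ∈ G)
    (hcomp : ∀ g, bd g ∈ G → ∀ x, dg ![Matrix.GeneralLinearGroup.det (g x), (Matrix.GeneralLinearGroup.det (g x))⁻¹, 1] ∈ U ∧
      dg ![1, Matrix.GeneralLinearGroup.det (g x), (Matrix.GeneralLinearGroup.det (g x))⁻¹] ∈ U)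
    (hfull : ∀ H ≤ G, (∀ h ∈ G, BStab (Prod.fst : I9 → Fin 3) h → h ∈ H) → sw ∈ H → H = G)
    {a : GL (Fin 3) F} (ha : r1 a ∈ G) (had : (a : Matrix (Fin 3) (Fin 3) F).det = 1)
    (haN : a ∉ Subgroup.normalizer (gR ω : Set (GL (Fin 3) F))) :
    IsMaximalIn G (Subgroup.normalizer (R9 ω : Set (GL I9 F)) ⊓ G) := by
  refine ⟨lt_of_le_of_ne inf_le_right fun e => haN ?_, fun M hHM hMG => ?_⟩
  · have h := (e.ge ha).1
    have hmap : (gR ω).map (MulAut.conj a).toMonoidHom ≤ gR ω := by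
      rintro _ ⟨x, hx, rfl⟩
      refine mem_gR_of_r1_mem ω ?_ ?_
      · show ((a * x * a⁻¹ : GL (Fin 3) F) : Matrix (Fin 3) (Fin 3) F).det = 1
        rw [Units.val_mul, Units.val_mul, Matrix.det_mul, Matrix.det_mul, det_of_mem_gR ω hx, mul_one,
          ← Matrix.det_mul, Units.mul_inv, Matrix.det_one]
      · show r1 (a * x * a⁻¹) ∈ R9 ω
        rw [map_mul, map_mul, map_inv]
        exact ((Subgroup.mem_normalizer_iff.1 h) _).1 (r1_mem_R9 ω hx)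
    rw [Subgroup.mem_normalizer_iff_map_conj_eq]
    exact Subgroup.eq_of_le_of_card_ge hmap (Subgroup.card_map_of_injective (MulAut.conj a).injective).ge
  · have o : Over ω G M :=
      { le := hMG
        R_mem := fun b hb => hHM ⟨Subgroup.le_normalizer (r1_mem_R9 ω hb), hgen.1 b hb⟩
        Phi_mem := fun k => hHM ⟨r1_mem_normalizer ω (gPhi_mem_normalizer ω k), hgen.2.1 k⟩
        sw_mem := hHM ⟨sw_mem_normalizer ω, hgen.2.2.1⟩
        gauss_mem := hHM ⟨gauss_mem_normalizer ω, hgen.2.2.2⟩ }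
    rcases hcase M o with ⟨hfk, hshape⟩ | hs
    · obtain ⟨K, hKM, hn, hsol, hR⟩ := exists_solvable c o hfk hshape
      exact Or.inl (le_antisymm (le_inf (le_normalizer_of_solvable9 ω (fun g hg => c.det_G g (hMG hg)) (o.Phi_mem 0)
        o.sw_mem hKM hn hsol hR) hMG) hHM)
    · exact Or.inr (hfull M hMG (fun h hG hb => mem_of_bstab c o hcomp hs hG hb) o.sw_mem)


/-- the frame case -/
theorem frame_maximal (c : Ctx ω U G)
    (hgen : (∀ a ∈ gR ω, r1 a ∈ G) ∧ (∀ k, r1 (gPhi ω k) ∈ G) ∧ sw ∈ G ∧ bd (fun x : Fin 3 => gD ω ^ (x : ℕ)) ∈ G)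
    (hcomp : ∀ g, bd g ∈ G → ∀ x, dg ![Matrix.GeneralLinearGroup.det (g x), (Matrix.GeneralLinearGroup.det (g x))⁻¹, 1] ∈ U ∧
      dg ![1, Matrix.GeneralLinearGroup.det (g x), (Matrix.GeneralLinearGroup.det (g x))⁻¹] ∈ U)
    (hfull : ∀ H ≤ G, (∀ h ∈ G, BStab (Prod.fst : I9 → Fin 3) h → h ∈ H) → sw ∈ H → H = G)
    {a : GL (Fin 3) F} (ha : r1 a ∈ G) (had : (a : Matrix (Fin 3) (Fin 3) F).det = 1)
    (haN : a ∉ Subgroup.normalizer (gR ω : Set (GL (Fin 3) F))) :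
    IsMaximalIn G (Subgroup.normalizer (R9 ω : Set (GL I9 F)) ⊓ G) :=
  frame_maximal_of ω c.toBase (fun H o => (blocks_dichotomy c o).imp
    (fun hN => ⟨fun a h => fst_kernel c o hN h,
      fun h hh n hn hf hf' hl hr => obG_shape c o hN hh hn hf hf' hl hr⟩) id) hgen hcomp hfull ha had haN

end CfsgLib.Perm.Trans.ThreeDim.Nine
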