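import Cfsg.Agent.Lib.Perm.Trans.ThreeDim.Nine.Block
import Cfsg.Agent.Lib.Coprime.SquareFixed.Basic

/-!
# Normal solvable subgroups on pairs
-/

set_option autoImplicit false
set_option linter.all false

namespace CfsgLib.Perm.Trans.ThreeDim.Nine

open scoped Matrix Kronecker
open Matrix CfsgLib.Perm.Trans.ThreeDim.Heis

variable {F : Type*} [Field F] [Fintype F] (ω : Root F)

local notation "M3" => Matrix (Fin 3) (Fin 3) F
local notation "G3" => GL (Fin 3) F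
local notation "M9" => Matrix I9 I9 F
local notation "G9" => GL I9 F
local notation "Z3" => Subgroup.center (GL (Fin 3) F)
local notation "Z9" => Subgroup.center (GL I9 F)

/-- the extraspecial group of order `3^5` -/
def R9 : Subgroup G9 := (gR ω).map l1 ⊔ (gR ω).map r1

theorem l1_mem_R9 {a : G3} (ha : a ∈ gR ω) : l1 a ∈ R9 ω := Subgroup.mem_sup_left ⟨a, ha, rfl⟩

theorem r1_mem_R9 {a : G3} (ha : a ∈ gR ω) : r1 a ∈ R9 ω := Subgroup.mem_sup_right ⟨a, ha, rfl⟩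

theorem gR_cube {a : G3} (ha : a ∈ gR ω) : a ^ 3 = 1 := by
  obtain ⟨i, j, k, rfl⟩ := exists_nf ω ha
  rw [pow_succ, sq, nf_mul, nf_mul, ← nf_zero ω]
  refine nf_mod ω ?_ (by omega) (by omega)
  rw [show i + i + k * j + i + (k + k) * j = 3 * (i + k * j) by ring, Nat.mul_mod_right]

/-- an element commuting with both factors is scalar -/
theorem scalar9_of_commute {g : M9} (hlD : g * (l1 (gD ω) : G9).val = (l1 (gD ω) : G9).val * g)
    (hlS : g * (l1 gS : G9).val = (l1 gS : G9).val * g) (hrD : g * (r1 (gD ω) : G9).val = (r1 (gD ω) : G9).val * g)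
    (hrS : g * (r1 gS : G9).val = (r1 gS : G9).val * g) : g = g (0, 0) (0, 0) • 1 := by
  have hblock : ∀ x y, (Matrix.of fun i j => g (x, i) (y, j) : M3) = g (x, 0) (y, 0) • 1 := by
    intro x y
    have key : ∀ A : G3, g * (r1 A : G9).val = (r1 A : G9).val * g →
        (Matrix.of fun i j => g (x, i) (y, j) : M3) * (A : M3) = (A : M3) * Matrix.of fun i j => g (x, i) (y, j) := by
      intro A hA
      ext i j
      have e := congrFun (congrFun hA (x, i)) (y, j)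
      simp only [Matrix.mul_apply, Fintype.sum_prod_type, r1_apply, mul_ite, mul_zero, ite_mul, zero_mul,
        Finset.sum_ite_irrel, Finset.sum_const_zero, Finset.sum_ite_eq', Finset.sum_ite_eq, Finset.mem_univ,
        if_true] at e
      simp only [Matrix.mul_apply, Matrix.of_apply]
      exact e
    exact eq_smul_of_commute ω (by simpa [val_gD] using key _ hrD) (by simpa [val_gS] using key _ hrS)
  obtain ⟨L, hL⟩ : ∃ L : M3, L = Matrix.of fun x y => g (x, 0) (y, 0) := ⟨_, rfl⟩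
  have key : ∀ A : G3, g * (l1 A : G9).val = (l1 A : G9).val * g → L * (A : M3) = (A : M3) * L := by
    intro A hA
    ext x y
    have e := congrFun (congrFun hA (x, 0)) (y, 0)
    simp only [Matrix.mul_apply, Fintype.sum_prod_type, l1_apply, mul_ite, mul_one, mul_zero, ite_mul, zero_mul,
      Finset.sum_ite_eq', Finset.sum_ite_eq, Finset.mem_univ, if_true] at e
    rw [hL]
    simp only [Matrix.mul_apply, Matrix.of_apply]
    exact e
  have hLs := eq_smul_of_commute ω (by simpa [val_gD] using key _ hlD) (by simpa [val_gS] using key _ hlS)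
  ext ⟨x, i⟩ ⟨y, j⟩
  have e1 := congrFun (congrFun (hblock x y) i) j
  have e2 := congrFun (congrFun hLs x) y
  rw [hL] at e2
  simp only [Matrix.of_apply, Matrix.smul_apply, smul_eq_mul] at e1 e2
  rw [e1, e2, Matrix.smul_apply, smul_eq_mul, mul_assoc]
  congr 1
  by_cases hx : x = y <;> by_cases hi : i = j <;> simp [Matrix.one_apply, hx, hi, Prod.ext_iff]

theorem mem_center9_of_commute {g : G9} (hl : ∀ a ∈ gR ω, Commute g (l1 a)) (hr : ∀ a ∈ gR ω, Commute g (r1 a)) :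
    g ∈ Z9 := by
  have e := scalar9_of_commute ω (g := (g : M9)) (congrArg Units.val (hl _ (gD_mem ω)).eq)
    (congrArg Units.val (hl _ (gS_mem ω)).eq) (congrArg Units.val (hr _ (gD_mem ω)).eq)
    (congrArg Units.val (hr _ (gS_mem ω)).eq)
  exact Subgroup.mem_center_iff.2 fun w => Units.ext (by rw [Units.val_mul, Units.val_mul, e]; simp)

include ω in
theorem scalar_of_mem_center9 {g : G9} (hg : g ∈ Z9) : (g : M9) = (g : M9) (0, 0) (0, 0) • 1 :=
  scalar9_of_commute ω (congrArg Units.val (Subgroup.mem_center_iff.1 hg _).symm)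
    (congrArg Units.val (Subgroup.mem_center_iff.1 hg _).symm) (congrArg Units.val (Subgroup.mem_center_iff.1 hg _).symm)
    (congrArg Units.val (Subgroup.mem_center_iff.1 hg _).symm)

include ω in
theorem r1_center {z : G3} (hz : z ∈ Z3) : r1 z ∈ Z9 := by
  refine Subgroup.mem_center_iff.2 fun w => Units.ext ?_
  rw [Units.val_mul, Units.val_mul, val_r1, (mem_center_iff_scalar ω).1 hz, Matrix.kronecker_smul,
    Matrix.one_kronecker_one]
  simp

include ω in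
theorem l1_eq_r1_center {z : G3} (hz : z ∈ Z3) : (l1 z : G9) = r1 z := Units.ext (by
  rw [val_l1, val_r1, (mem_center_iff_scalar ω).1 hz, Matrix.kronecker_smul, Matrix.smul_kronecker])

include ω in
/-- a scalar of cube one is in the extraspecial group -/
theorem cube_center_mem {c : G9} (hc : c ∈ Z9) (h3 : c ^ 3 = 1) : ∃ k : ℕ, c = r1 (gZ ω ^ k) := by
  have e := scalar_of_mem_center9 ω hc
  have h := congrArg (fun w : G9 => (w : M9) (0, 0) (0, 0)) h3
  simp only [Units.val_pow_eq_pow_val] at h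
  rw [e, smul_pow, one_pow] at h
  simp at h
  rw [pow_succ, sq] at h
  obtain ⟨k, hk⟩ := cube_root_eq_pow ω h
  exact ⟨k, Units.ext (by rw [e, hk, val_r1, val_gZ_pow, Matrix.kronecker_smul, Matrix.one_kronecker_one])⟩

/-! ### Monomials -/

/-- a group containing the scalars, invariant under the normalizer, with a noncentral monomial -/
theorem R9_le_of_monomial {L : Subgroup G9} (hZ : Z9 ≤ L)
    (hn : ∀ a ∈ gR ω, ∀ x ∈ L, r1 a * x * (r1 a)⁻¹ ∈ L) (hP : ∀ x ∈ L, r1 (gPhi ω 0) * x * (r1 (gPhi ω 0))⁻¹ ∈ L)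
    (hsw : ∀ x ∈ L, sw * x * sw⁻¹ ∈ L) {a b : G3} (ha : a ∈ gR ω) (hb : b ∈ gR ω) (hab : l1 a * r1 b ∈ L)
    (hne : a ∉ Z3 ∨ b ∉ Z3) : ∀ c ∈ gR ω, r1 c ∈ L ∧ l1 c ∈ L := by
  have main : ∀ a b : G3, a ∈ gR ω → b ∈ gR ω → l1 a * r1 b ∈ L → b ∉ Z3 → ∀ c ∈ gR ω, r1 c ∈ L := by
    intro a b ha hb hab hbc
    obtain ⟨d, hd⟩ : ∃ d, d = b⁻¹ * (gPhi ω 0 * b * (gPhi ω 0)⁻¹) := ⟨_, rfl⟩
    have hdR : d ∈ gR ω :=
      hd ▸ mul_mem (inv_mem hb) (((Subgroup.mem_normalizer_iff.1 (gPhi_mem_normalizer ω 0)) b).1 hb)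
    have hdL : r1 d ∈ L := by
      have h1 := mul_mem (inv_mem hab) (hP _ hab)
      have hl : r1 (gPhi ω 0) * l1 a * (r1 (gPhi ω 0))⁻¹ = (l1 a : G9) := by
        rw [← (l1_commute_r1 a (gPhi ω 0)).eq, mul_inv_cancel_right]
      rw [show r1 (gPhi ω 0) * (l1 a * r1 b) * (r1 (gPhi ω 0))⁻¹ =
        (r1 (gPhi ω 0) * l1 a * (r1 (gPhi ω 0))⁻¹) * (r1 (gPhi ω 0) * r1 b * (r1 (gPhi ω 0))⁻¹) by group, hl,
        _root_.mul_inv_rev, mul_assoc, inv_mul_cancel_left, ← map_inv, ← map_inv, ← map_mul, ← map_mul, ← map_mul,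
        ← hd] at h1
      exact h1
    have hdc : d ∉ Z3 := fun h => hbc (central_of_gPhi_fixed ω hb (hd ▸ h))
    have hle : gR ω ≤ L.comap r1 := gR_le_of_noncentral ω
      (fun x hx => by
        show r1 (gD ω * x * (gD ω)⁻¹) ∈ L
        rw [map_mul, map_mul, map_inv]; exact hn _ (gD_mem ω) _ hx)
      (fun x hx => by
        show r1 (gS * x * gS⁻¹) ∈ L
        rw [map_mul, map_mul, map_inv]; exact hn _ (gS_mem ω) _ hx)
      (fun x hx => by
        show r1 (gPhi ω 0 * x * (gPhi ω 0)⁻¹) ∈ L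
        rw [map_mul, map_mul, map_inv]; exact hP _ hx)
      hdR hdL hdc
    exact fun c hc => hle hc
  have hswap : l1 b * r1 a ∈ L := by
    have := hsw _ hab
    rwa [show sw * (l1 a * r1 b) * sw⁻¹ = (sw * l1 a * sw⁻¹) * (sw * r1 b * sw⁻¹) by group, sw_inv, sw_l1, sw_r1,
      ← (l1_commute_r1 b a).eq] at this
  have hr : ∀ c ∈ gR ω, r1 c ∈ L := by
    by_cases hbc : b ∈ Z3
    · exact main b a hb ha hswap (hne.resolve_right (not_not.2 hbc))
    · exact main a b ha hb hab hbc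
  intro c hc
  refine ⟨hr c hc, ?_⟩
  have := hsw _ (hr c hc)
  rwa [sw_inv, sw_r1] at this

/-- elements commuting with the extraspecial group modulo scalars are monomials -/
theorem exists_monomial9 {g : G9} (hl : ∀ a ∈ gR ω, g * l1 a * g⁻¹ * (l1 a)⁻¹ ∈ Z9)
    (hr : ∀ a ∈ gR ω, g * r1 a * g⁻¹ * (r1 a)⁻¹ ∈ Z9) :
    ∃ a ∈ gR ω, ∃ b ∈ gR ω, (l1 a * r1 b)⁻¹ * g ∈ Z9 := by
  have half : ∀ f : G3 →* G9, (∀ z ∈ Z3, f z = r1 z) → (∀ a ∈ gR ω, g * f a * g⁻¹ * (f a)⁻¹ ∈ Z9) →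
      ∃ a ∈ gR ω, ∀ s ∈ gR ω, g * f s * g⁻¹ = f (a * s * a⁻¹) := by
    intro f hfz hf
    have key : ∀ s ∈ gR ω, ∃ k : ℕ, g * f s * g⁻¹ = f (gZ ω ^ k * s) := by
      intro s hs
      obtain ⟨z, hz⟩ : ∃ z, z = g * f s * g⁻¹ * (f s)⁻¹ := ⟨_, rfl⟩
      have hzc : z ∈ Z9 := hz ▸ hf s hs
      have hzs : g * f s * g⁻¹ = z * f s := by rw [hz, inv_mul_cancel_right]
      have h3 : z ^ 3 = 1 := by
        have e : (g * f s * g⁻¹) ^ 3 = 1 := by rw [conj_pow, ← map_pow, gR_cube ω hs, map_one, mul_one, mul_inv_cancel]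
        have hcz : Commute z (f s) := (Subgroup.mem_center_iff.1 hzc _).symm
        rwa [hzs, hcz.mul_pow, ← map_pow, gR_cube ω hs, map_one, mul_one] at e
      obtain ⟨k, hk⟩ := cube_center_mem ω hzc h3
      exact ⟨k, by rw [hzs, map_mul, hfz _ (pow_mem (gZ_mem_center ω) k), hk]⟩
    obtain ⟨i, hi⟩ := key _ (gD_mem ω)
    obtain ⟨j, hj⟩ := key _ (gS_mem ω)
    refine ⟨nf ω 0 (2 * i) j, nf_mem ω _ _ _, fun s hs => ?_⟩
    induction hs using Subgroup.closure_induction with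
    | mem x hx =>
      rcases hx with rfl | rfl
      · rw [hi, nf_conj_gD, pow_eq_pow_mod (2 * (2 * i)) (gZ_pow_three ω), show 2 * (2 * i) % 3 = i % 3 by omega,
          ← pow_eq_pow_mod i (gZ_pow_three ω)]
      · rw [hj, nf_conj_gS]
    | one => simp
    | mul x y _ _ hx hy =>
      rw [map_mul, ← conj_mul, hx, hy, ← map_mul, conj_mul]
    | inv x _ hx =>
      rw [map_inv, ← conj_inv, hx, ← map_inv, conj_inv]
  obtain ⟨a, ha, hea⟩ := half l1 (fun z hz => l1_eq_r1_center ω hz) hl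
  obtain ⟨b, hb, heb⟩ := half r1 (fun z hz => rfl) hr
  refine ⟨a, ha, b, hb, mem_center9_of_commute ω (fun s hs => ?_) fun s hs => ?_⟩
  · refine mul_inv_eq_iff_eq_mul.1 ?_
    rw [show (l1 a * r1 b)⁻¹ * g * l1 s * ((l1 a * r1 b)⁻¹ * g)⁻¹ = (r1 b)⁻¹ * ((l1 a)⁻¹ * (g * l1 s * g⁻¹) * l1 a) * r1 b
      by group, hea s hs, show (l1 a : G9)⁻¹ * l1 (a * s * a⁻¹) * l1 a = l1 s by simp only [map_mul, map_inv]; group,
      mul_assoc, (l1_commute_r1 s b).eq, inv_mul_cancel_left]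
  · refine mul_inv_eq_iff_eq_mul.1 ?_
    rw [show (l1 a * r1 b)⁻¹ * g * r1 s * ((l1 a * r1 b)⁻¹ * g)⁻¹ = (r1 b)⁻¹ * ((l1 a)⁻¹ * (g * r1 s * g⁻¹) * l1 a) * r1 b
      by group, heb s hs, mul_assoc (l1 a)⁻¹, ← (l1_commute_r1 a (b * s * b⁻¹)).eq, inv_mul_cancel_left,
      ← map_inv, ← map_mul, ← map_mul, show b⁻¹ * (b * s * b⁻¹) * b = s by group]

/-! ### The span -/

/-- conjugation -/
def cj9 (g : G9) (M : M9) : M9 := (g : M9) * M * ((g⁻¹ : G9) : M9)

/-- a block -/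
def blk (x y : Fin 3) : M9 →ₗ[F] M3 where
  toFun M := Matrix.of fun i j => M (x, i) (y, j)
  map_add' _ _ := rfl
  map_smul' _ _ := rfl

theorem blk_apply (x y : Fin 3) (M : M9) (i j : Fin 3) : blk x y M i j = M (x, i) (y, j) := rfl

theorem blk_cj (x y : Fin 3) (g : G3) (M : M9) : blk x y (cj9 (r1 g) M) = cj g (blk x y M) := by
  ext i j
  show ((r1 g : G9).val * M * ((r1 g)⁻¹ : G9).val) (x, i) (y, j) = _
  rw [← map_inv]
  simp only [cj, Matrix.mul_apply, Fintype.sum_prod_type, r1_apply, blk_apply]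
  rw [Finset.sum_eq_single y (fun z _ hz => by simp [hz]) (by simp)]
  refine Finset.sum_congr rfl fun l _ => ?_
  rw [Finset.sum_eq_single x (fun z _ hz => by simp [Ne.symm hz]) (by simp)]
  simp

theorem exists_monomial_mem {W : Submodule F M9} (hl : ∀ a ∈ gR ω, ∀ M ∈ W, cj9 (l1 a) M ∈ W)
    (hr : ∀ a ∈ gR ω, ∀ M ∈ W, cj9 (r1 a) M ∈ W) {M : M9} (hM : M ∈ W) (hns : M ≠ M (0, 0) (0, 0) • 1) :
    ∃ a ∈ gR ω, ∃ b ∈ gR ω, ((l1 a * r1 b : G9) : M9) ∈ W ∧ (a ∉ Z3 ∨ b ∉ Z3) := by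
  have hmono : ∀ d e : Fin 3, (d ≠ 0 ∨ e ≠ 0) → (gS ^ (d : ℕ) * gD ω ^ (e : ℕ) : G3) ∈ gR ω ∧
      (gS ^ (d : ℕ) * gD ω ^ (e : ℕ) : G3) ∉ Z3 := fun d e h => by
    refine ⟨mul_mem (pow_mem (gS_mem ω) _) (pow_mem (gD_mem ω) _), fun hc => ?_⟩
    rw [show (gS ^ (d : ℕ) * gD ω ^ (e : ℕ) : G3) = nf ω 0 (d : ℕ) (e : ℕ) by simp [nf], nf_central] at hc
    have h1 := d.isLt
    have h2 := e.isLt
    rcases h with h | h <;> exact h (Fin.ext (by simp only [Fin.val_zero]; omega))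
  -- the second step
  have step : ∀ (L : M3) (b : G3), b ∈ gR ω → L ⊗ₖ (b : M3) ∈ W → L ≠ 0 → (b ∉ Z3 ∨ L ≠ L 0 0 • 1) →
      ∃ a ∈ gR ω, ∃ b ∈ gR ω, ((l1 a * r1 b : G9) : M9) ∈ W ∧ (a ∉ Z3 ∨ b ∉ Z3) := by
    intro L b hb hLW hL0 hcase
    let φ : M3 →ₗ[F] M9 :=
      { toFun := fun K => K ⊗ₖ (b : M3)
        map_add' := fun K K' => Matrix.add_kronecker _ _ _
        map_smul' := fun r K => Matrix.smul_kronecker _ _ _ }
    by_cases hs : L = L 0 0 • 1
    · refine ⟨1, one_mem _, b, hb, ?_, Or.inr (hcase.resolve_right (not_not.2 hs))⟩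
      rw [map_one, one_mul, val_r1]
      have h0 : L 0 0 ≠ 0 := fun h => hL0 (by rw [hs, h, zero_smul])
      rw [hs, Matrix.smul_kronecker, W.smul_mem_iff h0] at hLW
      exact hLW
    have hinv : ∀ g ∈ gR ω, ∀ K ∈ W.comap φ, cj g K ∈ W.comap φ := fun g hg K hK => by
      have h := hl g hg _ hK
      show cj g K ⊗ₖ (b : M3) ∈ W
      have e : cj9 (l1 g) (φ K) = cj g K ⊗ₖ (b : M3) := by
        show (l1 g : G9).val * (K ⊗ₖ (b : M3)) * ((l1 g)⁻¹ : G9).val = _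
        rw [← map_inv, val_l1, val_l1, ← Matrix.mul_kronecker_mul, ← Matrix.mul_kronecker_mul, one_mul, mul_one, cj]
      rwa [e] at h
    obtain ⟨d, e, hde, hmem⟩ := exists_line ω (hinv _ (gD_mem ω)) (hinv _ (gS_mem ω))
      (show L ∈ W.comap φ from hLW) hs
    refine ⟨_, (hmono d e hde).1, b, hb, ?_, Or.inl (hmono d e hde).2⟩
    rw [Units.val_mul (l1 _), val_l1, val_r1, ← Matrix.mul_kronecker_mul, mul_one, one_mul]
    exact hmem
  by_cases hsc : ∀ x y, blk x y M = blk x y M 0 0 • 1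
  · obtain ⟨L, hL⟩ : ∃ L : M3, L = Matrix.of fun x y => M (x, 0) (y, 0) := ⟨_, rfl⟩
    have hML : M = L ⊗ₖ ((1 : G3) : M3) := by
      ext ⟨x, i⟩ ⟨y, j⟩
      have e := congrFun (congrFun (hsc x y) i) j
      simp only [blk_apply, Matrix.smul_apply, smul_eq_mul] at e
      rw [e, hL]
      simp [Matrix.kroneckerMap_apply]
    have hLs : L ≠ L 0 0 • 1 := fun h => hns (by
      have h00 : L 0 0 = M (0, 0) (0, 0) := by rw [hL]; rfl
      rw [hML, h, Units.val_one, Matrix.smul_kronecker, Matrix.one_kronecker_one]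
      simp)
    exact step L 1 (one_mem _) (hML ▸ hM) (fun h => hLs (by rw [h]; simp)) (Or.inr hLs)
  push Not at hsc
  obtain ⟨x, y, hxy⟩ := hsc
  obtain ⟨d, e, hde, hmem⟩ := exists_line ω (W := W.map (blk x y))
    (by rintro _ ⟨N, hN, rfl⟩; exact ⟨_, hr _ (gD_mem ω) _ hN, blk_cj x y _ N⟩)
    (by rintro _ ⟨N, hN, rfl⟩; exact ⟨_, hr _ (gS_mem ω) _ hN, blk_cj x y _ N⟩)
    (Submodule.mem_map_of_mem hM) hxy
  obtain ⟨N, hN, hNX⟩ := hmem
  let P : G9 → F → M9 → M9 := fun g a K => K + a • cj9 g K + (a * a) • cj9 g (cj9 g K)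
  have hPW : ∀ s ∈ gR ω, ∀ a K, K ∈ W → P (r1 s) a K ∈ W := fun s hs a K hK =>
    add_mem (add_mem hK (W.smul_mem _ (hr s hs _ hK))) (W.smul_mem _ (hr s hs _ (hr s hs _ hK)))
  have hPblk : ∀ u v s a K, blk u v (P (r1 s) a K) = proj s a (blk u v K) := fun u v s a K => by
    simp only [P, map_add, map_smul, blk_cj, proj]
  obtain ⟨c, hc⟩ : ∃ c, c = ω.μ ^ (e : ℕ) := ⟨_, rfl⟩
  obtain ⟨N', hN'⟩ : ∃ N', N' = P (r1 gS) c (P (r1 (gD ω)) (ω.μ ^ (2 * (d : ℕ))) N) := ⟨_, rfl⟩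
  have hN'W : N' ∈ W := hN' ▸ hPW _ (gS_mem ω) _ _ (hPW _ (gD_mem ω) _ _ hN)
  obtain ⟨X, hX⟩ : ∃ X : G3, X = gS ^ (d : ℕ) * gD ω ^ (e : ℕ) := ⟨_, rfl⟩
  have hXv : (X : M3) = sm ^ (d : ℕ) * dm c := by
    rw [hX, hc, Units.val_mul, Units.val_pow_eq_pow_val, val_gS, val_gD_pow]
  obtain ⟨L, hL⟩ : ∃ L : M3, L = Matrix.of fun u v =>
      3 * (blk u v N d 0 + c * c * blk u v N (d + 1) 1 + c * blk u v N (d + 2) 2) := ⟨_, rfl⟩
  have hNL : N' = L ⊗ₖ (X : M3) := by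
    ext ⟨u, i⟩ ⟨v, j⟩
    have h := congrFun (congrFun (show blk u v N' = L u v • (X : M3) by
      rw [hN', hPblk, hPblk, proj_proj ω _ d (hc ▸ ω.pow_cube _), hXv, hL]; rfl) i) j
    simpa [blk_apply, Matrix.kroneckerMap_apply] using h
  have hLxy : L x y = 9 := by
    have hN0 : blk x y N = sm ^ (d : ℕ) * dm c := by rw [hNX, ← hXv, hX]
    have hc3 : c * c * c = 1 := hc ▸ ω.pow_cube _
    rw [hL, Matrix.of_apply, hN0]
    fin_cases d <;> simp [sm, dm3, sq, Matrix.mul_apply, Fin.sum_univ_three] <;> linear_combination (6 : F) * hc3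
  refine step L X (hX ▸ (hmono d e hde).1) (hNL ▸ hN'W) (fun h => ?_) (Or.inl (hX ▸ (hmono d e hde).2))
  have h9 : (9 : F) = 0 := by rw [← hLxy, h]; rfl
  exact ω.three (pow_eq_zero_iff two_ne_zero |>.1 (by linear_combination h9))

/-- a normal noncentral subgroup has scalar centraliser -/
theorem center_of_commute_all {A : Subgroup G9} (hn : ∀ a ∈ gR ω, ∀ x ∈ A, r1 a * x * (r1 a)⁻¹ ∈ A)
    (hln : ∀ a ∈ gR ω, ∀ x ∈ A, l1 a * x * (l1 a)⁻¹ ∈ A)
    (hP : ∀ x ∈ A, r1 (gPhi ω 0) * x * (r1 (gPhi ω 0))⁻¹ ∈ A) (hsw : ∀ x ∈ A, sw * x * sw⁻¹ ∈ A)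
    (hnc : ¬ A ≤ Z9) {g : G9} (hg : ∀ x ∈ A, Commute g x) : g ∈ Z9 := by
  obtain ⟨a₀, ha₀, ha₀c⟩ := SetLike.not_le_iff_exists.1 hnc
  obtain ⟨W, hW⟩ : ∃ W : Submodule F M9, W = Submodule.span F ((fun g : G9 => (g : M9)) '' (A : Set G9)) := ⟨_, rfl⟩
  have hsub : ∀ x ∈ A, (x : M9) ∈ W := fun x hx => hW ▸ Submodule.subset_span ⟨x, hx, rfl⟩
  have hcj : ∀ t : G9, (∀ x ∈ A, t * x * t⁻¹ ∈ A) → ∀ M ∈ W, cj9 t M ∈ W := fun t ht M hM => by
    rw [hW] at hM
    induction hM using Submodule.span_induction with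
    | mem M hM =>
      obtain ⟨x, hx, rfl⟩ := hM
      rw [cj9, ← Units.val_mul, ← Units.val_mul]
      exact hsub _ (ht x hx)
    | zero => simp [cj9]
    | add x y _ _ hx hy =>
      rw [show cj9 t (x + y) = cj9 t x + cj9 t y by simp [cj9, mul_add, add_mul]]
      exact add_mem hx hy
    | smul r x _ hx => rw [show cj9 t (r • x) = r • cj9 t x by simp [cj9]]; exact W.smul_mem r hx
  have hmul : ∀ M ∈ W, ∀ N ∈ W, M * N ∈ W := fun M hM N hN => by
    rw [hW] at hM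
    induction hM using Submodule.span_induction with
    | mem M hM =>
      obtain ⟨x, hx, rfl⟩ := hM
      rw [hW] at hN
      induction hN using Submodule.span_induction with
      | mem N hN =>
        obtain ⟨y, hy, rfl⟩ := hN
        show (x : M9) * (y : M9) ∈ W
        rw [← Units.val_mul]
        exact hsub _ (mul_mem hx hy)
      | zero => simp
      | add u v _ _ hu hv => rw [mul_add]; exact add_mem hu hv
      | smul r u _ hu => rw [Matrix.mul_smul]; exact W.smul_mem r hu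
    | zero => simp
    | add u v _ _ hu hv => rw [add_mul]; exact add_mem hu hv
    | smul r u _ hu => rw [Matrix.smul_mul]; exact W.smul_mem r hu
  have hone : (1 : M9) ∈ W := by simpa using hsub 1 (one_mem A)
  have hpow : ∀ (t : G9), (t : M9) ∈ W → ∀ n : ℕ, ((t ^ n : G9) : M9) ∈ W := fun t ht n => by
    induction n with
    | zero => simpa using hone
    | succ n ih => rw [pow_succ, Units.val_mul]; exact hmul _ ih _ ht
  let L : Subgroup G9 :=
    { carrier := {t | (t : M9) ∈ W}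
      mul_mem' := fun {s t} hs ht => by rw [Set.mem_setOf_eq, Units.val_mul]; exact hmul _ hs _ ht
      one_mem' := by simpa using hone
      inv_mem' := fun {t} ht => by
        rw [Set.mem_setOf_eq, show t⁻¹ = t ^ (orderOf t - 1) from inv_eq_of_mul_eq_one_right (by
          rw [← pow_succ', Nat.sub_add_cancel (orderOf_pos t), pow_orderOf_eq_one])]
        exact hpow t ht _ }
  have hconjL : ∀ t : G9, (∀ x ∈ A, t * x * t⁻¹ ∈ A) → ∀ x ∈ L, t * x * t⁻¹ ∈ L := fun t ht x hx => by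
    show ((t * x * t⁻¹ : G9) : M9) ∈ W
    have := hcj t ht _ hx
    rwa [cj9, ← Units.val_mul, ← Units.val_mul] at this
  obtain ⟨a, ha, b, hb, hab, hne⟩ := exists_monomial_mem ω (fun a ha => hcj _ (hln a ha)) (fun a ha => hcj _ (hn a ha))
    (hsub a₀ ha₀) (fun e => ha₀c (Subgroup.mem_center_iff.2 fun w => Units.ext (by
      rw [Units.val_mul, Units.val_mul, e]; simp)))
  have hall := R9_le_of_monomial ω (L := L) (fun z hz => by
      show (z : M9) ∈ W
      rw [scalar_of_mem_center9 ω hz]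
      exact W.smul_mem _ hone)
    (fun a ha => hconjL _ (hn a ha)) (hconjL _ hP) (hconjL _ hsw) ha hb hab hne
  have hgW : ∀ M ∈ W, (g : M9) * M = M * (g : M9) := fun M hM => by
    rw [hW] at hM
    induction hM using Submodule.span_induction with
    | mem M hM => obtain ⟨x, hx, rfl⟩ := hM; show (g : M9) * (x : M9) = _; rw [← Units.val_mul, (hg x hx).eq, Units.val_mul]
    | zero => simp
    | add u v _ _ hu hv => rw [mul_add, add_mul, hu, hv]
    | smul r u _ hu => rw [Matrix.mul_smul, hu, Matrix.smul_mul]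
  exact mem_center9_of_commute ω (fun a ha => Units.ext (hgW _ (hall a ha).2)) fun a ha => Units.ext (hgW _ (hall a ha).1)

end CfsgLib.Perm.Trans.ThreeDim.Nine
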