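import Cfsg.Agent.Lib.Perm.Trans.ThreeDim.Nine.Block

/-!
# The parity parts
-/

set_option autoImplicit false
set_option linter.all false

namespace CfsgLib.Perm.Trans.ThreeDim.Nine

open scoped Matrix
open Matrix CfsgLib.Perm.Trans.ThreeDim.Heis

variable {F : Type*} [Field F] [Fintype F] (ω : Root F)

local notation "M3" => Matrix (Fin 3) (Fin 3) F
local notation "G3" => GL (Fin 3) F
local notation "M9" => Matrix I9 I9 F
local notation "G9" => GL I9 F
local notation "Z3" => Subgroup.center (GL (Fin 3) F)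
local notation "N3" => Subgroup.normalizer (gR ω : Set (GL (Fin 3) F))

theorem diagonal_of_commute_gD {c : G3} (hcD : Commute c (gD ω)) :
    (c : M3) = Matrix.diagonal fun i => (c : M3) i i := by
  ext i l
  by_cases hil : i = l
  · subst hil; rw [Matrix.diagonal_apply_eq]
  · rw [Matrix.diagonal_apply_ne _ hil]
    have h := congrArg (fun g : G3 => (g : M3) i l) hcD.eq
    simp only [Units.val_mul, val_gD, dm, Matrix.mul_diagonal, Matrix.diagonal_mul] at h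
    have hd : ![1, ω.μ, ω.μ * ω.μ] i ≠ ![1, ω.μ, ω.μ * ω.μ] l := by
      fin_cases i <;> fin_cases l <;> simp at hil ⊢
      exacts [Ne.symm ω.ne_one, Ne.symm ω.sq_ne_one, ω.ne_one, ω.ne_sq, ω.sq_ne_one, Ne.symm ω.ne_sq]
    exact (mul_eq_zero.1 (show (![1, ω.μ, ω.μ * ω.μ] l - ![1, ω.μ, ω.μ * ω.μ] i) * (c : M3) i l = 0 by
      linear_combination h)).resolve_left (sub_ne_zero.2 (Ne.symm hd))

omit [Fintype F] in
theorem gT_det : ((gT : G3) : M3).det = 1 := det_tm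

/-- the left parity as a pair -/
theorem l1_gT (h2 : (2 : F) ≠ 0) {n : G3} (hn : (n : M3) = -1) : pr h2 (n, 1) = l1 gT := Units.ext (by
  ext ⟨x, i⟩ ⟨y, j⟩
  rw [val_pr, prM_apply, l1_apply, hn, Units.val_one, Matrix.neg_apply, Matrix.one_apply, val_gT]
  fin_cases x <;> fin_cases y <;> by_cases h : i = j <;> simp [em, om, tm, h] <;> field_simp <;> norm_num)

variable {ω}

variable {U : Subgroup (GL (Fin 3) F)} {G H : Subgroup (GL I9 F)}

/-- the parts of determinant one in `H` -/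
def Kp (h2 : (2 : F) ≠ 0) (H : Subgroup G9) : Subgroup (G3 × G3) :=
  H.comap (pr h2) ⊓ (Cfsg.Geo.specialLinear (Fin 3) F).prod (Cfsg.Geo.specialLinear (Fin 3) F)

theorem mem_Kp {h2 : (2 : F) ≠ 0} {a b : G3} :
    (a, b) ∈ Kp h2 H ↔ pr h2 (a, b) ∈ H ∧ (a : M3).det = 1 ∧ (b : M3).det = 1 := by
  simp only [Kp, Subgroup.mem_inf, Subgroup.mem_comap, Subgroup.mem_prod, mem_SL_iff]

theorem Kp_diag {h2 : (2 : F) ≠ 0} {a : G3} (ha : r1 a ∈ H) (hd : (a : M3).det = 1) : (a, a) ∈ Kp h2 H :=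
  mem_Kp.2 ⟨by rwa [pr_self], hd, hd⟩

/-- parts commuting with `D` -/
theorem parts_of_commute_gD (c : Base ω U G) (o : Over ω G H) (hN : ∀ g ∈ Ks H, ∀ x, g x ∈ N3) {z w : G3}
    (h : pr c.two (z, w) ∈ H) (hz : Commute z (gD ω)) (hw : Commute w (gD ω)) (y : Fin 3) :
    (z : M3) y y = (w : M3) y y ∨ (z : M3) y y + (w : M3) y y = 0 := by
  have hcomm : Commute (sw * pr c.two (z, w) * sw) (l1 (gD ω)) := by
    have h1 : Commute (pr c.two (z, w)) (r1 (gD ω)) := by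
      rw [← pr_self c.two]
      exact (Commute.prod hz hw).map (pr c.two)
    rw [← sw_r1]
    show sw * pr c.two (z, w) * sw * (sw * r1 (gD ω) * sw) = sw * r1 (gD ω) * sw * (sw * pr c.two (z, w) * sw)
    rw [show sw * pr c.two (z, w) * sw * (sw * r1 (gD ω) * sw) =
        sw * pr c.two (z, w) * (sw * sw) * r1 (gD ω) * sw by group,
      show sw * r1 (gD ω) * sw * (sw * pr c.two (z, w) * sw) =
        sw * r1 (gD ω) * (sw * sw) * pr c.two (z, w) * sw by group, sw_sq, mul_one, mul_one, mul_assoc sw,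
      mul_assoc sw, h1.eq]
    group
  obtain ⟨g, hg⟩ := exists_bd ω hcomm
  have hgH : bd g ∈ H := hg ▸ mul_mem (mul_mem o.sw_mem h) o.sw_mem
  by_contra hne
  push Not at hne
  refine not_mem_eo ω c.two (a := (z : M3) y y) (b := (w : M3) y y) ?_ hne.1 hne.2 (blocks_normalize c o hN hgH y)
  ext i j
  have e := congrArg (fun u : G9 => (u : M9) (y, i) (y, j)) hg
  simp only [sw_conj_apply, val_pr, prM_apply, bd_apply, if_true] at e
  rw [← e]
  simp [mul_comm]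

/-- a nontrivial invariant subgroup gives an element commuting with `D` -/
theorem exists_witness (c : Ctx ω U G) {B L : Subgroup G3} (hBU : B ≤ U) (hBR : gR ω ≤ B)
    (hBP : ∀ k, gPhi ω k ∈ B) (hLB : L ≤ B) (hn : ∀ u ∈ B, ∀ x ∈ L, u * x * u⁻¹ ∈ L) {b : G3} (hb : b ∈ L)
    (hb1 : b ≠ 1) : ∃ z ∈ L, Commute z (gD ω) ∧ (z : M3) 1 1 ≠ 1 ∧ (z : M3) 1 1 + 1 ≠ 0 := by
  have hμm : ω.μ + 1 ≠ 0 := fun h => c.two (by
    linear_combination (-(1 : F)) * ω.cube + (ω.μ * ω.μ - ω.μ + 1) * h)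
  have hD : gD ω ∈ L → ∃ z ∈ L, Commute z (gD ω) ∧ (z : M3) 1 1 ≠ 1 ∧ (z : M3) 1 1 + 1 ≠ 0 := fun h =>
    ⟨_, h, Commute.refl _, by simpa [val_gD, dm] using ω.ne_one, by simpa [val_gD, dm] using hμm⟩
  by_cases hz : b ∈ Z3
  · obtain ⟨k, hk⟩ := eq_gZ_pow ω hz (c.det_U _ (hBU (hLB hb)))
    refine ⟨b, hb, (Subgroup.mem_center_iff.1 hz (gD ω)).symm, ?_, ?_⟩
    · intro h
      refine hb1 (Units.ext ?_)
      rw [hk, val_gZ_pow, Units.val_one]
      rw [hk, val_gZ_pow, Matrix.smul_apply, Matrix.one_apply_eq, smul_eq_mul, mul_one] at h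
      rw [h, one_smul]
    · intro h
      rw [hk, val_gZ_pow, Matrix.smul_apply, Matrix.one_apply_eq, smul_eq_mul, mul_one] at h
      have := ω.pow_cube k
      rw [eq_neg_of_add_eq_zero_left h] at this
      exact c.two (by linear_combination -this)
  refine hD ?_
  rcases c.dich B hBR hBP hBU with hN | hU
  · obtain ⟨r, hr, hrc⟩ : ∃ r, r ∈ L ⊓ gR ω ∧ r ∉ Z3 := by
      by_contra hno
      push Not at hno
      have hcom : ∀ s ∈ gR ω, b * s * b⁻¹ * s⁻¹ ∈ Z3 := fun s hs => hno _ ⟨by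
        rw [show b * s * b⁻¹ * s⁻¹ = b * (s * b⁻¹ * s⁻¹) by group]
        exact L.mul_mem hb (hn s (hBR hs) _ (L.inv_mem hb)),
        (gR ω).mul_mem (((Subgroup.mem_normalizer_iff.1 (hN (hLB hb))) s).1 hs) ((gR ω).inv_mem hs)⟩
      obtain ⟨i, j, hm⟩ := exists_monomial ω (c.det_U _ (hBU (hLB hb))) (hcom _ (gD_mem ω)) (hcom _ (gS_mem ω))
      have hmR : gS ^ i * gD ω ^ j ∈ gR ω := mul_mem (pow_mem (gS_mem ω) _) (pow_mem (gD_mem ω) _)
      have hbR : b ∈ gR ω := by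
        obtain ⟨k, hk⟩ := eq_gZ_pow ω hm (c.det_U _ (hBU (mul_mem (inv_mem (hBR hmR)) (hLB hb))))
        rw [← mul_inv_cancel_left (gS ^ i * gD ω ^ j) b, hk]
        exact mul_mem hmR (pow_mem (gZ_mem ω) _)
      exact hz (hno b ⟨hb, hbR⟩)
    exact gR_le_of_noncentral ω (L := L) (fun x hx => hn _ (hBR (gD_mem ω)) x hx)
      (fun x hx => hn _ (hBR (gS_mem ω)) x hx) (fun x hx => hn _ (hBP 0) x hx) hr.2 hr.1 hrc (gD_mem ω)
  · subst hU
    rw [c.simple L hLB hn fun h => hz (h hb)]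
    exact c.R_le (gD_mem ω)

/-- the projection images -/
theorem fst_image (c : Base ω U G) (o : Over ω G H) :
    (Kp c.two H).map (MonoidHom.fst G3 G3) ≤ U ∧ gR ω ≤ (Kp c.two H).map (MonoidHom.fst G3 G3) ∧
      ∀ k, gPhi ω k ∈ (Kp c.two H).map (MonoidHom.fst G3 G3) := by
  refine ⟨?_, fun a ha => ⟨(a, a), Kp_diag (o.R_mem a ha) (det_of_mem_gR ω ha), rfl⟩,
    fun k => ⟨_, Kp_diag (o.Phi_mem k) (det_gPhi ω k), rfl⟩⟩
  rintro _ ⟨⟨a, b⟩, h, rfl⟩
  obtain ⟨h1, h2, h3⟩ := mem_Kp.1 h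
  exact (c.pr_mem a b (o.le h1) h2 h3).1

theorem snd_image (c : Base ω U G) (o : Over ω G H) :
    (Kp c.two H).map (MonoidHom.snd G3 G3) ≤ U ∧ gR ω ≤ (Kp c.two H).map (MonoidHom.snd G3 G3) ∧
      ∀ k, gPhi ω k ∈ (Kp c.two H).map (MonoidHom.snd G3 G3) := by
  refine ⟨?_, fun a ha => ⟨(a, a), Kp_diag (o.R_mem a ha) (det_of_mem_gR ω ha), rfl⟩,
    fun k => ⟨_, Kp_diag (o.Phi_mem k) (det_gPhi ω k), rfl⟩⟩
  rintro _ ⟨⟨a, b⟩, h, rfl⟩
  obtain ⟨h1, h2, h3⟩ := mem_Kp.1 h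
  exact (c.pr_mem a b (o.le h1) h2 h3).2

theorem snd_kernel (c : Ctx ω U G) (o : Over ω G H) (hN : ∀ g ∈ Ks H, ∀ x, g x ∈ N3) {b : G3}
    (hb : ((1 : G3), b) ∈ Kp c.two H) : b = 1 := by
  by_contra hb1
  obtain ⟨hU, hR, hP⟩ := snd_image c.toBase o
  obtain ⟨z, hz, hzD, hz1, hz2⟩ := exists_witness c hU hR hP
    (L := (Kp c.two H).comap (MonoidHom.inr G3 G3)) (fun z hz => ⟨_, hz, rfl⟩) (by
      rintro _ ⟨⟨u, v⟩, huv, rfl⟩ x hx
      have := mul_mem (mul_mem huv hx) (inv_mem huv)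
      simpa using this) hb hb1
  rcases parts_of_commute_gD c.toBase o hN (mem_Kp.1 hz).1 (Commute.one_left _) hzD 1 with h | h <;>
    simp only [Units.val_one, Matrix.one_apply_eq] at h
  · exact hz1 h.symm
  · exact hz2 (by rw [add_comm]; exact h)

theorem fst_kernel (c : Ctx ω U G) (o : Over ω G H) (hN : ∀ g ∈ Ks H, ∀ x, g x ∈ N3) {a : G3}
    (ha : (a, (1 : G3)) ∈ Kp c.two H) : a = 1 := by
  by_contra ha1
  obtain ⟨hU, hR, hP⟩ := fst_image c.toBase o
  obtain ⟨z, hz, hzD, hz1, hz2⟩ := exists_witness c hU hR hP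
    (L := (Kp c.two H).comap (MonoidHom.inl G3 G3)) (fun z hz => ⟨_, hz, rfl⟩) (by
      rintro _ ⟨⟨u, v⟩, huv, rfl⟩ x hx
      have := mul_mem (mul_mem huv hx) (inv_mem huv)
      simpa using this) ha ha1
  rcases parts_of_commute_gD c.toBase o hN (mem_Kp.1 hz).1 hzD (Commute.one_left _) 1 with h | h <;>
    simp only [Units.val_one, Matrix.one_apply_eq] at h
  · exact hz1 h
  · exact hz2 h

variable (ω)

/-- no lift of `diag(1, -1, -1)` -/
theorem no_lift (h2 : (2 : F) ≠ 0) {K : Subgroup (G3 × G3)} (hD : (gD ω, gD ω) ∈ K) (hT : (gT, gT) ∈ K)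
    (hk1 : ∀ b, ((1 : G3), b) ∈ K → b = 1) (hk2 : ∀ a, (a, (1 : G3)) ∈ K → a = 1)
    (hdet : ∀ a b, (a, b) ∈ K → (b : M3).det = 1) {W b : G3}
    (hW : (W : M3) = Matrix.diagonal ![1, -1, -1]) (h : (W, b) ∈ K) : b = W := by
  have hWD : Commute W (gD ω) := Units.ext (by
    rw [Units.val_mul, Units.val_mul, hW, val_gD, dm, Matrix.diagonal_mul_diagonal, Matrix.diagonal_mul_diagonal]
    simp only [mul_comm])
  have hWT : Commute W gT := Units.ext (by
    rw [Units.val_mul, Units.val_mul, hW, val_gT]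
    ext i j
    fin_cases i <;> fin_cases j <;> simp [tm, Matrix.mul_apply, Fin.sum_univ_three, Matrix.vecMul_diagonal])
  have hcomm : ∀ s, (s, s) ∈ K → Commute W s → Commute b s := fun s hs hWs => by
    have h1 := mul_mem (mul_mem (mul_mem h hs) (inv_mem h)) (inv_mem hs)
    simp only [Prod.mk_mul_mk, Prod.inv_mk] at h1
    rw [hWs.eq, mul_inv_cancel_right, mul_inv_cancel] at h1
    exact mul_inv_eq_iff_eq_mul.1 (mul_inv_eq_one.1 (hk1 _ h1))
  have hbD := hcomm _ hD hWD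
  have hbT := hcomm _ hT hWT
  have hW2 : W * W = 1 := Units.ext (by
    rw [Units.val_mul, hW, Matrix.diagonal_mul_diagonal, Units.val_one, ← Matrix.diagonal_one]
    congr 1
    funext i
    fin_cases i <;> simp)
  have hb2 : b * b = 1 := hk1 _ (by simpa [hW2] using mul_mem h h)
  have hd := diagonal_of_commute_gD ω hbD
  obtain ⟨d, hdd⟩ : ∃ d : Fin 3 → F, d = fun i => (b : M3) i i := ⟨_, rfl⟩
  rw [← hdd] at hd
  have h12 : d 1 = d 2 := by
    have h := congrArg (fun g : G3 => (g : M3) 1 2) hbT.eq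
    simp only [Units.val_mul, hd, val_gT, Matrix.mul_diagonal, Matrix.diagonal_mul] at h
    simp [tm] at h
    exact h
  have hsq : ∀ i, d i * d i = 1 := fun i => by
    have h := congrArg (fun g : G3 => (g : M3) i i) hb2
    simpa [hd, Units.val_mul, Matrix.diagonal_mul_diagonal] using h
  have h0 : d 0 = 1 := by
    have h := hdet _ _ h
    rw [hd, Matrix.det_diagonal, Fin.prod_univ_three, ← h12, mul_assoc, hsq, mul_one] at h
    exact h
  rcases mul_self_eq_one_iff.1 (hsq 1) with h1 | h1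
  · exfalso
    have hb1 : b = 1 := Units.ext (by
      rw [hd, Units.val_one, ← Matrix.diagonal_one]
      congr 1
      funext i
      fin_cases i
      · exact h0
      · exact h1
      · exact h12.symm.trans h1)
    rw [hb1] at h
    have := congrArg (fun g : G3 => (g : M3) 1 1) (hk2 _ h)
    simp [hW] at this
    exact h2 (by linear_combination -this)
  · refine Units.ext ?_
    rw [hd, hW]
    congr 1
    funext i
    fin_cases i
    · exact h0
    · exact h1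
    · exact h12.symm.trans h1

variable {ω}

theorem r1_gT_mem (o : Over ω G H) : r1 gT ∈ H := by
  rw [← gPhi_sq ω 0, map_mul]
  exact mul_mem (o.Phi_mem 0) (o.Phi_mem 0)

theorem diag_W_false (c : Ctx ω U G) (o : Over ω G H) (hN : ∀ g ∈ Ks H, ∀ x, g x ∈ N3) {W : G3}
    (hW : (W : M3) = Matrix.diagonal ![1, -1, -1]) (h : (W, W) ∈ Kp c.two H) : False := by
  obtain ⟨h1, h2, -⟩ := mem_Kp.1 h
  rw [pr_self, r1_eq] at h1
  have := diag_cube ω hW (hN _ (mem_Ks.2 ⟨h1, fun _ => h2⟩) 0)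
  norm_num at this
  exact c.two (by linear_combination -this)

theorem images_normalize (c : Ctx ω U G) (o : Over ω G H) (hN : ∀ g ∈ Ks H, ∀ x, g x ∈ N3) :
    (Kp c.two H).map (MonoidHom.snd G3 G3) ≤ N3 := by
  obtain ⟨hU, hR, hP⟩ := snd_image c.toBase o
  refine (c.dich _ hR hP hU).resolve_right fun e => ?_
  obtain ⟨W, hW⟩ : ∃ W : G3, (W : M3) = Matrix.diagonal ![1, -1, -1] :=
    ⟨Matrix.GeneralLinearGroup.mkOfDetNeZero (Matrix.diagonal ![1, -1, -1]) (by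
      rw [Matrix.det_diagonal, Fin.prod_univ_three]; simp), rfl⟩
  obtain ⟨⟨a, b⟩, hab, rfl⟩ : W ∈ (Kp c.two H).map (MonoidHom.snd G3 G3) := e.ge (c.W_mem W hW)
  have hD : (gD ω, gD ω) ∈ Kp c.two H := Kp_diag (o.R_mem _ (gD_mem ω)) (det_of_mem_gR ω (gD_mem ω))
  have hT : ((gT : G3), (gT : G3)) ∈ Kp c.two H := Kp_diag (r1_gT_mem o) gT_det
  have hab' : (b, a) ∈ (Kp c.two H).comap (MulEquiv.prodComm : G3 × G3 ≃* G3 × G3).toMonoidHom := hab
  obtain rfl : a = b := no_lift ω c.two (K := (Kp c.two H).comap (MulEquiv.prodComm : G3 × G3 ≃* G3 × G3).toMonoidHom)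
    hD hT (fun z hz => fst_kernel c o hN hz) (fun z hz => snd_kernel c o hN hz)
    (fun z w hzw => (mem_Kp.1 (show (w, z) ∈ Kp c.two H from hzw)).2.1) hW hab'
  exact diag_W_false c o hN hW hab

/-- the odd block of an element normalising `l1 Q` -/
theorem obG_normalize (c : Ctx ω U G) (o : Over ω G H) (hN : ∀ g ∈ Ks H, ∀ x, g x ∈ N3)
    (h : Subgroup.centralizer ({l1 gT} : Set G9)) (hh : (h : G9) ∈ H)
    (hQ : ∀ q ∈ gQ ω, ∃ q' ∈ gQ ω, ((h : G9))⁻¹ * l1 q * h = l1 q') : obG h ∈ N3 := by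
  obtain ⟨-, hR, hP⟩ := snd_image c.toBase o
  refine mem_normalizer_of_conj ω (images_normalize c o hN) hR (hP 0)
    (fun m hm => by obtain ⟨⟨a, b⟩, hab, rfl⟩ := hm; exact (mem_Kp.1 hab).2.2) ?_
  rintro _ ⟨⟨a, b⟩, hab, rfl⟩
  obtain ⟨hH, hda, hdb⟩ := mem_Kp.1 hab
  have hqe : ∀ q ∈ gQ ω, (q : M3) * (em : M3) = (em : M3) * (q : M3) ∧ (q : M3) * (om : M3) = (om : M3) * (q : M3) := by
    have he : ((2 : F)⁻¹ • (1 - tm) : M3) = em := by
      ext i j; fin_cases i <;> fin_cases j <;> simp [em, tm] <;> have := c.two <;> field_simp <;> norm_num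
    intro q hq
    have hc : (q : M3) * tm = tm * (q : M3) := by
      have := congrArg Units.val (Q_commute_gT ω hq).eq
      rwa [Units.val_mul, Units.val_mul, val_gT] at this
    have e1 : (q : M3) * (em : M3) = (em : M3) * (q : M3) := by
      rw [← he, Matrix.mul_smul, Matrix.smul_mul, mul_sub, sub_mul, mul_one, one_mul, hc]
    refine ⟨e1, ?_⟩
    rw [show (om : M3) = 1 - em by rw [em_eq c.two, sub_sub_cancel], mul_sub, sub_mul, mul_one, one_mul, e1]
  have hpc : ∀ q ∈ gQ ω, Commute ((h : G9) * pr c.two (a, b) * (h : G9)⁻¹) (l1 q) := fun q hq => by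
    obtain ⟨q', hq', e⟩ := hQ q hq
    have hc := pr_commute_l1 c.two (hqe q' hq').1 (hqe q' hq').2 (a, b)
    rw [← e] at hc
    have := hc.symm.map (MulAut.conj (h : G9)).toMonoidHom
    simpa [mul_assoc] using this
  obtain ⟨a', b', hab'⟩ := exists_pr ω c.two (hpc _ (gPhi_mem_Q ω 0 (by norm_num)))
    (hpc _ (gPhi_mem_Q ω 1 (by norm_num)))
  have hprc : pr c.two (a, b) ∈ Subgroup.centralizer ({l1 gT} : Set G9) :=
    Subgroup.mem_centralizer_singleton_iff.2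
      (pr_commute_l1 c.two (hqe _ (gT_mem_Q ω)).1 (hqe _ (gT_mem_Q ω)).2 (a, b)).eq.symm
  have hval : b' = obG h * b * (obG h)⁻¹ := by
    have hb : obG ⟨_, hprc⟩ = b := Units.ext (by rw [val_obG, ob_pr])
    rw [← hb, ← map_inv, ← map_mul, ← map_mul]
    refine Units.ext ?_
    rw [val_obG, ← ob_pr c.two a' b', ← hab']
    rfl
  have hb'det : (b' : M3).det = 1 := by
    rw [hval, Units.val_mul, Units.val_mul, Matrix.det_mul, Matrix.det_mul, hdb, mul_one, ← Matrix.det_mul,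
      Units.mul_inv, Matrix.det_one]
  have hin : pr c.two (a', b') ∈ H := hab' ▸ mul_mem (mul_mem hh hH) (inv_mem hh)
  have ha' : (a' : M3).det = 1 ∨ (a' : M3).det = -1 := by
    have h := c.det_G _ (o.le hin)
    rw [det_pr, hb'det, mul_one, sq] at h
    exact mul_self_eq_one_iff.1 h
  show obG h * b * (obG h)⁻¹ ∈ _
  rw [← hval]
  rcases ha' with h1 | h1
  · exact ⟨(a', b'), mem_Kp.2 ⟨hin, h1, hb'det⟩, rfl⟩
  · obtain ⟨n, hn⟩ : ∃ n : G3, (n : M3) = -1 := ⟨-1, by simp⟩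
    refine ⟨(n * a', b'), mem_Kp.2 ⟨?_, ?_, hb'det⟩, rfl⟩
    · rw [show ((n * a', b') : G3 × G3) = (n, 1) * (a', b') by rw [Prod.mk_mul_mk, one_mul], map_mul, l1_gT c.two hn]
      exact mul_mem (o.l1_mem (r1_gT_mem o)) hin
    · rw [Units.val_mul, Matrix.det_mul, hn, h1, Matrix.det_neg, Matrix.det_one, Fintype.card_fin]
      norm_num

end CfsgLib.Perm.Trans.ThreeDim.Nine
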