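import Cfsg.Agent.Lib.Perm.Trans.ThreeDim.Nine.Small

/-!
# The quaternion group of the `Φ_k`
-/

set_option autoImplicit false
set_option linter.all false

namespace CfsgLib.Perm.Trans.ThreeDim.Nine

open scoped Matrix
open Matrix CfsgLib.Perm.Trans.ThreeDim.Heis

variable {F : Type*} [Field F] (ω : Root F)

local notation "M3" => Matrix (Fin 3) (Fin 3) F
local notation "G3" => GL (Fin 3) F
local notation "Z3" => Subgroup.center (GL (Fin 3) F)

/-- the quaternion group -/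
def gQ : Subgroup G3 := Subgroup.closure {gPhi ω 0, gPhi ω 1}

theorem gPhi01 : gPhi ω 0 * gPhi ω 1 = gPhi ω 2 := Units.ext (by
  have hη := ω.η_ne_zero
  simp only [Units.val_mul, val_gPhi, phim, Matrix.smul_mul, Matrix.mul_smul, pow_zero, pow_one, sq]
  congr 1
  ext i j
  fin_cases i <;> fin_cases j <;> simp [Matrix.mul_apply, Fin.sum_univ_three] <;> field_simp <;>
    simp only [Root.η] <;> grind [ω.eq, ω.cube])

theorem gPhi10 : gPhi ω 1 * gPhi ω 0 = gT * gPhi ω 2 := Units.ext (by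
  have hη := ω.η_ne_zero
  simp only [Units.val_mul, val_gPhi, val_gT, phim, Matrix.smul_mul, Matrix.mul_smul, pow_zero, pow_one, sq]
  congr 1
  ext i j
  fin_cases i <;> fin_cases j <;> simp [tm, Matrix.mul_apply, Fin.sum_univ_three] <;> field_simp <;>
    simp only [Root.η] <;> grind [ω.eq, ω.cube])

theorem gPhi_gT (k : ℕ) : gPhi ω k * gT = gT * gPhi ω k := by rw [← gPhi_sq ω k, mul_assoc]

/-- the eight elements -/
def IsQ (x : G3) : Prop := x = 1 ∨ x = gT ∨ ∃ k, k < 3 ∧ (x = gPhi ω k ∨ x = gT * gPhi ω k)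

theorem isQ_gT_mul {y : G3} (h : IsQ ω y) : IsQ ω (gT * y) := by
  rcases h with rfl | rfl | ⟨k, hk, rfl | rfl⟩
  · exact Or.inr (Or.inl (mul_one _))
  · exact Or.inl gT_sq
  · exact Or.inr (Or.inr ⟨k, hk, Or.inr rfl⟩)
  · exact Or.inr (Or.inr ⟨k, hk, Or.inl (by rw [← mul_assoc, gT_sq, one_mul])⟩)

theorem isQ_gPhi_mul {a : ℕ} (ha : a = 0 ∨ a = 1) {y : G3} (h : IsQ ω y) : IsQ ω (gPhi ω a * y) := by
  have e02 : gPhi ω 0 * gPhi ω 2 = gT * gPhi ω 1 := by rw [← gPhi01, ← mul_assoc, gPhi_sq]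
  have e12 : gPhi ω 1 * gPhi ω 2 = gPhi ω 0 := by
    rw [show gPhi ω 2 = gT * (gPhi ω 1 * gPhi ω 0) by rw [gPhi10, ← mul_assoc, gT_sq, one_mul], ← mul_assoc,
      gPhi_gT, mul_assoc, ← mul_assoc (gPhi ω 1), gPhi_sq, ← mul_assoc, gT_sq, one_mul]
  have hprod : ∀ k, k < 3 → IsQ ω (gPhi ω a * gPhi ω k) := fun k hk => by
    rcases ha with rfl | rfl <;> interval_cases k
    · exact Or.inr (Or.inl (gPhi_sq ω 0))
    · exact Or.inr (Or.inr ⟨2, by norm_num, Or.inl (gPhi01 ω)⟩)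
    · exact Or.inr (Or.inr ⟨1, by norm_num, Or.inr e02⟩)
    · exact Or.inr (Or.inr ⟨2, by norm_num, Or.inr (gPhi10 ω)⟩)
    · exact Or.inr (Or.inl (gPhi_sq ω 1))
    · exact Or.inr (Or.inr ⟨0, by norm_num, Or.inl e12⟩)
  have ha3 : a < 3 := by omega
  rcases h with rfl | rfl | ⟨k, hk, rfl | rfl⟩
  · exact Or.inr (Or.inr ⟨a, ha3, Or.inl (mul_one _)⟩)
  · exact Or.inr (Or.inr ⟨a, ha3, Or.inr (gPhi_gT ω a)⟩)
  · exact hprod k hk
  · rw [← mul_assoc, gPhi_gT, mul_assoc]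
    exact isQ_gT_mul ω (hprod k hk)

theorem isQ_of_mem [Finite F] {x : G3} (hx : x ∈ gQ ω) : IsQ ω x := by
  suffices h : ∀ y, IsQ ω y → IsQ ω (x * y) by simpa using h 1 (Or.inl rfl)
  induction hx using Subgroup.closure_induction with
  | mem x hx =>
    rcases hx with rfl | rfl
    · exact fun y hy => isQ_gPhi_mul ω (Or.inl rfl) hy
    · exact fun y hy => isQ_gPhi_mul ω (Or.inr rfl) hy
  | one => exact fun y hy => by rwa [one_mul]
  | mul u v _ _ hu hv => exact fun y hy => by rw [mul_assoc]; exact hu _ (hv _ hy)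
  | inv u _ hu =>
    have hp : ∀ n : ℕ, ∀ y, IsQ ω y → IsQ ω (u ^ n * y) := fun n => by
      induction n with
      | zero => exact fun y hy => by rwa [pow_zero, one_mul]
      | succ n ih => exact fun y hy => by rw [pow_succ, mul_assoc]; exact ih _ (hu _ hy)
    intro y hy
    rw [show u⁻¹ = u ^ (orderOf u - 1) from inv_eq_of_mul_eq_one_right (by
      rw [← pow_succ', Nat.sub_add_cancel (orderOf_pos u), pow_orderOf_eq_one])]
    exact hp _ y hy

theorem gPhi_mem_Q (k : ℕ) (hk : k < 3) : gPhi ω k ∈ gQ ω := by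
  have h0 : gPhi ω 0 ∈ gQ ω := Subgroup.subset_closure (Set.mem_insert _ _)
  have h1 : gPhi ω 1 ∈ gQ ω := Subgroup.subset_closure (Set.mem_insert_of_mem _ rfl)
  interval_cases k
  · exact h0
  · exact h1
  · exact gPhi01 ω ▸ mul_mem h0 h1

theorem gT_mem_Q : (gT : G3) ∈ gQ ω :=
  gPhi_sq ω 0 ▸ mul_mem (gPhi_mem_Q ω 0 (by norm_num)) (gPhi_mem_Q ω 0 (by norm_num))

theorem mem_Q_of_isQ {x : G3} (h : IsQ ω x) : x ∈ gQ ω := by
  rcases h with rfl | rfl | ⟨k, hk, rfl | rfl⟩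
  · exact one_mem _
  · exact gT_mem_Q ω
  · exact gPhi_mem_Q ω k hk
  · exact mul_mem (gT_mem_Q ω) (gPhi_mem_Q ω k hk)

theorem Q_commute_gT [Finite F] {x : G3} (hx : x ∈ gQ ω) : Commute x gT := by
  rcases isQ_of_mem ω hx with rfl | rfl | ⟨k, hk, rfl | rfl⟩
  · exact Commute.one_left _
  · exact Commute.refl _
  · exact gPhi_gT ω k
  · exact (Commute.refl _).mul_left (gPhi_gT ω k)

theorem Q_le_normalizer [Fintype F] : gQ ω ≤ Subgroup.normalizer (gR ω : Set G3) := by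
  rw [gQ, Subgroup.closure_le]
  rintro _ (rfl | rfl) <;> exact gPhi_mem_normalizer ω _

/-- the squares -/
theorem Q_sq [Finite F] {x : G3} (hx : x ∈ gQ ω) : x * x = 1 ∨ x * x = gT := by
  rcases isQ_of_mem ω hx with rfl | rfl | ⟨k, hk, rfl | rfl⟩
  · exact Or.inl (mul_one _)
  · exact Or.inl gT_sq
  · exact Or.inr (gPhi_sq ω k)
  · exact Or.inr (by rw [mul_assoc, ← mul_assoc (gPhi ω k), gPhi_gT, mul_assoc, gPhi_sq, ← mul_assoc, gT_sq, one_mul])

theorem gT_ne_one (h2 : (2 : F) ≠ 0) : (gT : G3) ≠ 1 := fun h => by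
  have := congrArg (fun g : G3 => (g : M3) 0 0) h
  simp [val_gT, tm] at this
  exact h2 (by linear_combination -this)

/-- the involutions -/
theorem Q_invol [Finite F] (h2 : (2 : F) ≠ 0) {x : G3} (hx : x ∈ gQ ω) (h : x * x = 1) : x = 1 ∨ x = gT := by
  rcases isQ_of_mem ω hx with rfl | rfl | ⟨k, hk, rfl | rfl⟩
  · exact Or.inl rfl
  · exact Or.inr rfl
  · exact absurd ((gPhi_sq ω k).symm.trans h) (gT_ne_one h2)
  · rw [mul_assoc, ← mul_assoc (gPhi ω k), gPhi_gT, mul_assoc, gPhi_sq, ← mul_assoc, gT_sq, one_mul] at h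
    exact absurd h (gT_ne_one h2)

/-- the trace of the elements of order four -/
theorem Q_trace [Finite F] (h2 : (2 : F) ≠ 0) {x : G3} (hx : x ∈ gQ ω) (h : x * x = gT) :
    (x : M3).trace = 1 := by
  have hη := ω.η_ne_zero
  rcases isQ_of_mem ω hx with rfl | rfl | ⟨k, hk, rfl | rfl⟩
  · exact absurd ((mul_one _).symm.trans h).symm (gT_ne_one h2)
  · rw [gT_sq] at h
    exact absurd h.symm (gT_ne_one h2)
  · rw [val_gPhi, phim, Matrix.trace_smul, Matrix.trace_fin_three]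
    simp
    field_simp
    simp only [Root.η]
    linear_combination ω.eq
  · rw [Units.val_mul, val_gPhi, val_gT, phim, Matrix.mul_smul, Matrix.trace_smul, Matrix.trace_fin_three]
    simp [tm, Matrix.mul_apply, Fin.sum_univ_three]
    field_simp
    simp only [Root.η]
    linear_combination -ω.eq

/-- the value on the odd vector -/
theorem Q_odd [Finite F] {x : G3} (hx : x ∈ gQ ω) : (x : M3) 1 1 - (x : M3) 1 2 = 1 := by
  have hη := ω.η_ne_zero
  rcases isQ_of_mem ω hx with rfl | rfl | ⟨k, hk, rfl | rfl⟩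
  · simp
  · simp [val_gT, tm]
  · simp [val_gPhi, phim]
    field_simp
    simp only [Root.η]
    ring
  · simp [Units.val_mul, val_gPhi, val_gT, phim, tm, Matrix.mul_apply, Fin.sum_univ_three]
    field_simp
    simp only [Root.η]
    ring

/-- the elements centralising `D` -/
theorem Q_eq_one_of_commute [Finite F] {x : G3} (hx : x ∈ gQ ω) (h : Commute x (gD ω)) : x = 1 := by
  haveI := Fintype.ofFinite F
  have hb : ∀ i j k, nf ω i j k = gD ω → j % 3 = 0 ∧ k % 3 = 1 := fun i j k e => by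
    have := nf_congr ω (i := i) (j := j) (k := k) (i' := 0) (j' := 0) (k' := 1) (by
      rw [nf_gD, ← e, inv_mul_cancel]; exact one_mem _)
    omega
  have him : ∀ k, imD ω k = nf ω k 2 k := fun k => by rw [imD, nf, sq]
  have hc : x * gD ω * x⁻¹ = gD ω := by rw [h.eq, mul_inv_cancel_right]
  rcases isQ_of_mem ω hx with rfl | rfl | ⟨k, hk, rfl | rfl⟩
  · rfl
  · rw [← nf_gD ω, gT_conj_nf, nf_gD] at hc
    exact absurd (hb _ _ _ hc).2 (by norm_num)
  · rw [gPhi_mul_gD, mul_inv_cancel_right, him] at hc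
    exact absurd (hb _ _ _ hc).1 (by norm_num)
  · rw [show gT * gPhi ω k * gD ω * (gT * gPhi ω k)⁻¹ = gT * (gPhi ω k * gD ω * (gPhi ω k)⁻¹) * gT⁻¹ by group,
      gPhi_mul_gD, mul_inv_cancel_right, him, gT_conj_nf] at hc
    exact absurd (hb _ _ _ hc).1 (by norm_num)

/-- `Q` is transitive on the classes -/
theorem Q_orbit [Finite F] {j k : ℕ} (h : ¬ (j % 3 = 0 ∧ k % 3 = 0)) :
    ∃ q ∈ gQ ω, ∃ n j' k', q * gD ω * q⁻¹ = nf ω n j' k' ∧ j' % 3 = j % 3 ∧ k' % 3 = k % 3 := by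
  have him : ∀ k, imD ω k = nf ω k 2 k := fun k => by rw [imD, nf, sq]
  have hj := Nat.mod_lt j (show 3 > 0 by norm_num)
  have hk := Nat.mod_lt k (show 3 > 0 by norm_num)
  interval_cases hj' : j % 3
  · interval_cases hk' : k % 3
    · exact absurd ⟨rfl, rfl⟩ h
    · exact ⟨1, one_mem _, 0, 0, 1, by simp [nf_gD], by norm_num, by norm_num⟩
    · exact ⟨gT, gT_mem_Q ω, 0, 0, 2, by rw [← nf_gD ω, gT_conj_nf], by norm_num, by norm_num⟩
  · refine ⟨gT * gPhi ω (2 * k % 3), mul_mem (gT_mem_Q ω) (gPhi_mem_Q ω _ (by omega)), 2 * k % 3, 2 * 2, 2 * (2 * k % 3), ?_,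
      show (2 * 2) % 3 = 1 by norm_num, show 2 * (2 * k % 3) % 3 = k % 3 by omega⟩
    rw [show gT * gPhi ω (2 * k % 3) * gD ω * (gT * gPhi ω (2 * k % 3))⁻¹ =
      gT * (gPhi ω (2 * k % 3) * gD ω * (gPhi ω (2 * k % 3))⁻¹) * gT⁻¹ by group,
      gPhi_mul_gD, mul_inv_cancel_right, him, gT_conj_nf]
  · refine ⟨gPhi ω (k % 3), gPhi_mem_Q ω _ (Nat.mod_lt _ (by norm_num)), k % 3, 2, k % 3, ?_, show 2 % 3 = 2 from rfl,
      Nat.mod_mod k 3⟩
    rw [gPhi_mul_gD, mul_inv_cancel_right, him]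

/-- two-elements of the normalizer commuting with the parity are in `Q` up to scalars -/
theorem scalar_Q [Fintype F] {b : G3} (hN : b ∈ Subgroup.normalizer (gR ω : Set G3)) (hT : Commute b gT)
    (hQ : ∀ q ∈ gQ ω, b * q * b⁻¹ ∈ gQ ω) {n : ℕ} (hb : b ^ 2 ^ n = 1) :
    ∃ q ∈ gQ ω, ∃ c : F, (b : M3) = c • (q : M3) := by
  obtain ⟨i, j, k, hx⟩ := exists_nf ω (((Subgroup.mem_normalizer_iff.1 hN) (gD ω)).1 (gD_mem ω))
  have hDi : gT * gD ω * gT⁻¹ = (gD ω)⁻¹ := by rw [gT_mul_gD, mul_inv_cancel_right, gD_inv, sq]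
  have hinv : ∀ g : G3, Commute g gT → gT * (g * gD ω * g⁻¹) * gT⁻¹ = (g * gD ω * g⁻¹)⁻¹ := fun g hg => by
    calc gT * (g * gD ω * g⁻¹) * gT⁻¹ = gT * g * gD ω * (gT * g)⁻¹ := by group
      _ = g * gT * gD ω * (g * gT)⁻¹ := by rw [hg.eq]
      _ = g * (gT * gD ω * gT⁻¹) * g⁻¹ := by group
      _ = _ := by rw [hDi]; group
  have hnc : ¬ (j % 3 = 0 ∧ k % 3 = 0) := fun h => by
    have h1 : gD ω ∈ Z3 := by
      have h2 := (nf_central ω (i := i)).2 h
      rw [← hx] at h2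
      have h3 := (inferInstance : (Z3).Normal).conj_mem _ h2 b⁻¹
      rwa [show b⁻¹ * (b * gD ω * b⁻¹) * b⁻¹⁻¹ = gD ω by group] at h3
    have := (nf_central ω).1 ((nf_gD ω).symm ▸ h1 : nf ω 0 0 1 ∈ Z3)
    omega
  obtain ⟨q, hq, m, j', k', hq', hj', hk'⟩ := Q_orbit ω hnc
  have hqT := Q_commute_gT ω hq
  have heq : b * gD ω * b⁻¹ = q * gD ω * q⁻¹ := by
    refine eq_of_inverted ω (hx ▸ nf_mem ω _ _ _) (hq' ▸ nf_mem ω _ _ _) (hinv b hT) (hinv q hqT) ?_
    rw [hx, hq', nf_inv, nf_mul, nf_central]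
    omega
  obtain ⟨c, hc⟩ : ∃ c, c = q⁻¹ * b := ⟨_, rfl⟩
  have hcD : Commute c (gD ω) := by
    refine mul_inv_eq_iff_eq_mul.1 ?_
    rw [hc, show q⁻¹ * b * gD ω * (q⁻¹ * b)⁻¹ = q⁻¹ * (b * gD ω * b⁻¹) * q by group, heq]
    group
  have hcT : Commute c gT := hc ▸ hqT.inv_left.mul_left hT
  have hcN : c ∈ Subgroup.normalizer (gR ω : Set G3) := hc ▸ mul_mem (inv_mem (Q_le_normalizer ω hq)) hN
  have hcQ : ∀ r ∈ gQ ω, c * r * c⁻¹ ∈ gQ ω := fun r hr => by
    rw [hc, show q⁻¹ * b * r * (q⁻¹ * b)⁻¹ = q⁻¹ * (b * r * b⁻¹) * q by group]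
    exact mul_mem (mul_mem (inv_mem hq) (hQ r hr)) hq
  have hpow : ∀ N : ℕ, ∃ r ∈ gQ ω, b ^ N = r * c ^ N := fun N => by
    induction N with
    | zero => exact ⟨1, one_mem _, by simp⟩
    | succ N ih =>
      obtain ⟨r, hr, e⟩ := ih
      refine ⟨q * (c * r * c⁻¹), mul_mem hq (hcQ r hr), ?_⟩
      rw [pow_succ', e, show b = q * c by rw [hc, mul_inv_cancel_left], pow_succ' c]
      group
  obtain ⟨r, hr, e⟩ := hpow (2 ^ n)
  rw [hb] at e
  have hcn : c ^ 2 ^ n = r⁻¹ := (inv_eq_of_mul_eq_one_right e.symm).symm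
  have hr1 : r = 1 := by
    refine Q_eq_one_of_commute ω hr ?_
    have := (hcD.pow_left (2 ^ n)).inv_left
    rwa [hcn, inv_inv] at this
  rw [hr1, inv_one] at hcn
  -- the shape
  have hdiag : (c : M3) = Matrix.diagonal fun i => (c : M3) i i := by
    ext i l
    by_cases hil : i = l
    · subst hil; rw [Matrix.diagonal_apply_eq]
    · rw [Matrix.diagonal_apply_ne _ hil]
      have h := congrArg (fun g : G3 => (g : M3) i l) hcD.eq
      simp only [Units.val_mul, val_gD, dm, Matrix.mul_diagonal, Matrix.diagonal_mul] at h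
      have hd : ![1, ω.μ, ω.μ * ω.μ] i ≠ ![1, ω.μ, ω.μ * ω.μ] l := by
        fin_cases i <;> fin_cases l <;> simp at hil ⊢
        exacts [Ne.symm ω.ne_one, Ne.symm ω.sq_ne_one, ω.ne_one, ω.ne_sq, ω.sq_ne_one, Ne.symm ω.ne_sq]
      exact (mul_eq_zero.1 (show (![1, ω.μ, ω.μ * ω.μ] l - ![1, ω.μ, ω.μ * ω.μ] i) * (c : M3) i l = 0 by
        linear_combination h)).resolve_left (sub_ne_zero.2 (Ne.symm hd))
  obtain ⟨d, hd⟩ : ∃ d : Fin 3 → F, d = fun i => (c : M3) i i := ⟨_, rfl⟩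
  rw [← hd] at hdiag
  have hd3 := diag_cube ω hdiag hcN
  have h12 : d 1 = d 2 := by
    have h := congrArg (fun g : G3 => (g : M3) 1 2) hcT.eq
    simp only [Units.val_mul, hdiag, val_gT, Matrix.mul_diagonal, Matrix.diagonal_mul] at h
    simp [tm] at h
    exact h
  have hN1 : ∀ i, d i ^ 2 ^ n = 1 := fun i => by
    have h := congrArg (fun g : G3 => (g : M3) i i) hcn
    simp only [Units.val_pow_eq_pow_val, hdiag, Matrix.diagonal_pow, Matrix.diagonal_apply_eq, Units.val_one,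
      Matrix.one_apply_eq, Pi.pow_apply] at h
    exact h
  have h01 : d 1 = d 0 := by
    have hd0 : d 0 ≠ 0 := fun h0 => by
      have := hN1 0
      rw [h0, zero_pow (by positivity)] at this
      exact zero_ne_one this
    have h1 : (d 1 / d 0) ^ 3 = 1 := by rw [div_pow, hd3, div_self (pow_ne_zero _ hd0)]
    have h2 : (d 1 / d 0) ^ 2 ^ n = 1 := by rw [div_pow, hN1, hN1, div_one]
    have h3 := (pow_gcd_eq_one (a := d 1 / d 0) (m := 3) (n := 2 ^ n)).2 ⟨h1, h2⟩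
    rw [Nat.Coprime.gcd_eq_one (Nat.Coprime.pow_right n (by norm_num)), pow_one] at h3
    exact (div_eq_one_iff_eq hd0).1 h3
  refine ⟨q, hq, d 0, ?_⟩
  have hcs : (c : M3) = d 0 • 1 := by
    rw [hdiag, Matrix.smul_one_eq_diagonal]
    congr 1
    funext i
    fin_cases i
    · rfl
    · exact h01
    · exact h12.symm.trans h01
  rw [show b = q * c by rw [hc, mul_inv_cancel_left], Units.val_mul, hcs, Matrix.mul_smul, Matrix.mul_one]

end CfsgLib.Perm.Trans.ThreeDim.Nine
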