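import Cfsg.Agent.Lib.Perm.Trans.ThreeDim.Nine.Five.Max
import Cfsg.Agent.Lib.Perm.Trans.ThreeDim.Nine.Two.Max

/-!
# The clause of class six for `SU₉`
-/

set_option autoImplicit false
set_option linter.all false

namespace CfsgLib.Perm.Trans.ThreeDim.Nine

open Matrix Cfsg Cfsg.Geo

variable {F : Type*} [Field F] [Fintype F]

/-- class six is maximal in `SU₉(q)` -/
theorem su9_symplectic_maximal (q : ℕ) (hF : Fintype.card F = q ^ 2) :
    ∀ (p : ℕ) (R : Subgroup (Matrix.GeneralLinearGroup (Fin 9) F)), p.Prime → q = p → p % 3 = 2 →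
      IsSymplecticTypeGroup 3 R → ActsAbsolutelyIrreducibly (matrixSet R) →
      R ≤ similarityGroup (hermForm 9 F q) → Nat.card R = 243 → Nat.card (Subgroup.center R) = 3 →
      IsMaximalIn (GU 9 F q ⊓ specialLinear (Fin 9) F)
        (subgroupNormalizer R ⊓ (GU 9 F q ⊓ specialLinear (Fin 9) F)) := by
  intro p R hp hqp hp3 hsymp habs hsim h243 hZ
  subst hqp
  haveI : Fact q.Prime := ⟨hp⟩
  haveI : CharP F q := by
    obtain ⟨r, hr⟩ := CharP.exists F
    haveI := hr
    obtain ⟨n, hrp, hn⟩ := FiniteField.card F r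
    rw [hF] at hn
    have : r ∣ q ^ 2 := hn ▸ dvd_pow_self r n.ne_zero
    rwa [(Nat.prime_dvd_prime_iff_eq hrp hp).1 (hrp.dvd_of_dvd_pow this)] at hr
  rcases (show q = 2 ∨ q = 5 ∨ 11 ≤ q by
      by_contra h
      push Not at h
      have h2 := hp.two_le
      obtain ⟨ha, hb, hc⟩ := h
      interval_cases q <;> first | omega | norm_num at hp) with rfl | rfl | h11
  · exact su9_symplectic_maximal_two hF hsymp habs hsim h243 hZ
  · exact su9_symplectic_maximal_five hF hsymp habs hsim h243 hZ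
  · exact su9_symplectic_maximal_large hF hp3 h11 hsymp habs hsim h243 hZ

end CfsgLib.Perm.Trans.ThreeDim.Nine
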