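import Cfsg.Agent.Lib.Perm.Trans.ThreeDim.HeisSL

/-!
# Three-dimensional facts used for the tensor square of `3^{1+2}`
-/

set_option autoImplicit false
set_option linter.all false

namespace CfsgLib.Perm.Trans.ThreeDim.Nine

open scoped Matrix
open Matrix CfsgLib.Perm.Trans.ThreeDim.Heis

variable {F : Type*} [Field F] (ω : Root F)

local notation "M3" => Matrix (Fin 3) (Fin 3) F
local notation "G3" => GL (Fin 3) F
local notation "Z3" => Subgroup.center (GL (Fin 3) F)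

/-! ### Normal forms -/

/-- the normal form -/
def nf (i j k : ℕ) : G3 := gZ ω ^ i * (gS ^ j * gD ω ^ k)

theorem zcomm (n : ℕ) (w : G3) : w * gZ ω ^ n = gZ ω ^ n * w :=
  (((commute_gZ ω w).pow_left n).eq).symm

theorem nf_mul (i j k i' j' k' : ℕ) :
    nf ω i j k * nf ω i' j' k' = nf ω (i + i' + k * j') (j + j') (k + k') := by
  simp only [nf]
  calc gZ ω ^ i * (gS ^ j * gD ω ^ k) * (gZ ω ^ i' * (gS ^ j' * gD ω ^ k'))
      = gZ ω ^ i * ((gS ^ j * gD ω ^ k) * gZ ω ^ i') * (gS ^ j' * gD ω ^ k') := by group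
    _ = gZ ω ^ i * gZ ω ^ i' * (gS ^ j * (gD ω ^ k * gS ^ j')) * gD ω ^ k' := by rw [zcomm]; group
    _ = gZ ω ^ i * gZ ω ^ i' * ((gS ^ j * gZ ω ^ (k * j')) * (gS ^ j' * gD ω ^ k)) * gD ω ^ k' := by
      rw [pow_swap]; group
    _ = gZ ω ^ (i + i' + k * j') * (gS ^ (j + j') * gD ω ^ (k + k')) := by
      rw [zcomm ω (k * j') (gS ^ j), pow_add, pow_add, pow_add, pow_add]; group

theorem nf_mod {i j k i' j' k' : ℕ} (hi : i % 3 = i' % 3) (hj : j % 3 = j' % 3) (hk : k % 3 = k' % 3) :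
    nf ω i j k = nf ω i' j' k' := by
  rw [nf, nf, pow_eq_pow_mod i (gZ_pow_three ω), pow_eq_pow_mod j gS_pow_three,
    pow_eq_pow_mod k (gD_pow_three ω), hi, hj, hk, ← pow_eq_pow_mod i' (gZ_pow_three ω),
    ← pow_eq_pow_mod j' gS_pow_three, ← pow_eq_pow_mod k' (gD_pow_three ω)]

theorem nf_zero : nf ω 0 0 0 = 1 := by simp [nf]

theorem nf_gD : nf ω 0 0 1 = gD ω := by simp [nf]

theorem nf_gS : nf ω 0 1 0 = gS := by simp [nf]

theorem nf_gZ (n : ℕ) : nf ω n 0 0 = gZ ω ^ n := by simp [nf]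

theorem nf_inv (i j k : ℕ) : (nf ω i j k)⁻¹ = nf ω (2 * i + k * j) (2 * j) (2 * k) := by
  refine inv_eq_of_mul_eq_one_right ?_
  rw [nf_mul, ← nf_zero ω]
  refine nf_mod ω ?_ (by omega) (by omega)
  rw [show i + (2 * i + k * j) + k * (2 * j) = 3 * (i + k * j) by ring, Nat.mul_mod_right]

theorem exists_nf {x : G3} (hx : x ∈ gR ω) [Finite F] : ∃ i j k, x = nf ω i j k := by
  haveI := Fintype.ofFinite F
  exact exists_form ω hx

theorem nf_mem (i j k : ℕ) : nf ω i j k ∈ gR ω :=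
  mul_mem (pow_mem (gZ_mem ω) _) (mul_mem (pow_mem (gS_mem ω) _) (pow_mem (gD_mem ω) _))

theorem gZ_pow_eq_one {a : ℕ} (h : gZ ω ^ a = 1) : a % 3 = 0 := by
  have h' := congrArg (fun g : G3 => (g : M3) 0 0) h
  simp only [val_gZ_pow, Units.val_one, Matrix.smul_apply, Matrix.one_apply_eq, smul_eq_mul, mul_one] at h'
  rw [pow_eq_pow_mod a (show ω.μ ^ 3 = 1 by rw [pow_succ, sq]; exact ω.cube)] at h'
  have := Nat.mod_lt a (show 3 > 0 by norm_num)
  interval_cases a % 3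
  · rfl
  · exact absurd ((pow_one _).symm.trans h') ω.ne_one
  · exact absurd ((sq ω.μ).symm.trans h') ω.sq_ne_one

theorem nf_conj_gD (i j k : ℕ) : nf ω i j k * gD ω * (nf ω i j k)⁻¹ = gZ ω ^ (2 * j) * gD ω := by
  rw [mul_inv_eq_iff_eq_mul, ← nf_gD ω, ← nf_gZ ω (2 * j), nf_mul, nf_mul, nf_mul]
  refine nf_mod ω ?_ (by omega) (by omega)
  rw [show 2 * j + 0 + 0 * 0 + i + (0 + 1) * j = i + 0 + k * 0 + 3 * j by ring]
  omega

theorem nf_conj_gS (i j k : ℕ) : nf ω i j k * gS * (nf ω i j k)⁻¹ = gZ ω ^ k * gS := by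
  rw [mul_inv_eq_iff_eq_mul, ← nf_gS ω, ← nf_gZ ω k, nf_mul, nf_mul, nf_mul]
  exact nf_mod ω (by simp [add_comm]) (by omega) (by omega)

theorem nf_central {i j k : ℕ} : nf ω i j k ∈ Z3 ↔ j % 3 = 0 ∧ k % 3 = 0 := by
  constructor
  · intro h
    have h1 := nf_conj_gD ω i j k
    have h2 := nf_conj_gS ω i j k
    rw [← Subgroup.mem_center_iff.1 h (gD ω), mul_inv_cancel_right] at h1
    rw [← Subgroup.mem_center_iff.1 h gS, mul_inv_cancel_right] at h2
    have h1' := gZ_pow_eq_one ω (mul_eq_right.1 h1.symm)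
    have h2' := gZ_pow_eq_one ω (mul_eq_right.1 h2.symm)
    omega
  · rintro ⟨hj, hk⟩
    rw [nf_mod ω (i := i) (i' := i) rfl (j' := 0) (k' := 0) (by omega) (by omega), nf_gZ]
    exact pow_mem (gZ_mem_center ω) _

theorem nf_congr {i j k i' j' k' : ℕ} (h : (nf ω i j k)⁻¹ * nf ω i' j' k' ∈ Z3) :
    j % 3 = j' % 3 ∧ k % 3 = k' % 3 := by
  rw [nf_inv, nf_mul, nf_central] at h
  omega

theorem gPhi0_conj_gD : gPhi ω 0 * gD ω * (gPhi ω 0)⁻¹ = gS ^ 2 := by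
  rw [gPhi_mul_gD, mul_inv_cancel_right, imD, pow_zero, one_mul, pow_zero, mul_one, sq]

theorem gPhi0_conj_gS : gPhi ω 0 * gS * (gPhi ω 0)⁻¹ = gD ω := by
  rw [show gPhi ω 0 * gS = gD ω * gPhi ω 0 by simpa [preD] using gPhi_mul_preD ω 0, mul_inv_cancel_right]

theorem gPhi0_conj_nf (i j k : ℕ) :
    gPhi ω 0 * nf ω i j k * (gPhi ω 0)⁻¹ = nf ω (i + j * (2 * k)) (2 * k) j := by
  have hz : gPhi ω 0 * gZ ω ^ i * (gPhi ω 0)⁻¹ = gZ ω ^ i := by rw [zcomm, mul_inv_cancel_right]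
  rw [show gPhi ω 0 * nf ω i j k * (gPhi ω 0)⁻¹ = (gPhi ω 0 * gZ ω ^ i * (gPhi ω 0)⁻¹) *
      ((gPhi ω 0 * gS * (gPhi ω 0)⁻¹) ^ j * (gPhi ω 0 * gD ω * (gPhi ω 0)⁻¹) ^ k) by
      rw [conj_pow, conj_pow, nf]; group,
    hz, gPhi0_conj_gS, gPhi0_conj_gD, ← pow_mul, pow_swap, nf, pow_add]
  simp only [mul_assoc]

/-- a subgroup invariant under the normalizer with a noncentral element of `⟨D, S⟩` contains it -/
theorem gR_le_of_noncentral [Finite F] {L : Subgroup G3}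
    (hD : ∀ x ∈ L, gD ω * x * (gD ω)⁻¹ ∈ L) (hS : ∀ x ∈ L, gS * x * gS⁻¹ ∈ L)
    (hP : ∀ x ∈ L, gPhi ω 0 * x * (gPhi ω 0)⁻¹ ∈ L)
    {c : G3} (hcR : c ∈ gR ω) (hcL : c ∈ L) (hc : c ∉ Z3) : gR ω ≤ L := by
  obtain ⟨i, j, k, rfl⟩ := exists_nf ω hcR
  rw [nf_central] at hc
  have hcomm : ∀ g x : G3, g * x * g⁻¹ ∈ L → x ∈ L → x * (g * x * g⁻¹)⁻¹ ∈ L :=
    fun g x h1 h2 => mul_mem h2 (inv_mem h1)
  have key : ∀ a, gZ ω ^ a ∈ L → a % 3 ≠ 0 → gZ ω ∈ L := fun a ha h0 => by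
    have h1 := pow_mem ha (a % 3)
    rw [← pow_mul, pow_eq_pow_mod _ (gZ_pow_three ω)] at h1
    have : a * (a % 3) % 3 = 1 := by
      have := Nat.mod_lt a (show 3 > 0 by norm_num)
      rw [Nat.mul_mod, Nat.mod_mod]
      interval_cases a % 3 <;> simp_all
    rwa [this, pow_one] at h1
  have hZ : gZ ω ∈ L := by
    by_cases hj : j % 3 = 0
    · have h := hcomm gS _ (hS _ hcL) hcL
      rw [show nf ω i j k * (gS * nf ω i j k * gS⁻¹)⁻¹ = nf ω i j k * gS * (nf ω i j k)⁻¹ * gS⁻¹ by group,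
        nf_conj_gS, mul_inv_cancel_right] at h
      exact key k h (fun e => hc ⟨hj, e⟩)
    · have h := hcomm (gD ω) _ (hD _ hcL) hcL
      rw [show nf ω i j k * (gD ω * nf ω i j k * (gD ω)⁻¹)⁻¹ =
          nf ω i j k * gD ω * (nf ω i j k)⁻¹ * (gD ω)⁻¹ by group,
        nf_conj_gD, mul_inv_cancel_right] at h
      exact key _ h (by omega)
  have hz : ∀ n, gZ ω ^ n ∈ L := fun n => pow_mem hZ n
  let m : ℕ → ℕ → Prop := fun a b => nf ω 0 a b ∈ L
  have hmod : ∀ a b a' b', a % 3 = a' % 3 → b % 3 = b' % 3 → m a b → m a' b' := fun a b a' b' ha hb h => by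
    show nf ω 0 a' b' ∈ L
    rwa [nf_mod ω (i := 0) (i' := 0) rfl ha.symm hb.symm]
  have hfree : ∀ n a b, nf ω n a b ∈ L → m a b := fun n a b h => by
    have := mul_mem (inv_mem (hz n)) h
    rw [nf, inv_mul_cancel_left] at this
    show nf ω 0 a b ∈ L
    rwa [nf, pow_zero, one_mul]
  have hadd : ∀ a b a' b', m a b → m a' b' → m (a + a') (b + b') := fun a b a' b' h h' =>
    hfree _ _ _ (nf_mul ω 0 a b 0 a' b' ▸ mul_mem h h')
  have hrot : ∀ a b, m a b → m (2 * b % 3) (a % 3) := fun a b h =>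
    hmod _ _ _ _ (by omega) (by omega) (hfree _ _ _ (gPhi0_conj_nf ω 0 a b ▸ hP _ h))
  have h0 : m (j % 3) (k % 3) := hmod _ _ _ _ (by omega) (by omega) (hfree _ _ _ hcL)
  have hboth : m 0 1 ∧ m 1 0 := by
    have hj := Nat.mod_lt j (show 3 > 0 by norm_num)
    have hk := Nat.mod_lt k (show 3 > 0 by norm_num)
    have r1 := hrot _ _ h0
    have r2 := hrot _ _ r1
    have r3 := hrot _ _ r2
    have s := hadd _ _ _ _ h0 r1
    have s1 := hrot _ _ s
    have s2 := hrot _ _ s1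
    have s3 := hrot _ _ s2
    have s4 := hrot _ _ s3
    interval_cases hj' : j % 3 <;> interval_cases hk' : k % 3 <;> simp at r1 r2 r3 s s1 s2 s3 s4 <;>
      first
        | exact absurd ⟨rfl, rfl⟩ hc
        | refine ⟨?_, ?_⟩ <;> assumption
  rw [gR, Subgroup.closure_le]
  rintro _ (rfl | rfl)
  · exact nf_gD ω ▸ hboth.1
  · exact nf_gS ω ▸ hboth.2

/-- `Φ` fixes no noncentral class -/
theorem central_of_gPhi_fixed [Finite F] {c : G3} (hc : c ∈ gR ω)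
    (h : c⁻¹ * (gPhi ω 0 * c * (gPhi ω 0)⁻¹) ∈ Z3) : c ∈ Z3 := by
  obtain ⟨i, j, k, rfl⟩ := exists_nf ω hc
  rw [gPhi0_conj_nf] at h
  obtain ⟨h1, h2⟩ := nf_congr ω h
  rw [nf_central]
  omega

/-! ### Parity -/

theorem gT_sq : (gT : G3) * gT = 1 := Units.ext (by
  rw [Units.val_mul, val_gT, Units.val_one]
  ext i j
  fin_cases i <;> fin_cases j <;> simp [tm, Matrix.mul_apply, Fin.sum_univ_three])

theorem gT_inv : (gT : G3)⁻¹ = gT := inv_eq_of_mul_eq_one_right gT_sq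

theorem gT_conj_nf (i j k : ℕ) : gT * nf ω i j k * gT⁻¹ = nf ω i (2 * j) (2 * k) := by
  have e1 : (gT : G3) * gS * gT⁻¹ = gS ^ 2 := by rw [gT_mul_gS, mul_inv_cancel_right, sq]
  have e2 : gT * gD ω * gT⁻¹ = gD ω ^ 2 := by rw [gT_mul_gD, mul_inv_cancel_right, sq]
  rw [nf, nf, pow_mul, pow_mul, ← e1, ← e2, conj_pow, conj_pow]
  rw [show (gT : G3) * (gZ ω ^ i * (gS ^ j * gD ω ^ k)) * gT⁻¹ =
      (gT * gZ ω ^ i * gT⁻¹) * (gT * gS ^ j * gT⁻¹ * (gT * gD ω ^ k * gT⁻¹)) by group,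
    zcomm, mul_inv_cancel_right]

/-- two inverted elements in one class are equal -/
theorem eq_of_inverted [Finite F] {x y : G3} (hx : x ∈ gR ω) (hy : y ∈ gR ω) (hxi : gT * x * gT⁻¹ = x⁻¹)
    (hyi : gT * y * gT⁻¹ = y⁻¹) (h : x⁻¹ * y ∈ Z3) : x = y := by
  obtain ⟨i, j, k, rfl⟩ := exists_nf ω hx
  obtain ⟨i', j', k', rfl⟩ := exists_nf ω hy
  obtain ⟨hj, hk⟩ := nf_congr ω h
  have hfix : ∀ a b c, gT * nf ω a b c * gT⁻¹ = (nf ω a b c)⁻¹ → a % 3 = (2 * a + c * b) % 3 := fun a b c e => by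
    rw [gT_conj_nf, nf_inv] at e
    have e' := mul_right_cancel e
    have e'' : gZ ω ^ (a + (3 - (2 * a + c * b) % 3)) = 1 := by
      rw [pow_add, e', ← pow_add, pow_eq_pow_mod _ (gZ_pow_three ω),
        show (2 * a + c * b + (3 - (2 * a + c * b) % 3)) % 3 = 0 by omega, pow_zero]
    have := gZ_pow_eq_one ω e''
    omega
  have h1 := hfix _ _ _ hxi
  have h2 := hfix _ _ _ hyi
  have h3 : k * j % 3 = k' * j' % 3 := by rw [Nat.mul_mod, hk, hj, ← Nat.mul_mod]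
  exact nf_mod ω (by omega) hj hk

/-! ### The idempotents -/

/-- the even projection -/
def em : M3 := !![1, 0, 0; 0, 2⁻¹, 2⁻¹; 0, 2⁻¹, 2⁻¹]

/-- the odd projection -/
def om : M3 := !![0, 0, 0; 0, 2⁻¹, -2⁻¹; 0, -2⁻¹, 2⁻¹]

theorem om_mul_om (h2 : (2 : F) ≠ 0) : (om : M3) * om = om := by
  ext i j
  fin_cases i <;> fin_cases j <;> simp [om, Matrix.mul_apply, Fin.sum_univ_three] <;> field_simp <;> ring

theorem em_eq (h2 : (2 : F) ≠ 0) : (em : M3) = 1 - om := by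
  ext i j
  fin_cases i <;> fin_cases j <;> simp [em, om] <;> field_simp <;> ring

theorem eo_eq (h2 : (2 : F) ≠ 0) (a b : F) : a • (em : M3) + b • om = a • 1 + (b - a) • om := by
  rw [em_eq h2, smul_sub, sub_smul]; abel

/-- matrices commuting with `Φ_0` and `Φ_1` -/
theorem eo_of_commute (h2 : (2 : F) ≠ 0) {M : M3} (h0 : M * phim ω 1 = phim ω 1 * M)
    (h1 : M * phim ω ω.μ = phim ω ω.μ * M) : M = M 0 0 • em + (M 1 1 - M 1 2) • om := by
  have hη := ω.η_ne_zero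
  have e : ∀ c : F, M * phim ω c = phim ω c * M → M * !![1, c * c, c * c; c, ω.μ, ω.μ * ω.μ; c, ω.μ * ω.μ, ω.μ] =
      !![1, c * c, c * c; c, ω.μ, ω.μ * ω.μ; c, ω.μ * ω.μ, ω.μ] * M := fun c h => by
    rw [phim, Matrix.mul_smul, Matrix.smul_mul] at h
    exact smul_right_injective M3 (inv_ne_zero hη) h
  have a := e _ h0
  have b := e _ h1
  have ht : M * tm = tm * M := by
    rw [← phim_sq ω (show (1 : F) * 1 * 1 = 1 by ring), ← mul_assoc, h0, mul_assoc, h0, mul_assoc]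
  have t01 := congrFun (congrFun ht 0) 1
  have t10 := congrFun (congrFun ht 1) 0
  have t11 := congrFun (congrFun ht 1) 1
  have t12 := congrFun (congrFun ht 1) 2
  have a00 := congrFun (congrFun a 0) 0
  have a01 := congrFun (congrFun a 0) 1
  have b00 := congrFun (congrFun b 0) 0
  simp [tm, Matrix.mul_apply, Fin.sum_univ_three] at t01 t10 t11 t12 a00 a01 b00
  have hμ := ω.eq
  have e10 : M 1 0 = M 0 1 := by
    have : (2 : F) * (M 1 0 - M 0 1) = 0 := by linear_combination -a00 + t10 + t01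
    exact sub_eq_zero.1 ((mul_eq_zero.1 this).resolve_left h2)
  have e01 : M 0 1 = 0 := by
    have : (2 : F) * (ω.μ - ω.μ * ω.μ) * M 0 1 = 0 := by grind
    exact (mul_eq_zero.1 this).resolve_left (mul_ne_zero h2 hη)
  have e00 : M 0 0 = M 1 1 + M 1 2 := by grind
  ext i j
  fin_cases i <;> fin_cases j <;> simp [em, om] <;> (try field_simp) <;> grind

theorem dm3 (c : F) : dm c = !![1, 0, 0; 0, c, 0; 0, 0, c * c] := by
  rw [dm]
  ext i j
  fin_cases i <;> fin_cases j <;> simp [Matrix.diagonal]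

/-- combinations of the projections normalizing `⟨D, S⟩` -/
theorem not_mem_eo [Fintype F] (h2 : (2 : F) ≠ 0) {g : G3} {a b : F} (hg : (g : M3) = a • em + b • om)
    (hab : a ≠ b) (hab' : a + b ≠ 0) : g ∉ Subgroup.normalizer (gR ω : Set G3) := by
  intro h
  have ha : a ≠ 0 := fun h0 => by
    have hdet : (g : M3).det ≠ 0 := (Matrix.GeneralLinearGroup.det g).ne_zero
    refine hdet (Matrix.det_eq_zero_of_row_eq_zero 0 fun l => ?_)
    rw [hg, h0]
    fin_cases l <;> simp [em, om]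
  obtain ⟨i, j, k, hijk⟩ := exists_nf ω (((Subgroup.mem_normalizer_iff.1 h) (gD ω)).1 (gD_mem ω))
  rw [mul_inv_eq_iff_eq_mul] at hijk
  have e := congrArg (fun w : G3 => (w : M3)) hijk
  simp only [nf, Units.val_mul, hg, val_gD, val_gZ_pow, Matrix.smul_mul, Matrix.one_mul] at e
  rw [Units.val_pow_eq_pow_val, val_gS, val_gD_pow] at e
  rw [pow_eq_pow_mod j (show (sm : M3) ^ 3 = 1 by
    rw [← val_gS, ← Units.val_pow_eq_pow_val, gS_pow_three, Units.val_one])] at e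
  have hj : j % 3 < 3 := Nat.mod_lt _ (by norm_num)
  have hμ := ω.ne_zero
  have hc : ∀ n : ℕ, ω.μ ^ n ≠ 0 := fun n => pow_ne_zero _ hμ
  have h00 := congrFun (congrFun e 0) 0
  have h11 := congrFun (congrFun e 1) 1
  have h12 := congrFun (congrFun e 1) 2
  have h22 := congrFun (congrFun e 2) 2
  have h10 := congrFun (congrFun e 1) 0
  have h20 := congrFun (congrFun e 2) 0
  generalize ω.μ ^ i = x at *
  generalize ω.μ ^ k = y at *
  have hμ1 := ω.ne_one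
  have hμ2 := ω.sq_ne_one
  have hμ3 := ω.ne_sq
  interval_cases j % 3 <;>
    simp [em, om, dm3, sm, sq, Matrix.mul_apply, Fin.sum_univ_three] at h00 h11 h12 h22 h10 h20 <;>
    grind [ω.eq, ω.cube]

/-- diagonal elements of the normalizer -/
theorem diag_cube [Fintype F] {g : G3} {d : Fin 3 → F} (hg : (g : M3) = Matrix.diagonal d)
    (h : g ∈ Subgroup.normalizer (gR ω : Set G3)) : d 1 ^ 3 = d 0 ^ 3 := by
  obtain ⟨i, j, k, hijk⟩ := exists_nf ω (((Subgroup.mem_normalizer_iff.1 h) gS).1 (gS_mem ω))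
  rw [mul_inv_eq_iff_eq_mul] at hijk
  have e := congrArg (fun w : G3 => (w : M3) 1 0) hijk
  simp only [nf, Units.val_mul, hg, val_gS, val_gZ_pow, Matrix.smul_mul, Matrix.one_mul] at e
  rw [Units.val_pow_eq_pow_val, val_gS, val_gD_pow,
    pow_eq_pow_mod j (show (sm : M3) ^ 3 = 1 by
      rw [← val_gS, ← Units.val_pow_eq_pow_val, gS_pow_three, Units.val_one])] at e
  have hx : (ω.μ ^ i) ^ 3 = 1 := by rw [pow_succ, sq]; exact ω.pow_cube i
  have hj : j % 3 < 3 := Nat.mod_lt _ (by norm_num)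
  have hd : d 1 ≠ 0 := fun h0 => by
    have hdet : (g : M3).det ≠ 0 := (Matrix.GeneralLinearGroup.det g).ne_zero
    rw [hg, Matrix.det_diagonal, Fin.prod_univ_three] at hdet
    simp [h0] at hdet
  generalize ω.μ ^ i = x at *
  interval_cases j % 3 <;> simp [dm3, sm, sq, Matrix.mul_apply, Fin.sum_univ_three, Matrix.vecMul_diagonal] at e
  · exact absurd e hd
  · rw [e, mul_pow, hx, one_mul]
  · exact absurd e hd

end CfsgLib.Perm.Trans.ThreeDim.Nine
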