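import Cfsg.Agent.Lib.Perm.Trans.ThreeDim.Nine.Normal

/-!
# A normal solvable subgroup with both factors makes the extraspecial group normal
-/

set_option autoImplicit false
set_option linter.all false

namespace CfsgLib.Perm.Trans.ThreeDim.Nine

open scoped Matrix
open Matrix CfsgLib.Perm.Trans.ThreeDim.Heis

variable {F : Type*} [Field F] [Fintype F] (ω : Root F)

local notation "M3" => Matrix (Fin 3) (Fin 3) F
local notation "G3" => GL (Fin 3) F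
local notation "M9" => Matrix I9 I9 F
local notation "G9" => GL I9 F
local notation "Z3" => Subgroup.center (GL (Fin 3) F)
local notation "Z9" => Subgroup.center (GL I9 F)

/-- a normal solvable subgroup containing both factors makes `R9` normal -/
theorem le_normalizer_of_solvable9 {H K : Subgroup G9} (hdet : ∀ g ∈ H, (g : M9).det = 1)
    (hPhi : r1 (gPhi ω 0) ∈ H) (hsw : (sw : G9) ∈ H) (hKH : K ≤ H) (hn : H ≤ Subgroup.normalizer (K : Set G9))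
    (hsol : Group.IsSolvable K) (hR : ∀ a ∈ gR ω, r1 a ∈ K ∧ l1 a ∈ K) :
    H ≤ Subgroup.normalizer (R9 ω : Set G9) := by
  classical
  have hnc : ¬ K ≤ Z9 := fun h => by
    have h1 := Subgroup.mem_center_iff.1 (h (hR _ (gD_mem ω)).1) (r1 gS)
    rw [← map_mul, ← map_mul] at h1
    have h2 := r1_injective h1
    rw [gD_mul_gS] at h2
    exact ω.ne_one (by
      have := congrArg (fun w : G3 => (w : M3) 1 0) h2
      simpa [Units.val_mul, val_gZ, val_gS, val_gD, sm, dm3, Matrix.mul_apply, Fin.sum_univ_three] using this.symm)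
  obtain ⟨A, hAH, hnA, hAc, hAnc⟩ : ∃ A : Subgroup G9, A ≤ H ∧ H ≤ Subgroup.normalizer (A : Set G9) ∧
      (∀ x ∈ A, ∀ y ∈ A, x * y * x⁻¹ * y⁻¹ ∈ Z9) ∧ ¬ A ≤ Z9 := by
    let D : ℕ → Subgroup G9 := fun k => (derivedSeries K k).map K.subtype
    have hex : ∃ k, D k ≤ Z9 := by
      obtain ⟨k, hk⟩ := hsol.solvable
      exact ⟨k, by simp only [D, hk, Subgroup.map_bot, bot_le]⟩
    obtain ⟨j, hj⟩ : ∃ j, Nat.find hex = j + 1 := Nat.exists_eq_succ_of_ne_zero fun e => hnc (by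
      have := Nat.find_spec hex
      rw [e] at this
      simpa [D, ← MonoidHom.range_eq_map] using this)
    refine ⟨D j, (Subgroup.map_subtype_le _).trans hKH,
      hn.trans (Coprime.SquareFixed.normalizer_le_normalizer_map K (derivedSeries K j)),
      fun x hx y hy => ?_, Nat.find_min hex (by omega)⟩
    have hsp := Nat.find_spec hex
    rw [hj] at hsp
    obtain ⟨x', hx', rfl⟩ := hx
    obtain ⟨y', hy', rfl⟩ := hy
    refine hsp ⟨x' * y' * x'⁻¹ * y'⁻¹, ?_, rfl⟩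
    rw [← commutatorElement_def, derivedSeries_succ]
    exact Subgroup.commutator_mem_commutator hx' hy'
  have hcj : ∀ g ∈ H, ∀ x ∈ A, g * x * g⁻¹ ∈ A := fun g hg x hx =>
    (Subgroup.mem_normalizer_iff.1 (hnA hg) x).1 hx
  have hrH : ∀ a ∈ gR ω, r1 a ∈ H := fun a ha => hKH (hR a ha).1
  have hlH : ∀ a ∈ gR ω, l1 a ∈ H := fun a ha => hKH (hR a ha).2
  have hcen : ∀ g : G9, (∀ x ∈ A, Commute g x) → g ∈ Z9 := fun g hg =>
    center_of_commute_all ω (fun a ha => hcj _ (hrH a ha)) (fun a ha => hcj _ (hlH a ha)) (hcj _ hPhi) (hcj _ hsw) hAnc hg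
  -- central commutators have order dividing nine
  have hz9 : ∀ z ∈ Z9, z ∈ H → z ^ 9 = 1 := fun z hz hzH => Units.ext (by
    have h := hdet z hzH
    rw [scalar_of_mem_center9 ω hz, Matrix.det_smul, Matrix.det_one, mul_one, Fintype.card_prod, Fintype.card_fin] at h
    rw [Units.val_pow_eq_pow_val, scalar_of_mem_center9 ω hz, smul_pow, one_pow, Units.val_one, show (9 : ℕ) = 3 * 3 from rfl,
      h, one_smul])
  have hconj : ∀ x ∈ A, ∀ y ∈ A, ∀ n : ℕ, y * x ^ n * y⁻¹ = (y * x * y⁻¹ * x⁻¹) ^ n * x ^ n := by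
    intro x hx y hy n
    have hz := hAc y hy x hx
    set z := y * x * y⁻¹ * x⁻¹ with hzd
    have hyx : y * x * y⁻¹ = z * x := by rw [hzd]; group
    have hcz : Commute z x := (Subgroup.mem_center_iff.1 hz x).symm
    rw [← conj_pow, hyx, hcz.mul_pow]
  have h9 : ∀ x ∈ A, x ^ 9 ∈ Z9 := fun x hx => hcen _ fun y hy => by
    have h := hconj x hx y hy 9
    rw [hz9 _ (hAc y hy x hx) (mul_mem (mul_mem (mul_mem (hAH hy) (hAH hx)) (inv_mem (hAH hy))) (inv_mem (hAH hx))),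
      one_mul] at h
    exact (mul_inv_eq_iff_eq_mul.1 h).symm
  -- elements with central cube
  let π := QuotientGroup.mk' Z9
  have hπ : ∀ g : G9, π g = 1 ↔ g ∈ Z9 := fun g => QuotientGroup.eq_one_iff g
  have hcommπ : ∀ x ∈ A, ∀ y ∈ A, π x * π y = π y * π x := fun x hx y hy => by
    have := (hπ _).2 (hAc x hx y hy)
    rw [map_mul, map_mul, map_mul, map_inv, map_inv, mul_inv_eq_one, mul_inv_eq_iff_eq_mul] at this
    exact this
  obtain ⟨Ā, hĀ⟩ : ∃ Ā : Subgroup (G9 ⧸ Z9), ∀ u, u ∈ Ā ↔ u ∈ A.map π ∧ u ^ 3 = 1 := by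
    refine ⟨{ carrier := {u | u ∈ A.map π ∧ u ^ 3 = 1}
              mul_mem' := ?_
              one_mem' := ⟨one_mem _, one_pow 3⟩
              inv_mem' := fun {u} hu => ⟨inv_mem hu.1, by rw [inv_pow, hu.2, inv_one]⟩ }, fun u => Iff.rfl⟩
    rintro u v ⟨hu, hu3⟩ ⟨hv, hv3⟩
    refine ⟨mul_mem hu hv, ?_⟩
    obtain ⟨x, hx, rfl⟩ := hu
    obtain ⟨y, hy, rfl⟩ := hv
    have hxy : Commute (π x) (π y) := hcommπ x hx y hy
    rw [hxy.mul_pow, hu3, hv3, one_mul]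
  have hĀc : ∀ u ∈ Ā, ∀ v ∈ Ā, u * v = v * u := fun u hu v hv => by
    obtain ⟨x, hx, rfl⟩ := ((hĀ u).1 hu).1
    obtain ⟨y, hy, rfl⟩ := ((hĀ v).1 hv).1
    exact hcommπ x hx y hy
  have hĀ3 : ∀ u ∈ Ā, u ^ 3 = 1 := fun u hu => ((hĀ u).1 hu).2
  have hnĀ : ∀ g ∈ H, ∀ u ∈ Ā, π g * u * (π g)⁻¹ ∈ Ā := fun g hg u hu => by
    obtain ⟨x, hx, rfl⟩ := ((hĀ u).1 hu).1
    refine (hĀ _).2 ⟨⟨_, hcj g hg x hx, by simp [map_mul]⟩, ?_⟩
    rw [conj_pow, hĀ3 _ hu, mul_one, mul_inv_cancel]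
  obtain ⟨u₀, hu₀, hu₀1⟩ : ∃ u ∈ Ā, u ≠ 1 := by
    obtain ⟨a, ha, hac⟩ := SetLike.not_le_iff_exists.1 hAnc
    by_cases h3 : a ^ 3 ∈ Z9
    · exact ⟨π a, (hĀ _).2 ⟨⟨a, ha, rfl⟩, by rw [← map_pow, hπ]; exact h3⟩, fun e => hac ((hπ a).1 e)⟩
    · exact ⟨π (a ^ 3), (hĀ _).2 ⟨⟨_, pow_mem ha 3, rfl⟩, by rw [← map_pow, ← pow_mul, hπ]; exact h9 a ha⟩,
        fun e => h3 ((hπ _).1 e)⟩
  -- a fixed point
  obtain ⟨d1, hd1⟩ : ∃ x, x = π (r1 (gD ω)) := ⟨_, rfl⟩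
  obtain ⟨s1, hs1⟩ : ∃ x, x = π (r1 gS) := ⟨_, rfl⟩
  obtain ⟨d2, hd2⟩ : ∃ x, x = π (l1 (gD ω)) := ⟨_, rfl⟩
  obtain ⟨s2, hs2⟩ : ∃ x, x = π (l1 gS) := ⟨_, rfl⟩
  have hp3 : ∀ f : G3 →* G9, ∀ a : G3, a ^ 3 = 1 → π (f a) ^ 3 = 1 := fun f a h => by
    rw [← map_pow, ← map_pow, h, map_one, map_one]
  have hc1 : Commute d1 s1 := by
    rw [hd1, hs1]
    show π _ * π _ = π _ * π _
    rw [← map_mul, ← map_mul, gD_mul_gS, map_mul, map_mul, (hπ _).2 (r1_center ω (gZ_mem_center ω)), one_mul, map_mul, map_mul]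
  have hc2 : Commute d2 s2 := by
    rw [hd2, hs2]
    show π _ * π _ = π _ * π _
    rw [← map_mul, ← map_mul, gD_mul_gS, map_mul, map_mul,
      (hπ _).2 (l1_eq_r1_center ω (gZ_mem_center ω) ▸ r1_center ω (gZ_mem_center ω)), one_mul, map_mul, map_mul]
  have hlr : ∀ a b : G3, Commute (π (l1 a)) (π (r1 b)) := fun a b => (l1_commute_r1 a b).map π
  have hnext : ∀ (T : Finset (G9 ⧸ Z9)) (d : G9 ⧸ Z9), (∀ t ∈ T, Commute d t) → d ^ 3 = 1 →
      (∀ u ∈ Ā, d * u * d⁻¹ ∈ Ā) → (∃ y ∈ Ā, y ≠ 1 ∧ ∀ t ∈ T, Commute t y) →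
      ∃ y ∈ Ā, y ≠ 1 ∧ ∀ t ∈ insert d T, Commute t y := by
    rintro T d hdT hd3 hdn ⟨y, hy, hy1, hyT⟩
    obtain ⟨v, hv, hv1, hvd⟩ := exists_fixed (A := Ā ⊓ Subgroup.centralizer (T : Set (G9 ⧸ Z9)))
      (fun u hu v hv => hĀc u hu.1 v hv.1) (fun u hu => hĀ3 u hu.1) hd3
      (fun u hu => ⟨hdn u hu.1, fun t ht => by
        have h1 : Commute t u := hu.2 t ht
        exact (((hdT t ht).symm).mul_right h1).mul_right ((hdT t ht).symm.inv_right)⟩)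
      (x := y) ⟨hy, fun t ht => hyT t ht⟩ hy1
    refine ⟨v, hv.1, hv1, fun t ht => ?_⟩
    rcases Finset.mem_insert.1 ht with rfl | ht
    · exact hvd
    · exact hv.2 t ht
  have h1 := hnext ∅ d1 (by simp) (hd1 ▸ hp3 r1 _ (gD_pow_three ω))
    (hd1 ▸ hnĀ _ (hrH _ (gD_mem ω))) ⟨u₀, hu₀, hu₀1, by simp⟩
  have h2 := hnext _ s1 (by simp only [Finset.mem_insert, Finset.notMem_empty, or_false, forall_eq]; exact hc1.symm)
    (hs1 ▸ hp3 r1 _ gS_pow_three) (hs1 ▸ hnĀ _ (hrH _ (gS_mem ω))) h1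
  have h3 := hnext _ d2 (by
      simp only [Finset.mem_insert, Finset.notMem_empty, or_false, forall_eq_or_imp, forall_eq]
      exact ⟨hd2 ▸ hs1 ▸ hlr _ _, hd2 ▸ hd1 ▸ hlr _ _⟩)
    (hd2 ▸ hp3 l1 _ (gD_pow_three ω)) (hd2 ▸ hnĀ _ (hlH _ (gD_mem ω))) h2
  obtain ⟨v, hv, hv1, hvc⟩ := hnext _ s2 (by
      simp only [Finset.mem_insert, Finset.notMem_empty, or_false, forall_eq_or_imp, forall_eq]
      exact ⟨hc2.symm, hs2 ▸ hs1 ▸ hlr _ _, hs2 ▸ hd1 ▸ hlr _ _⟩)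
    (hs2 ▸ hp3 l1 _ gS_pow_three) (hs2 ▸ hnĀ _ (hlH _ (gS_mem ω))) h3
  simp only [Finset.mem_insert, Finset.notMem_empty, or_false, forall_eq_or_imp, forall_eq] at hvc
  obtain ⟨hv_s2, hv_d2, hv_s1, hv_d1⟩ := hvc
  have hmono : ∀ g : G9, Commute d1 (π g) → Commute s1 (π g) → Commute d2 (π g) → Commute s2 (π g) →
      ∃ a ∈ gR ω, ∃ b ∈ gR ω, (l1 a * r1 b)⁻¹ * g ∈ Z9 := by
    intro g g1 g2 g3 g4
    have hgen : ∀ f : G3 →* G9, Commute (π g) (π (f (gD ω))) → Commute (π g) (π (f gS)) →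
        ∀ a ∈ gR ω, g * f a * g⁻¹ * (f a)⁻¹ ∈ Z9 := by
      intro f e1 e2 a ha
      have h : Commute (π g) (π (f a)) := by
        induction ha using Subgroup.closure_induction with
        | mem x hx => rcases hx with rfl | rfl <;> assumption
        | one => rw [map_one, map_one]; exact Commute.one_right _
        | mul x y _ _ hx hy => rw [map_mul, map_mul]; exact hx.mul_right hy
        | inv x _ hx => rw [map_inv, map_inv]; exact hx.inv_right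
      rw [← hπ, map_mul, map_mul, map_mul, map_inv, map_inv, h.eq, mul_inv_cancel_right, mul_inv_cancel]
    exact exists_monomial9 ω (hgen l1 (hd2 ▸ g3.symm) (hs2 ▸ g4.symm)) (hgen r1 (hd1 ▸ g1.symm) (hs1 ▸ g2.symm))
  obtain ⟨v', hv', rfl⟩ := ((hĀ v).1 hv).1
  obtain ⟨a, ha, b, hb, hab⟩ := hmono v' hv_d1 hv_s1 hv_d2 hv_s2
  have hconjL : ∀ g ∈ H, ∀ x ∈ Ā.comap π, g * x * g⁻¹ ∈ Ā.comap π := fun g hg x hx => by
    show π (g * x * g⁻¹) ∈ Ā
    rw [map_mul, map_mul, map_inv]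
    exact hnĀ g hg _ hx
  have habeq : π (l1 a * r1 b) = π v' := by
    have := (hπ _).2 hab
    rw [map_mul, map_inv, inv_mul_eq_one] at this
    exact this
  have hall := R9_le_of_monomial ω (L := Ā.comap π)
    (fun z hz => by show π z ∈ Ā; rw [(hπ z).2 hz]; exact one_mem _)
    (fun c hc => hconjL _ (hrH c hc)) (hconjL _ hPhi) (hconjL _ hsw) ha hb
    (show π (l1 a * r1 b) ∈ Ā from habeq.symm ▸ hv) (by
      by_contra hcon
      push Not at hcon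
      refine hv1 ?_
      rw [← habeq, hπ]
      exact mul_mem (l1_eq_r1_center ω hcon.1 ▸ r1_center ω hcon.1) (r1_center ω hcon.2))
  -- the image of a generator
  have hgenR : ∀ g ∈ H, ∀ f : G3 →* G9, (∀ c ∈ gR ω, f c ∈ H ∧ π (f c) ∈ Ā) → ∀ c ∈ gR ω, g * f c * g⁻¹ ∈ R9 ω := by
    intro g hg f hf c hc
    obtain ⟨w, hw⟩ : ∃ w, w = g * f c * g⁻¹ := ⟨_, rfl⟩
    have hwA : π w ∈ Ā := by rw [hw, map_mul, map_mul, map_inv]; exact hnĀ g hg _ (hf c hc).2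
    obtain ⟨a, ha, b, hb, hab⟩ := hmono w (hd1 ▸ hĀc _ (hall _ (gD_mem ω)).1 _ hwA)
      (hs1 ▸ hĀc _ (hall _ (gS_mem ω)).1 _ hwA) (hd2 ▸ hĀc _ (hall _ (gD_mem ω)).2 _ hwA)
      (hs2 ▸ hĀc _ (hall _ (gS_mem ω)).2 _ hwA)
    obtain ⟨m, hm⟩ : ∃ m, m = l1 a * r1 b := ⟨_, rfl⟩
    rw [← hm] at hab
    have hm3 : m ^ 3 = 1 := by
      rw [hm, (l1_commute_r1 a b).mul_pow, ← map_pow, ← map_pow, gR_cube ω ha, gR_cube ω hb, map_one, map_one, one_mul]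
    have hw3 : w ^ 3 = 1 := by rw [hw, conj_pow, ← map_pow, gR_cube ω hc, map_one, mul_one, mul_inv_cancel]
    have hc3 : (m⁻¹ * w) ^ 3 = 1 := by
      have hcm : Commute (m⁻¹ * w) m := (Subgroup.mem_center_iff.1 hab m).symm
      have e := hcm.symm.mul_pow 3
      rw [mul_inv_cancel_left, hw3, hm3, one_mul] at e
      exact e.symm
    obtain ⟨k, hk⟩ := cube_center_mem ω hab hc3
    rw [← hw, ← mul_inv_cancel_left m w, hk]
    exact mul_mem (hm ▸ mul_mem (l1_mem_R9 ω ha) (r1_mem_R9 ω hb)) (r1_mem_R9 ω (pow_mem (gZ_mem ω) k))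
  intro g hg
  have hmap : (R9 ω).map (MulAut.conj g).toMonoidHom ≤ R9 ω := by
    rw [R9, Subgroup.map_sup, sup_le_iff]
    refine ⟨?_, ?_⟩ <;> rintro _ ⟨_, ⟨c, hc, rfl⟩, rfl⟩
    · exact hgenR g hg l1 (fun c hc => ⟨hlH c hc, (hall c hc).2⟩) c hc
    · exact hgenR g hg r1 (fun c hc => ⟨hrH c hc, (hall c hc).1⟩) c hc
  rw [Subgroup.mem_normalizer_iff_map_conj_eq]
  exact Subgroup.eq_of_le_of_card_ge hmap (Subgroup.card_map_of_injective (MulAut.conj g).injective).ge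

end CfsgLib.Perm.Trans.ThreeDim.Nine
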