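import Cfsg.Agent.Lib.Perm.Trans.ThreeDim.Nine.Parity
import Cfsg.Agent.Lib.Invol.ZStar
import Cfsg.Agent.Lib.FT.NoMinSimple

/-!
# A Sylow two-subgroup with a weakly closed involution
-/

set_option autoImplicit false
set_option linter.all false

namespace CfsgLib.Perm.Trans.ThreeDim.Nine

open scoped Matrix Kronecker
open Matrix CfsgLib.Perm.Trans.ThreeDim.Heis

variable {F : Type*} [Field F] [Fintype F] (ω : Root F)

local notation "M3" => Matrix (Fin 3) (Fin 3) F
local notation "G3" => GL (Fin 3) F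
local notation "M9" => Matrix I9 I9 F
local notation "G9" => GL I9 F
local notation "Z3" => Subgroup.center (GL (Fin 3) F)
local notation "N3" => Subgroup.normalizer (gR ω : Set (GL (Fin 3) F))

/-- the product of the two quaternion groups -/
def kQ (a b : G3) : G9 := l1 a * r1 b

omit [Fintype F] in
theorem kQ_mul (a b a' b' : G3) : kQ a b * kQ a' b' = kQ (a * a') (b * b') := by
  simp only [kQ, map_mul]
  rw [mul_assoc, ← mul_assoc (r1 b), (l1_commute_r1 a' b).symm.eq]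
  group

omit [Fintype F] in
theorem sw_kQ (a b : G3) : sw * kQ a b = kQ b a * (sw : G9) := by
  rw [kQ, kQ]
  calc sw * (l1 a * r1 b) = sw * l1 a * (sw * sw) * r1 b * (sw * sw) := by rw [sw_sq]; group
    _ = (sw * l1 a * sw) * (sw * r1 b * sw) * sw := by group
    _ = r1 a * l1 b * sw := by rw [sw_l1, sw_r1]
    _ = l1 b * r1 a * sw := by rw [(l1_commute_r1 b a).eq]

omit [Fintype F] in
theorem kQ_one : kQ (1 : G3) 1 = 1 := by rw [kQ, map_one, map_one, one_mul]

omit [Fintype F] in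
theorem kQ_inv (a b : G3) : (kQ a b : G9)⁻¹ = kQ a⁻¹ b⁻¹ :=
  inv_eq_of_mul_eq_one_right (by rw [kQ_mul, mul_inv_cancel, mul_inv_cancel, kQ_one])

/-- the group of order 128 -/
def S9 : Subgroup G9 where
  carrier := {x | ∃ a ∈ gQ ω, ∃ b ∈ gQ ω, x = kQ a b ∨ x = kQ a b * sw}
  mul_mem' := by
    rintro _ _ ⟨a, ha, b, hb, rfl | rfl⟩ ⟨a', ha', b', hb', rfl | rfl⟩
    · exact ⟨_, mul_mem ha ha', _, mul_mem hb hb', Or.inl (kQ_mul _ _ _ _)⟩
    · exact ⟨_, mul_mem ha ha', _, mul_mem hb hb', Or.inr (by rw [← mul_assoc, kQ_mul])⟩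
    · exact ⟨_, mul_mem ha hb', _, mul_mem hb ha', Or.inr (by rw [mul_assoc, sw_kQ, ← mul_assoc, kQ_mul])⟩
    · exact ⟨_, mul_mem ha hb', _, mul_mem hb ha', Or.inl (by
        rw [mul_assoc, ← mul_assoc sw, sw_kQ, mul_assoc (kQ b' a'), sw_sq, mul_one, kQ_mul])⟩
  one_mem' := ⟨1, one_mem _, 1, one_mem _, Or.inl kQ_one.symm⟩
  inv_mem' := by
    rintro _ ⟨a, ha, b, hb, rfl | rfl⟩
    · exact ⟨_, inv_mem ha, _, inv_mem hb, Or.inl (kQ_inv a b)⟩
    · exact ⟨_, inv_mem hb, _, inv_mem ha, Or.inr (by rw [_root_.mul_inv_rev, sw_inv, kQ_inv, sw_kQ])⟩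

theorem kQ_mem {a b : G3} (ha : a ∈ gQ ω) (hb : b ∈ gQ ω) : kQ a b ∈ S9 ω := ⟨a, ha, b, hb, Or.inl rfl⟩

theorem sw_mem_S9 : (sw : G9) ∈ S9 ω := ⟨1, one_mem _, 1, one_mem _, Or.inr (by rw [kQ_one, one_mul])⟩

theorem l1_mem_S9 {a : G3} (ha : a ∈ gQ ω) : l1 a ∈ S9 ω :=
  ⟨a, ha, 1, one_mem _, Or.inl (by rw [kQ, map_one, mul_one])⟩

theorem r1_mem_S9 {a : G3} (ha : a ∈ gQ ω) : r1 a ∈ S9 ω :=
  ⟨1, one_mem _, a, ha, Or.inl (by rw [kQ, map_one, one_mul])⟩

theorem S9_two : IsPGroup 2 (S9 ω) := by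
  have hQ4 : ∀ a ∈ gQ ω, a ^ 4 = 1 := fun a ha => by
    rw [show a ^ 4 = (a * a) * (a * a) by rw [pow_succ, pow_succ, pow_succ, pow_one]; group]
    rcases Q_sq ω ha with e | e <;> rw [e]
    · exact one_mul _
    · exact gT_sq
  have hk : ∀ a ∈ gQ ω, ∀ b ∈ gQ ω, (kQ a b) ^ 4 = 1 := fun a ha b hb => by
    rw [kQ, (l1_commute_r1 a b).mul_pow, ← map_pow, ← map_pow, hQ4 a ha, hQ4 b hb, map_one, map_one, one_mul]
  rintro ⟨x, a, ha, b, hb, rfl | rfl⟩
  · exact ⟨2, Subtype.ext (hk a ha b hb)⟩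
  · refine ⟨3, Subtype.ext ?_⟩
    show (kQ a b * sw) ^ (2 ^ 3) = 1
    rw [show (2 : ℕ) ^ 3 = 2 * 4 by norm_num, pow_mul, sq, mul_assoc, ← mul_assoc sw, sw_kQ,
      mul_assoc (kQ b a), sw_sq, mul_one, kQ_mul]
    exact hk _ (mul_mem ha hb) _ (mul_mem hb ha)

theorem S9_le {G H : Subgroup G9} (o : Over ω G H) : S9 ω ≤ H := by
  have hQ : ∀ a ∈ gQ ω, r1 a ∈ H := fun a ha => by
    induction ha using Subgroup.closure_induction with
    | mem x hx => rcases hx with rfl | rfl <;> exact o.Phi_mem _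
    | one => rw [map_one]; exact one_mem _
    | mul x y _ _ hx hy => rw [map_mul]; exact mul_mem hx hy
    | inv x _ hx => rw [map_inv]; exact inv_mem hx
  rintro _ ⟨a, ha, b, hb, rfl | rfl⟩
  · exact mul_mem (o.l1_mem (hQ a ha)) (hQ b hb)
  · exact mul_mem (mul_mem (o.l1_mem (hQ a ha)) (hQ b hb)) o.sw_mem

/-! ### Traces -/

omit [Fintype F] in
theorem trace_kQ (a b : G3) : (kQ a b : M9).trace = (a : M3).trace * (b : M3).trace := by
  rw [kQ, Units.val_mul, val_l1, val_r1, ← Matrix.mul_kronecker_mul, mul_one, one_mul, Matrix.trace_kronecker]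

omit [Fintype F] in
theorem kQ_apply (a b : G3) (x y i j : Fin 3) :
    (kQ a b : M9) (x, i) (y, j) = (a : M3) x y * (b : M3) i j := by
  rw [kQ, Units.val_mul, val_l1, val_r1, ← Matrix.mul_kronecker_mul, mul_one, one_mul, Matrix.kroneckerMap_apply]

omit [Fintype F] in
theorem trace_kQ_sw (a b : G3) : ((kQ a b * sw : G9) : M9).trace = -((a : M3) * (b : M3)).trace := by
  have e : ∀ x i : Fin 3, ((kQ a b * sw : G9) : M9) (x, i) (x, i) = -((a : M3) x i * (b : M3) i x) := fun x i => by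
    show ((kQ a b : M9) * (swM : M9)) (x, i) (x, i) = _
    rw [mul_swM_apply, kQ_apply]
  simp only [Matrix.trace, Matrix.diag_apply, Fintype.sum_prod_type, e, Matrix.mul_apply]
  simp only [← Finset.sum_neg_distrib]

theorem trace_gT : ((gT : G3) : M3).trace = -1 := by
  rw [val_gT, Matrix.trace_fin_three]
  simp [tm]

/-- the weakly closed involution -/
def tt : G9 := kQ gT gT

theorem tt_mem : tt ∈ S9 ω := kQ_mem ω (gT_mem_Q ω) (gT_mem_Q ω)

theorem tt_sq : (tt : G9) * tt = 1 := by rw [tt, kQ_mul, gT_sq, kQ_one]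

theorem trace_tt : ((tt : G9) : M9).trace = 1 := by rw [tt, trace_kQ, trace_gT]; norm_num

theorem trace_ne (h2 : (2 : F) ≠ 0) : (-3 : F) ≠ 1 ∧ (9 : F) ≠ 1 ∧ (-1 : F) ≠ 3 :=
  ⟨fun h => h2 (mul_left_cancel₀ h2 (by linear_combination -h)),
    fun h => h2 (mul_left_cancel₀ h2 (mul_left_cancel₀ h2 (by linear_combination (h : (9 : F) = 1) + 0))),
    fun h => h2 (mul_left_cancel₀ h2 (by linear_combination -h))⟩

theorem trace_three : ((1 : G3) : M3).trace = 3 := by
  rw [Units.val_one, Matrix.trace_one, Fintype.card_fin]; norm_num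

/-- involutions of trace one -/
theorem eq_tt (h2 : (2 : F) ≠ 0) {x : G9} (hx : x ∈ S9 ω) (hx2 : x * x = 1) (htr : (x : M9).trace = 1) :
    x = tt := by
  obtain ⟨hA, hB, -⟩ := trace_ne (F := F) h2
  obtain ⟨a, ha, b, hb, rfl | rfl⟩ := hx
  · rw [kQ_mul] at hx2
    have hob : ∀ u ∈ gQ ω, ∀ v : G3, ob (kQ u v : M9) = (v : M3) := fun u hu v => by
      ext i j
      rw [ob_apply, kQ_apply, kQ_apply, ← sub_mul, Q_odd ω hu, one_mul]
    have hb' : b * b = 1 := Units.ext (by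
      rw [← hob _ (mul_mem ha ha) (b * b), hx2]
      rw [← map_one (r1 : G3 →* G9), ob_r1])
    have ha' : a * a = 1 := Units.ext (by
      have e : kQ (b * b) (a * a) = 1 := by
        rw [← mul_left_cancel_iff (a := sw), sw_kQ, hx2, one_mul, mul_one]
      rw [← hob _ (mul_mem hb hb) (a * a), e]
      rw [← map_one (r1 : G3 →* G9), ob_r1])
    rw [trace_kQ] at htr
    rcases Q_invol ω h2 ha ha' with rfl | rfl <;> rcases Q_invol ω h2 hb hb' with rfl | rfl <;>
      simp only [trace_three, trace_gT] at htr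
    · exact absurd (by linear_combination htr) hB
    · exact absurd (by linear_combination htr) hA
    · exact absurd (by linear_combination htr) hA
    · rfl
  · rw [mul_assoc, ← mul_assoc sw, sw_kQ, mul_assoc (kQ b a), sw_sq, mul_one, kQ_mul] at hx2
    have hob : ∀ v : G3, ob (kQ (a * b) v : M9) = (v : M3) := fun v => by
      ext i j
      rw [ob_apply, kQ_apply, kQ_apply, ← sub_mul, Q_odd ω (mul_mem ha hb), one_mul]
    have hba : b * a = 1 := Units.ext (by
      rw [← hob, hx2, ← map_one (r1 : G3 →* G9), ob_r1])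
    rw [trace_kQ_sw, ← Units.val_mul, mul_eq_one_comm.1 hba, trace_three] at htr
    exact absurd (by linear_combination htr) hA

/-- involutions of trace minus three that are squares -/
theorem square_cases (h2 : (2 : F) ≠ 0) {y : G9} (hy : y ∈ S9 ω) (htr : ((y * y : G9) : M9).trace = -3) :
    ∃ a ∈ gQ ω, ∃ b ∈ gQ ω, y = kQ a b ∧
      ((a * a = gT ∧ b * b = 1 ∧ y * y = l1 gT) ∨ (a * a = 1 ∧ b * b = gT ∧ y * y = r1 gT)) := by
  obtain ⟨hA, hB, -⟩ := trace_ne (F := F) h2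
  obtain ⟨a, ha, b, hb, rfl | rfl⟩ := hy
  · refine ⟨a, ha, b, hb, rfl, ?_⟩
    rw [kQ_mul] at htr ⊢
    rw [trace_kQ] at htr
    rcases Q_sq ω ha with e | e <;> rcases Q_sq ω hb with e' | e' <;> rw [e, e'] at htr ⊢ <;>
      simp only [trace_three, trace_gT] at htr
    · exact absurd (show (-3 : F) = 9 by linear_combination -htr) fun h => h2 (mul_left_cancel₀ h2
        (mul_left_cancel₀ ω.three (by linear_combination -h)))
    · exact Or.inr ⟨rfl, rfl, by rw [kQ, map_one, one_mul]⟩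
    · exact Or.inl ⟨rfl, rfl, by rw [kQ, map_one, mul_one]⟩
    · exact absurd (by linear_combination -htr) hA
  · exfalso
    rw [mul_assoc, ← mul_assoc sw, sw_kQ, mul_assoc (kQ b a), sw_sq, mul_one, kQ_mul, trace_kQ] at htr
    rw [Units.val_mul, Units.val_mul, Matrix.trace_mul_comm (b : M3), ← Units.val_mul] at htr
    rcases Q_sq ω (mul_mem ha hb) with e | e
    · rcases Q_invol ω h2 (mul_mem ha hb) e with e' | e' <;> rw [e'] at htr <;>
        simp only [trace_three, trace_gT] at htr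
      · exact h2 (mul_left_cancel₀ h2 (mul_left_cancel₀ ω.three (by linear_combination htr)))
      · exact hA (by linear_combination -htr)
    · rw [Q_trace ω h2 (mul_mem ha hb) e, one_mul] at htr
      exact hA htr.symm

end CfsgLib.Perm.Trans.ThreeDim.Nine
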