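import Cfsg.Agent.Lib.Perm.Trans.ThreeDim.Nine.Sylow

/-!
# The group of order 128 is a Sylow subgroup of the overgroup
-/

set_option autoImplicit false
set_option linter.all false

namespace CfsgLib.Perm.Trans.ThreeDim.Nine

open scoped Matrix Kronecker
open Matrix CfsgLib.Perm.Trans.ThreeDim.Heis

variable {F : Type*} [Field F] [Fintype F] (ω : Root F)

local notation "M3" => Matrix (Fin 3) (Fin 3) F
local notation "G3" => GL (Fin 3) F
local notation "M9" => Matrix I9 I9 F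
local notation "G9" => GL I9 F
local notation "Z3" => Subgroup.center (GL (Fin 3) F)
local notation "N3" => Subgroup.normalizer (gR ω : Set (GL (Fin 3) F))

theorem trace_conj (h x : G9) : ((h * x * h⁻¹ : G9) : M9).trace = (x : M9).trace := by
  rw [Units.val_mul, Matrix.trace_mul_comm, ← Units.val_mul, inv_mul_cancel_left]

/-- elements normalising `S` and fixing the left parity normalise the left quaternions -/
theorem left_quat (h2 : (2 : F) ≠ 0) {h : G9} (hS : ∀ x ∈ S9 ω, h * x * h⁻¹ ∈ S9 ω)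
    (hfix : h * l1 gT * h⁻¹ = l1 gT) : ∀ q ∈ gQ ω, ∃ q' ∈ gQ ω, h * l1 q * h⁻¹ = l1 q' := by
  obtain ⟨hA, hB, hC⟩ := trace_ne (F := F) h2
  have key : ∀ k < 3, ∃ q' ∈ gQ ω, h * l1 (gPhi ω k) * h⁻¹ = l1 q' := by
    intro k hk
    obtain ⟨y, hy⟩ : ∃ y, y = h * l1 (gPhi ω k) * h⁻¹ := ⟨_, rfl⟩
    have hyS : y ∈ S9 ω := hy ▸ hS _ (l1_mem_S9 ω (gPhi_mem_Q ω k hk))
    have hsq : y * y = l1 gT := by
      rw [hy, show h * l1 (gPhi ω k) * h⁻¹ * (h * l1 (gPhi ω k) * h⁻¹) = h * (l1 (gPhi ω k) * l1 (gPhi ω k)) * h⁻¹ by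
        group, ← map_mul, gPhi_sq, hfix]
    have htrl : ((l1 gT : G9) : M9).trace = -3 := by
      rw [show (l1 gT : G9) = kQ gT 1 by rw [kQ, map_one, mul_one], trace_kQ, trace_gT, trace_three]; norm_num
    obtain ⟨a, ha, b, hb, rfl, hcase⟩ := square_cases ω h2 hyS (by rw [hsq, htrl])
    have htr : (kQ a b : M9).trace = 3 := by
      rw [hy, trace_conj, show (l1 (gPhi ω k) : G9) = kQ (gPhi ω k) 1 by rw [kQ, map_one, mul_one], trace_kQ,
        Q_trace ω h2 (gPhi_mem_Q ω k hk) (gPhi_sq ω k), trace_three, one_mul]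
    rw [trace_kQ] at htr
    rcases hcase with ⟨haT, hb1, -⟩ | ⟨ha1, hbT, e⟩
    · rw [Q_trace ω h2 ha haT, one_mul] at htr
      rcases Q_invol ω h2 hb hb1 with rfl | rfl
      · exact ⟨a, ha, by rw [← hy, kQ, map_one, mul_one]⟩
      · rw [trace_gT] at htr
        exact absurd htr hC
    · exfalso
      rw [hsq] at e
      have h' := congrArg (fun w : G9 => (w : M9) (0, 0) (1, 1)) e
      have h'' := congrArg (fun w : G9 => (w : M9) (1, 0) (2, 0)) e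
      simp [l1_apply, r1_apply, val_gT, tm] at h''
  intro q hq
  induction hq using Subgroup.closure_induction with
  | mem x hx =>
    rcases hx with rfl | rfl
    · exact key 0 (by norm_num)
    · exact key 1 (by norm_num)
  | one => exact ⟨1, one_mem _, by simp⟩
  | mul x y _ _ hx hy =>
    obtain ⟨x', hx', ex⟩ := hx
    obtain ⟨y', hy', ey⟩ := hy
    exact ⟨x' * y', mul_mem hx' hy', by rw [map_mul, map_mul, ← ex, ← ey]; group⟩
  | inv x _ hx =>
    obtain ⟨x', hx', ex⟩ := hx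
    exact ⟨x'⁻¹, inv_mem hx', by rw [map_inv, map_inv, ← ex]; group⟩

/-- the parity centraliser -/
theorem mem_cent {h : G9} (hfix : h * l1 gT * h⁻¹ = l1 gT) :
    h ∈ Subgroup.centralizer ({l1 gT} : Set G9) :=
  Subgroup.mem_centralizer_singleton_iff.2 (mul_inv_eq_iff_eq_mul.1 hfix)

theorem r1_mem_cent (A : G3) : r1 A ∈ Subgroup.centralizer ({l1 gT} : Set G9) :=
  Subgroup.mem_centralizer_singleton_iff.2 (l1_commute_r1 gT A).symm.eq

theorem l1Q_mem_cent {a : G3} (ha : a ∈ gQ ω) : l1 a ∈ Subgroup.centralizer ({l1 gT} : Set G9) :=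
  Subgroup.mem_centralizer_singleton_iff.2 ((Q_commute_gT ω ha).map l1).eq

theorem obG_r1 (A : G3) : obG ⟨r1 A, r1_mem_cent A⟩ = A := Units.ext (by rw [val_obG, ob_r1])

theorem obG_l1Q {a : G3} (ha : a ∈ gQ ω) : obG ⟨l1 a, l1Q_mem_cent ω ha⟩ = 1 :=
  Units.ext (by rw [val_obG, ob_l1, Q_odd ω ha, one_smul, Units.val_one])

variable {ω}
variable {U : Subgroup (GL (Fin 3) F)} {G H : Subgroup (GL I9 F)}

/-- the odd block of a two-element normalising `S` is a quaternion times a scalar -/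
theorem obG_shape (c : Ctx ω U G) (o : Over ω G H) (hN : ∀ g ∈ Ks H, ∀ x, g x ∈ N3) {h : G9} (hh : h ∈ H)
    {n : ℕ} (hn : h ^ 2 ^ n = 1) (hfix : h * l1 gT * h⁻¹ = l1 gT) (hfix' : h * r1 gT * h⁻¹ = r1 gT)
    (hl : ∀ q ∈ gQ ω, ∃ q' ∈ gQ ω, h * l1 q * h⁻¹ = l1 q') (hr : ∀ q ∈ gQ ω, ∃ q' ∈ gQ ω, h * r1 q * h⁻¹ = r1 q') :
    ∃ q ∈ gQ ω, ∃ s : F, ob (h : M9) = s • (q : M3) := by
  classical
  have hl' : ∀ q ∈ gQ ω, ∃ q' ∈ gQ ω, h⁻¹ * l1 q * h = l1 q' := by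
    intro q hq
    choose f hf hfe using fun x : gQ ω => hl x x.2
    let g : gQ ω → gQ ω := fun x => ⟨f x, hf x⟩
    have hinj : Function.Injective g := fun x y e => by
      have e' : h * l1 (x : G3) * h⁻¹ = h * l1 (y : G3) * h⁻¹ := by
        rw [hfe, hfe]; exact congrArg l1 (congrArg Subtype.val e)
      have e'' := mul_left_cancel (mul_right_cancel e')
      refine Subtype.ext (Units.ext ?_)
      ext i j
      have := congrArg (fun w : G9 => (w : M9) (i, 0) (j, 0)) e''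
      simpa [l1_apply] using this
    obtain ⟨x, hx⟩ := (Finite.injective_iff_surjective.1 hinj) ⟨q, hq⟩
    refine ⟨x, x.2, ?_⟩
    rw [← show f x = q from congrArg Subtype.val hx, ← hfe x]
    group
  obtain ⟨hb, hhb⟩ : ∃ hb : Subgroup.centralizer ({l1 gT} : Set G9), hb = ⟨h, mem_cent hfix⟩ := ⟨_, rfl⟩
  have hv : ((hb : G9)) = h := by rw [hhb]
  have hN' := obG_normalize c o hN hb (hv.symm ▸ hh) (by rw [hv]; exact hl')
  have hT : Commute (obG hb) gT := by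
    have h0 : Commute hb ⟨r1 gT, r1_mem_cent gT⟩ := Subtype.ext ?_
    · have h0' := h0.map obG
      rwa [obG_r1] at h0'
    show (hb : G9) * r1 gT = r1 gT * (hb : G9)
    rw [hv]
    exact mul_inv_eq_iff_eq_mul.1 hfix'
  have hQ : ∀ q ∈ gQ ω, obG hb * q * (obG hb)⁻¹ ∈ gQ ω := fun q hq => by
    obtain ⟨q', hq', e⟩ := hr q hq
    conv => arg 2; rw [← obG_r1 q, ← map_inv, ← map_mul, ← map_mul]
    rw [show hb * ⟨r1 q, r1_mem_cent q⟩ * hb⁻¹ = (⟨r1 q', r1_mem_cent q'⟩ : Subgroup.centralizer ({l1 gT} : Set G9))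
      from Subtype.ext (by show (hb : G9) * r1 q * (hb : G9)⁻¹ = r1 q'; rw [hv]; exact e), obG_r1]
    exact hq'
  have hpow : (obG hb) ^ 2 ^ n = 1 := by
    rw [← map_pow, show hb ^ 2 ^ n = 1 from Subtype.ext (by rw [SubgroupClass.coe_pow, hv]; exact hn), map_one]
  obtain ⟨q, hq, s, hs⟩ := scalar_Q ω hN' hT hQ hpow
  exact ⟨q, hq, s, by rw [← hs, val_obG, hv]⟩

variable (ω) in
/-- two-elements of `H` normalising both quaternion groups have a quaternion as odd block -/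
def OddShape (H : Subgroup G9) : Prop :=
  ∀ h ∈ H, ∀ n : ℕ, h ^ 2 ^ n = 1 → h * l1 gT * h⁻¹ = l1 gT → h * r1 gT * h⁻¹ = r1 gT →
    (∀ q ∈ gQ ω, ∃ q' ∈ gQ ω, h * l1 q * h⁻¹ = l1 q') → (∀ q ∈ gQ ω, ∃ q' ∈ gQ ω, h * r1 q * h⁻¹ = r1 q') →
      ∃ q ∈ gQ ω, ∃ s : F, ob (h : M9) = s • (q : M3)

/-- two-elements normalising `S` and fixing both parities lie in `S` -/
theorem mem_S9_of_fix (c : Base ω U G) (o : Over ω G H)
    (hfk : ∀ a, (a, (1 : G3)) ∈ Kp c.two H → a = 1) (hshape : OddShape ω H) {P : Subgroup G9}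
    (hP : IsPGroup 2 P) (hSP : S9 ω ≤ P) (hPH : P ≤ H) {h : G9} (hh : h ∈ P)
    (hS : ∀ x ∈ S9 ω, h * x * h⁻¹ ∈ S9 ω) (hfix : h * l1 gT * h⁻¹ = l1 gT) (hfix' : h * r1 gT * h⁻¹ = r1 gT) :
    h ∈ S9 ω := by
  have h2 := c.two
  have hswS := sw_mem_S9 ω
  have main : ∀ k ∈ P, (∀ x ∈ S9 ω, k * x * k⁻¹ ∈ S9 ω) → k * l1 gT * k⁻¹ = l1 gT → k * r1 gT * k⁻¹ = r1 gT →
      (∀ q ∈ gQ ω, ∃ q' ∈ gQ ω, k * r1 q * k⁻¹ = r1 q') ∧ ∃ q ∈ gQ ω, ∃ s : F, ob (k : M9) = s • (q : M3) := by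
    intro k hk hkS hkf hkf'
    have hr : ∀ q ∈ gQ ω, ∃ q' ∈ gQ ω, k * r1 q * k⁻¹ = r1 q' := by
      intro q hq
      have hsw : ∀ x, (sw * k * sw) * x * (sw * k * sw)⁻¹ = sw * (k * (sw * x * sw) * k⁻¹) * sw := fun x => by
        rw [_root_.mul_inv_rev, _root_.mul_inv_rev, sw_inv]; group
      obtain ⟨q', hq', e⟩ := left_quat ω h2 (h := sw * k * sw)
        (fun x hx => by rw [hsw]; exact mul_mem (mul_mem hswS (hkS _ (mul_mem (mul_mem hswS hx) hswS))) hswS)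
        (by rw [hsw, sw_l1, hkf', sw_r1]) q hq
      refine ⟨q', hq', ?_⟩
      rw [hsw, sw_l1] at e
      rw [← sw_l1 q', ← e]
      calc k * r1 q * k⁻¹ = (sw * sw) * (k * r1 q * k⁻¹) * (sw * sw) := by rw [sw_sq, one_mul, mul_one]
        _ = _ := by group
    obtain ⟨n, hn⟩ := hP ⟨k, hk⟩
    exact ⟨hr, hshape k (hPH hk) n (congrArg Subtype.val hn) hkf hkf' (left_quat ω h2 hkS hkf) hr⟩
  obtain ⟨-, q, hq, s, hs⟩ := main h hh hS hfix hfix'
  have hswh : ∀ x, (sw * h * sw) * x * (sw * h * sw)⁻¹ = sw * (h * (sw * x * sw) * h⁻¹) * sw := fun x => by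
    rw [_root_.mul_inv_rev, _root_.mul_inv_rev, sw_inv]; group
  obtain ⟨-, q', hq', s', hs'⟩ := main (sw * h * sw) (mul_mem (mul_mem (hSP hswS) hh) (hSP hswS))
    (fun x hx => by rw [hswh]; exact mul_mem (mul_mem hswS (hS _ (mul_mem (mul_mem hswS hx) hswS))) hswS)
    (by rw [hswh, sw_l1, hfix', sw_r1]) (by rw [hswh, sw_r1, hfix, sw_l1])
  -- divide by the quaternions
  obtain ⟨k, hk⟩ : ∃ k, k = kQ q'⁻¹ q⁻¹ * h := ⟨_, rfl⟩
  have hkk : kQ q'⁻¹ q⁻¹ ∈ S9 ω := kQ_mem ω (inv_mem hq') (inv_mem hq)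
  have hkP : k ∈ P := hk ▸ mul_mem (hSP hkk) hh
  have hkS : ∀ x ∈ S9 ω, k * x * k⁻¹ ∈ S9 ω := fun x hx => by
    rw [hk, show kQ q'⁻¹ q⁻¹ * h * x * (kQ q'⁻¹ q⁻¹ * h)⁻¹ =
      kQ q'⁻¹ q⁻¹ * (h * x * h⁻¹) * (kQ q'⁻¹ q⁻¹)⁻¹ by group]
    exact mul_mem (mul_mem hkk (hS x hx)) (inv_mem hkk)
  have hconjfix : ∀ a b A B : G3, Commute a A → Commute b B → kQ a b * kQ A B * (kQ a b)⁻¹ = kQ A B :=
    fun a b A B h1 h2' => by rw [kQ_inv, kQ_mul, kQ_mul, h1.eq, h2'.eq, mul_inv_cancel_right, mul_inv_cancel_right]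
  have el : (l1 gT : G9) = kQ gT 1 := by rw [kQ, map_one, mul_one]
  have er : (r1 gT : G9) = kQ 1 gT := by rw [kQ, map_one, one_mul]
  have hTq' := Q_commute_gT ω (inv_mem hq')
  have hTq := Q_commute_gT ω (inv_mem hq)
  have hkf : k * l1 gT * k⁻¹ = l1 gT := by
    rw [hk, show kQ q'⁻¹ q⁻¹ * h * l1 gT * (kQ q'⁻¹ q⁻¹ * h)⁻¹ =
      kQ q'⁻¹ q⁻¹ * (h * l1 gT * h⁻¹) * (kQ q'⁻¹ q⁻¹)⁻¹ by group, hfix, el]
    exact hconjfix _ _ _ _ hTq' (Commute.one_right _)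
  have hkf' : k * r1 gT * k⁻¹ = r1 gT := by
    rw [hk, show kQ q'⁻¹ q⁻¹ * h * r1 gT * (kQ q'⁻¹ q⁻¹ * h)⁻¹ =
      kQ q'⁻¹ q⁻¹ * (h * r1 gT * h⁻¹) * (kQ q'⁻¹ q⁻¹)⁻¹ by group, hfix', er]
    exact hconjfix _ _ _ _ (Commute.one_right _) hTq
  have hkc : k ∈ Subgroup.centralizer ({l1 gT} : Set G9) := mem_cent hkf
  have hobk : ob (k : M9) = s • (1 : M3) := by
    rw [hk, Units.val_mul, ob_mul _ (Subgroup.mem_centralizer_singleton_iff.1 (mem_cent hfix)), kQ, Units.val_mul,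
      ob_mul _ (Subgroup.mem_centralizer_singleton_iff.1 (r1_mem_cent q⁻¹)), ob_l1, Q_odd ω (inv_mem hq'), one_smul,
      one_mul, ob_r1, hs, Matrix.mul_smul, Units.inv_mul]
  have hobk' : ob ((sw * k * sw : G9) : M9) = s' • (1 : M3) := by
    rw [hk, show sw * (kQ q'⁻¹ q⁻¹ * h) * sw = kQ q⁻¹ q'⁻¹ * (sw * h * sw) by
        rw [← mul_assoc sw, sw_kQ]; group,
      Units.val_mul,
      ob_mul _ (Subgroup.mem_centralizer_singleton_iff.1 (mem_cent (h := sw * h * sw)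
        (by rw [hswh, sw_l1, hfix', sw_r1]))), kQ, Units.val_mul,
      ob_mul _ (Subgroup.mem_centralizer_singleton_iff.1 (r1_mem_cent q'⁻¹)), ob_l1, Q_odd ω (inv_mem hq), one_smul,
      one_mul, ob_r1, hs', Matrix.mul_smul, Units.inv_mul]
  -- `k` commutes with the quaternions
  have hkr : ∀ r ∈ gQ ω, k * r1 r * k⁻¹ = r1 r := by
    intro r hr
    obtain ⟨r', hr', e⟩ := (main k hkP hkS hkf hkf').1 r hr
    have e' : k * r1 r = r1 r' * k := mul_inv_eq_iff_eq_mul.1 e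
    have h1 := congrArg (fun w : G9 => ob (w : M9)) e'
    simp only [Units.val_mul] at h1
    rw [ob_mul _ (Subgroup.mem_centralizer_singleton_iff.1 (r1_mem_cent r)),
      ob_mul _ (Subgroup.mem_centralizer_singleton_iff.1 hkc), hobk, ob_r1, ob_r1, Matrix.smul_mul, Matrix.one_mul,
      Matrix.mul_smul, Matrix.mul_one] at h1
    have hs0 : s ≠ 0 := fun h0 => by
      obtain ⟨u, hu⟩ : ∃ u : G3, (u : M3) = ob (k : M9) := ⟨obG ⟨k, hkc⟩, val_obG _⟩
      rw [hobk, h0, zero_smul] at hu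
      exact Units.ne_zero u hu
    rw [e, show r' = r from Units.ext (smul_right_injective M3 hs0 h1).symm]
  have hkswk : ∀ x, (sw * k * sw) * x * (sw * k * sw)⁻¹ = sw * (k * (sw * x * sw) * k⁻¹) * sw := fun x => by
    rw [_root_.mul_inv_rev, _root_.mul_inv_rev, sw_inv]; group
  have hkl : ∀ r ∈ gQ ω, k * l1 r * k⁻¹ = l1 r := by
    intro r hr
    have hk2P : sw * k * sw ∈ P := mul_mem (mul_mem (hSP hswS) hkP) (hSP hswS)
    have hk2f : (sw * k * sw) * l1 gT * (sw * k * sw)⁻¹ = l1 gT := by rw [hkswk, sw_l1, hkf', sw_r1]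
    obtain ⟨r', hr', e⟩ := (main (sw * k * sw) hk2P
      (fun x hx => by rw [hkswk]; exact mul_mem (mul_mem hswS (hkS _ (mul_mem (mul_mem hswS hx) hswS))) hswS)
      hk2f (by rw [hkswk, sw_r1, hkf, sw_l1])).1 r hr
    have e' : sw * k * sw * r1 r = r1 r' * (sw * k * sw) := mul_inv_eq_iff_eq_mul.1 e
    have h1 := congrArg (fun w : G9 => ob (w : M9)) e'
    rw [Units.val_mul _ (r1 r), Units.val_mul (r1 r'),
      ob_mul _ (Subgroup.mem_centralizer_singleton_iff.1 (r1_mem_cent r)),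
      ob_mul _ (Subgroup.mem_centralizer_singleton_iff.1 (mem_cent hk2f)), hobk', ob_r1, ob_r1, Matrix.smul_mul,
      Matrix.one_mul, Matrix.mul_smul, Matrix.mul_one] at h1
    have hs0 : s' ≠ 0 := fun h0 => by
      obtain ⟨u, hu⟩ : ∃ u : G3, (u : M3) = ob ((sw * k * sw : G9) : M9) := ⟨obG ⟨_, mem_cent hk2f⟩, val_obG _⟩
      rw [hobk', h0, zero_smul] at hu
      exact Units.ne_zero u hu
    rw [show r' = r from Units.ext (smul_right_injective M3 hs0 h1).symm, hkswk, sw_r1] at e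
    calc k * l1 r * k⁻¹ = sw * (sw * (k * l1 r * k⁻¹) * sw) * sw := by
          rw [show sw * (sw * (k * l1 r * k⁻¹) * sw) * sw = (sw * sw) * (k * l1 r * k⁻¹) * (sw * sw) by group,
            sw_sq, one_mul, mul_one]
      _ = sw * r1 r * sw := by rw [e]
      _ = l1 r := sw_r1 r
  obtain ⟨a, b, hab⟩ := exists_pr ω h2 (mul_inv_eq_iff_eq_mul.1 (hkl _ (gPhi_mem_Q ω 0 (by norm_num))))
    (mul_inv_eq_iff_eq_mul.1 (hkl _ (gPhi_mem_Q ω 1 (by norm_num))))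
  have hb : (b : M3) = s • 1 := by rw [← hobk, hab, ob_pr]
  have haQ : ∀ r ∈ gQ ω, (a : M3) * (r : M3) = (r : M3) * (a : M3) := fun r hr => by
    have e := mul_inv_eq_iff_eq_mul.1 (hkr r hr)
    rw [hab, ← pr_self h2, ← map_mul, ← map_mul] at e
    exact congrArg (fun w : G3 × G3 => (w.1 : M3)) (pr_injective h2 e)
  have ha := eo_of_commute ω h2 (M := (a : M3))
    (by simpa [val_gPhi] using haQ _ (gPhi_mem_Q ω 0 (by norm_num)))
    (by simpa [val_gPhi] using haQ _ (gPhi_mem_Q ω 1 (by norm_num)))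
  have hss : s' = (a : M3) 1 1 - (a : M3) 1 2 ∧ s' = s := by
    have e : ∀ i, ((sw * k * sw : G9) : M9) (1, i) (1, i) - ((sw * k * sw : G9) : M9) (1, i) (2, i) = s' := fun i => by
      rw [← ob_apply, hobk']; simp
    have e0 := e 0
    have e1 := e 1
    simp only [sw_conj_apply, hab, val_pr, prM_apply, hb] at e0 e1
    simp [em, om] at e0 e1
    refine ⟨e0.symm, ?_⟩
    field_simp at e1
    linear_combination -e1 + e0
  -- the kernel
  have hkH : pr h2 (a, b) ∈ H := hab ▸ hPH hkP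
  have hcomm : ∀ r ∈ gR ω, a * r * a⁻¹ * r⁻¹ = 1 := fun r hr => by
    refine hfk _ (mem_Kp.2 ⟨?_, ?_, by rw [Units.val_one, Matrix.det_one]⟩)
    · have hbc : b * r * b⁻¹ * r⁻¹ = 1 := by
        rw [mul_inv_eq_one, mul_inv_eq_iff_eq_mul]
        exact Units.ext (by rw [Units.val_mul, Units.val_mul, hb, Matrix.smul_mul, Matrix.one_mul, Matrix.mul_smul, Matrix.mul_one])
      have e : pr c.two (a * r * a⁻¹ * r⁻¹, 1) = pr h2 (a, b) * r1 r * (pr h2 (a, b))⁻¹ * (r1 r)⁻¹ := by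
        rw [← pr_self h2, ← map_inv, ← map_inv, ← map_mul, ← map_mul, ← map_mul]
        conv_lhs => rw [← hbc]
        rfl
      rw [e]
      exact mul_mem (mul_mem (mul_mem hkH (o.R_mem r hr)) (inv_mem hkH)) (inv_mem (o.R_mem r hr))
    · rw [Units.val_mul, Units.val_mul, Units.val_mul, Matrix.det_mul, Matrix.det_mul, Matrix.det_mul,
        det_of_mem_gR ω hr, det_of_mem_gR ω (inv_mem hr), mul_one, mul_one, ← Matrix.det_mul, Units.mul_inv,
        Matrix.det_one]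
  have hac : (a : M3) = (a : M3) 0 0 • 1 := scalar_of_commute ω
    (mul_inv_eq_iff_eq_mul.1 (mul_inv_eq_one.1 (hcomm _ (gD_mem ω))))
    (mul_inv_eq_iff_eq_mul.1 (mul_inv_eq_one.1 (hcomm _ (gS_mem ω))))
  have hab' : a = b := by
    refine Units.ext ?_
    rw [hac, hb, ← hss.2, hss.1, hac]
    simp
  have hks : k = r1 b := by rw [hab, hab', pr_self]
  have hs9 : s ^ 9 = 1 := by
    have := c.det_G _ (o.le (hPH hkP))
    rw [hks, det_r1, hb, Matrix.det_smul, Matrix.det_one, mul_one, Fintype.card_fin, ← pow_mul] at this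
    exact this
  obtain ⟨n, hn⟩ := hP ⟨k, hkP⟩
  have hsn : s ^ 2 ^ n = 1 := by
    have e : (b : M3) ^ 2 ^ n = 1 := by
      have h1 : r1 b ^ 2 ^ n = 1 := by rw [← hks]; exact congrArg Subtype.val hn
      rw [← map_pow] at h1
      rw [← Units.val_pow_eq_pow_val, r1_injective (h1.trans (map_one r1).symm), Units.val_one]
    rw [hb, smul_pow, one_pow] at e
    have := congrFun (congrFun e 0) 0
    simpa using this
  have hs1 : s = 1 := by
    have h3 := (pow_gcd_eq_one (a := s) (m := 9) (n := 2 ^ n)).2 ⟨hs9, hsn⟩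
    rwa [Nat.Coprime.gcd_eq_one (Nat.Coprime.pow_right n (by norm_num)), pow_one] at h3
  have hk1 : k = 1 := by
    rw [hks, show b = 1 from Units.ext (by rw [hb, hs1, one_smul, Units.val_one]), map_one]
  rw [hk] at hk1
  rw [← inv_eq_of_mul_eq_one_right hk1]
  exact inv_mem hkk

end CfsgLib.Perm.Trans.ThreeDim.Nine
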